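import Cfsg.Agent.Fusion.PResidual

/-!
# Normal p-complements
-/

set_option autoImplicit false

namespace Cfsg.Agent.Fusion

open Subgroup

universe u v

variable {G : Type u} [Group G] {H : Type v} [Group H] {p : ℕ}

/-- In the presence of a normal subgroup of order prime to `p` with `p`-group quotient, that
subgroup consists of exactly the elements of order prime to `p`. -/
theorem mem_iff_coprime_orderOf [Fact p.Prime] {N : Subgroup G} [N.Normal]
    (hN : ¬ p ∣ Nat.card N) (hQ : IsPGroup p (G ⧸ N)) {g : G} :
    g ∈ N ↔ Nat.Coprime (orderOf g) p := by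
  have hp : p.Prime := Fact.out
  refine ⟨fun hg => ?_, fun hg => pResidual_le_of_quotient hQ (mem_pResidual hg)⟩
  exact (hp.coprime_iff_not_dvd.mpr hN).symm.coprime_dvd_left (N.orderOf_dvd_natCard hg)

theorem eq_pResidual [Fact p.Prime] {N : Subgroup G} [N.Normal]
    (hN : ¬ p ∣ Nat.card N) (hQ : IsPGroup p (G ⧸ N)) : N = pResidual p G :=
  le_antisymm (fun _ hg => mem_pResidual ((mem_iff_coprime_orderOf hN hQ).mp hg))
    (pResidual_le_of_quotient hQ)

variable [Finite G] [Fact p.Prime]

theorem not_dvd_card_of_isComplement' {N : Subgroup G} (P : Sylow p G)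
    (h : N.IsComplement' (P : Subgroup G)) : ¬ p ∣ Nat.card N :=
  h.index_eq_card ▸ P.not_dvd_index

theorem isPGroup_quotient_of_isComplement' {N : Subgroup G} [N.Normal] (P : Sylow p G)
    (h : N.IsComplement' (P : Subgroup G)) : IsPGroup p (G ⧸ N) := by
  obtain ⟨n, hn⟩ := IsPGroup.iff_card.mp P.isPGroup'
  exact IsPGroup.of_card (n := n) (by rw [← index_eq_card, h.symm.index_eq_card, hn])

theorem isComplement'_of_quotient {N : Subgroup G} [N.Normal] (hN : ¬ p ∣ Nat.card N)
    (hQ : IsPGroup p (G ⧸ N)) (P : Sylow p G) : N.IsComplement' (P : Subgroup G) := by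
  have hp : p.Prime := Fact.out
  obtain ⟨a, ha⟩ := IsPGroup.iff_card.mp P.isPGroup'
  have hc : Nat.Coprime (Nat.card N) (Nat.card P) := by
    rw [ha]; exact (hp.coprime_iff_not_dvd.mpr hN).symm.pow_right a
  refine isComplement'_of_disjoint_and_mul_eq_univ (disjoint_of_coprime_natCard hc) ?_
  rw [← normal_mul, sup_comm,
    sylow_sup_eq_top P (pResidual_le_of_quotient hQ), coe_top]

theorem hasNormalPComplement_of_quotient {N : Subgroup G} [hn : N.Normal]
    (hN : ¬ p ∣ Nat.card N) (hQ : IsPGroup p (G ⧸ N)) : HasNormalPComplement p G :=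
  ⟨default, N, hn, isComplement'_of_quotient hN hQ default⟩

theorem hasNormalPComplement_iff_pResidual :
    HasNormalPComplement p G ↔ ¬ p ∣ Nat.card (pResidual p G) := by
  refine ⟨?_, fun h => hasNormalPComplement_of_quotient h isPGroup_quotient_pResidual⟩
  rintro ⟨P, N, hn, hc⟩
  have h1 := not_dvd_card_of_isComplement' P hc
  rwa [eq_pResidual h1 (isPGroup_quotient_of_isComplement' P hc)] at h1

theorem isComplement'_pResidual (h : HasNormalPComplement p G) (P : Sylow p G) :
    (pResidual p G).IsComplement' (P : Subgroup G) :=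
  isComplement'_of_quotient (hasNormalPComplement_iff_pResidual.mp h)
    isPGroup_quotient_pResidual P

theorem hasNormalPComplement_iff_exists (P : Sylow p G) :
    HasNormalPComplement p G ↔ ∃ N : Subgroup G, N.Normal ∧ N.IsComplement' (P : Subgroup G) :=
  ⟨fun h => ⟨_, inferInstance, isComplement'_pResidual h P⟩, fun ⟨N, h⟩ => ⟨P, N, h⟩⟩

theorem mem_pResidual_iff_of_hasNormalPComplement (h : HasNormalPComplement p G) {g : G} :
    g ∈ pResidual p G ↔ Nat.Coprime (orderOf g) p :=
  mem_iff_coprime_orderOf (hasNormalPComplement_iff_pResidual.mp h) isPGroup_quotient_pResidual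

theorem hasNormalPComplement_iff_inf_eq_bot (P : Sylow p G) :
    HasNormalPComplement p G ↔ (P : Subgroup G) ⊓ pResidual p G = ⊥ := by
  refine ⟨fun h => (isComplement'_pResidual h P).symm.disjoint.eq_bot, fun h => ?_⟩
  refine ⟨P, pResidual p G, inferInstance,
    isComplement'_of_disjoint_and_mul_eq_univ (disjoint_iff.mpr ((inf_comm _ _).trans h)) ?_⟩
  rw [← normal_mul, sup_comm, sylow_sup_pResidual P, coe_top]

/-- Having a normal `p`-complement is inherited along injective homomorphisms. -/
theorem hasNormalPComplement_of_injective [Finite H] (h : HasNormalPComplement p G) (f : H →* G)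
    (hf : Function.Injective f) : HasNormalPComplement p H := by
  rw [hasNormalPComplement_iff_pResidual] at h ⊢
  intro hd
  apply h
  refine hd.trans ?_
  rw [← card_map_of_injective hf]
  exact card_dvd_of_le (map_pResidual_le f)

theorem hasNormalPComplement_subgroup (h : HasNormalPComplement p G) (K : Subgroup G) :
    HasNormalPComplement p K :=
  hasNormalPComplement_of_injective h K.subtype K.subtype_injective

theorem hasNormalPComplement_of_le {K L : Subgroup G} (h : HasNormalPComplement p L) (hKL : K ≤ L) :
    HasNormalPComplement p K :=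
  hasNormalPComplement_of_injective h (inclusion hKL) (inclusion_injective hKL)

theorem hasNormalPComplement_of_surjective (h : HasNormalPComplement p G) (f : G →* H)
    (hf : Function.Surjective f) : HasNormalPComplement p H := by
  have := Finite.of_surjective f hf
  rw [hasNormalPComplement_iff_pResidual] at h ⊢
  rw [← map_pResidual_of_surjective f hf]
  exact fun hd => h (hd.trans (card_map_dvd _ f))

theorem hasNormalPComplement_quotient (h : HasNormalPComplement p G) (N : Subgroup G) [N.Normal] :
    HasNormalPComplement p (G ⧸ N) :=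
  hasNormalPComplement_of_surjective h _ (QuotientGroup.mk'_surjective N)

theorem hasNormalPComplement_congr (e : G ≃* H) :
    HasNormalPComplement p G ↔ HasNormalPComplement p H := by
  have := Finite.of_equiv G e.toEquiv
  exact ⟨fun h => hasNormalPComplement_of_surjective h e.toMonoidHom e.surjective,
    fun h => hasNormalPComplement_of_surjective h e.symm.toMonoidHom e.symm.surjective⟩

theorem hasNormalPComplement_of_isPGroup (h : IsPGroup p G) : HasNormalPComplement p G :=
  hasNormalPComplement_of_quotient (N := ⊥)
    (by rw [card_bot]; exact (Fact.out : p.Prime).not_dvd_one) (h.to_quotient ⊥)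

theorem hasNormalPComplement_of_not_dvd (h : ¬ p ∣ Nat.card G) : HasNormalPComplement p G :=
  hasNormalPComplement_iff_pResidual.mpr fun hd => h (hd.trans (card_subgroup_dvd_card _))

/-- An extension of a group with a normal `p`-complement by a normal `p'`-subgroup has one. -/
theorem hasNormalPComplement_of_quotient_normal (N : Subgroup G) [N.Normal]
    (hN : ¬ p ∣ Nat.card N) (h : HasNormalPComplement p (G ⧸ N)) : HasNormalPComplement p G := by
  rw [hasNormalPComplement_iff_pResidual] at h ⊢
  rw [← map_pResidual_of_surjective _ (QuotientGroup.mk'_surjective N),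
    ← relIndex_ker, QuotientGroup.ker_mk'] at h
  intro hd
  have h2 : Nat.card (pResidual p G) =
      Nat.card (N ⊓ pResidual p G : Subgroup G) * N.relIndex (pResidual p G) := by
    rw [← inf_relIndex_right, ← relIndex_bot_left (H := pResidual p G),
      ← relIndex_bot_left (H := N ⊓ pResidual p G),
      relIndex_mul_relIndex _ _ _ bot_le inf_le_right]
  rw [h2] at hd
  rcases (Fact.out : p.Prime).dvd_mul.mp hd with h3 | h3
  · exact hN (h3.trans (card_dvd_of_le inf_le_left))
  · exact h h3

/-- Burnside's transfer theorem. -/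
theorem hasNormalPComplement_of_normalizer_le_centralizer (P : Sylow p G)
    (hP : normalizer ((P : Subgroup G) : Set G) ≤ centralizer ((P : Subgroup G) : Set G)) :
    HasNormalPComplement p G :=
  ⟨P, _, inferInstance, MonoidHom.ker_transferSylow_isComplement' P hP⟩

/-- The normalizer of a subgroup with a normal `p`-complement acts on a normal `p`-subgroup as
a `p`-group: the `p'`-elements centralise it. -/
theorem commute_of_hasNormalPComplement (h : HasNormalPComplement p G) {Q : Subgroup G} [Q.Normal]
    (hQ : IsPGroup p Q) {g : G} (hg : Nat.Coprime (orderOf g) p) {x : G} (hx : x ∈ Q) :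
    g * x = x * g := by
  have hd : Disjoint (pResidual p G) Q := by
    obtain ⟨n, hn⟩ := IsPGroup.iff_card.mp hQ
    refine disjoint_of_coprime_natCard ?_
    rw [hn]
    exact ((Fact.out : p.Prime).coprime_iff_not_dvd.mpr
      (hasNormalPComplement_iff_pResidual.mp h)).symm.pow_right n
  exact Subgroup.commute_of_normal_of_disjoint _ _ inferInstance inferInstance hd g x
    (mem_pResidual hg) hx

theorem hasNormalPComplement_of_isNilpotent [Group.IsNilpotent G] :
    HasNormalPComplement p G := by
  classical
  by_cases hd : p ∈ (Nat.card G).primeFactors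
  swap
  · refine hasNormalPComplement_of_not_dvd fun h => hd ?_
    rw [Nat.mem_primeFactors]
    exact ⟨Fact.out, h, Nat.card_pos.ne'⟩
  obtain ⟨e⟩ := (Group.isNilpotent_of_finite_tfae (G := G)).out 0 4 rfl rfl |>.mp inferInstance
  let π : G →* (default : Sylow p G) :=
    ((Pi.evalMonoidHom (fun Q : Sylow p G => (Q : Subgroup G)) default).comp
      (Pi.evalMonoidHom (fun r : (Nat.card G).primeFactors => ∀ Q : Sylow r G, (Q : Subgroup G))
        ⟨p, hd⟩)).comp e.symm.toMonoidHom
  have hπ : Function.Surjective π := fun x =>
    ⟨e (Pi.mulSingle ⟨p, hd⟩ (Pi.mulSingle (default : Sylow p G) x)), by simp [π]⟩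
  refine hasNormalPComplement_of_quotient (N := π.ker) ?_
    ((default : Sylow p G).isPGroup'.of_equiv (QuotientGroup.quotientKerEquivOfSurjective π hπ).symm)
  intro h
  apply (default : Sylow p G).not_dvd_index
  have h1 := π.ker.card_mul_index
  rw [index_ker, MonoidHom.range_eq_top.mpr hπ, card_top,
    ← ((default : Sylow p G) : Subgroup G).index_mul_card] at h1
  rwa [Nat.eq_of_mul_eq_mul_right Nat.card_pos h1] at h

end Cfsg.Agent.Fusion
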