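import Cfsg.Agent.Fusion.Basic

/-!
# Alperin's fusion theorem

In the form with tame intersections: conjugation inside a Sylow subgroup `P` is a product of
conjugations in normalizers of tame intersections `P ∩ Q`.
-/

set_option autoImplicit false
set_option linter.unusedSectionVars false

namespace Cfsg.Agent.Fusion

open Subgroup

universe u

variable {G : Type u} [Group G] {p : ℕ}

/-- `P ∩ Q` is a tame intersection: both `N_P(P ∩ Q)` and `N_Q(P ∩ Q)` are Sylow in `N_G(P ∩ Q)`. -/
def IsTame (P Q : Sylow p G) : Prop :=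
  ¬ p ∣ ((P : Subgroup G) ⊓ normalizer ((((P : Subgroup G) ⊓ (Q : Subgroup G)) : Subgroup G) : Set G)).relIndex
      (normalizer ((((P : Subgroup G) ⊓ (Q : Subgroup G)) : Subgroup G) : Set G)) ∧
  ¬ p ∣ ((Q : Subgroup G) ⊓ normalizer ((((P : Subgroup G) ⊓ (Q : Subgroup G)) : Subgroup G) : Set G)).relIndex
      (normalizer ((((P : Subgroup G) ⊓ (Q : Subgroup G)) : Subgroup G) : Set G))

/-- `Conn P A g`: `g` is a product of elements from normalizers of tame intersections such that
the successive right conjugates of `A` lie in those intersections. -/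
inductive Conn (P : Sylow p G) : Set G → G → Prop where
  | refl (A : Set G) : Conn P A 1
  | step (A : Set G) (g x : G) (Q : Sylow p G) (hQ : IsTame P Q)
      (hA : A ⊆ (((P : Subgroup G) ⊓ (Q : Subgroup G) : Subgroup G) : Set G))
      (hx : x ∈ normalizer ((((P : Subgroup G) ⊓ (Q : Subgroup G)) : Subgroup G) : Set G))
      (h : Conn P ((fun a => x⁻¹ * a * x) '' A) g) : Conn P A (x * g)

theorem Conn.mono {P : Sylow p G} {A B : Set G} {g : G} (h : Conn P A g) (hBA : B ⊆ A) :
    Conn P B g := by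
  induction h generalizing B with
  | refl A => exact Conn.refl B
  | step A g x Q hQ hA hx _ ih =>
    exact Conn.step B g x Q hQ (hBA.trans hA) hx (ih (Set.image_mono hBA))

theorem Conn.trans {P : Sylow p G} {A : Set G} {g h : G} (h₁ : Conn P A g)
    (h₂ : Conn P ((fun a => g⁻¹ * a * g) '' A) h) : Conn P A (g * h) := by
  induction h₁ with
  | refl A => simpa using h₂
  | step A g x Q hQ hA hx _ ih =>
    rw [mul_assoc]
    refine Conn.step A _ x Q hQ hA hx (ih ?_)
    rw [Set.image_image]
    have he : (fun a => g⁻¹ * (x⁻¹ * a * x) * g) = fun a => (x * g)⁻¹ * a * (x * g) := by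
      funext a; group
    rw [he]
    exact h₂

/-- The list form of a chain of conjugations. -/
theorem Conn.exists_fin {P : Sylow p G} {A : Set G} {g : G} (h : Conn P A g) :
    ∃ (n : ℕ) (Q : Fin n → Sylow p G) (x : Fin n → G), (List.ofFn x).prod = g ∧
      (∀ i : Fin n, IsTame P (Q i) ∧
        x i ∈ normalizer ((((P : Subgroup G) ⊓ (Q i : Subgroup G)) : Subgroup G) : Set G)) ∧
      ∀ i : Fin n, (fun a => (((List.ofFn x).take i.val).prod)⁻¹ * a * ((List.ofFn x).take i.val).prod) '' A ⊆
        (((P : Subgroup G) ⊓ (Q i : Subgroup G) : Subgroup G) : Set G) := by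
  induction h with
  | refl A => exact ⟨0, Fin.elim0, Fin.elim0, by simp, fun i => i.elim0, fun i => i.elim0⟩
  | step A g x Q hQ hA hx _ ih =>
    obtain ⟨n, Q', x', hprod, h1, h2⟩ := ih
    refine ⟨n + 1, Fin.cons Q Q', Fin.cons x x', by simp [List.ofFn_succ, hprod], ?_, ?_⟩
    · refine Fin.cases ?_ ?_
      · simpa using ⟨hQ, hx⟩
      · intro i; simpa using h1 i
    · refine Fin.cases ?_ ?_
      · simpa using hA
      · intro i
        have := h2 i
        rw [Set.image_image] at this
        simpa [List.ofFn_succ, mul_assoc] using this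

theorem ofSubgroupInfLt [Finite G] [Fact p.Prime] (S : Subgroup G) (hS : IsPGroup p S)
    {H : Subgroup G} (hH : H < S) :
    H < S ⊓ normalizer (H : Set G) := by
  have := hS.isNilpotent
  have hlt : H.subgroupOf S < ⊤ := by
    rw [lt_top_iff_ne_top, Ne, subgroupOf_eq_top]
    exact not_le_of_gt hH
  have h := normalizerCondition_of_isNilpotent (G := S) (H.subgroupOf S) hlt
  refine lt_of_le_of_ne (le_inf hH.le le_normalizer) fun he => h.ne ?_
  rw [← subgroupOf_normalizer_eq hH.le]
  ext s
  simp only [mem_subgroupOf]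
  refine ⟨fun hs => le_normalizer hs, fun hs => ?_⟩
  rw [he]
  exact ⟨s.2, hs⟩

theorem conj_inf_normalizer (S H : Subgroup G) (g : G) :
    (S ⊓ normalizer (H : Set G)).map (MulAut.conj g).toMonoidHom =
      S.map (MulAut.conj g).toMonoidHom ⊓
        normalizer ((H.map (MulAut.conj g).toMonoidHom : Subgroup G) : Set G) := by
  rw [map_inf_eq _ _ _ (MulAut.conj g).injective]
  congr 1
  exact map_equiv_normalizer_eq H (MulAut.conj g)

variable [Finite G] [Fact p.Prime]

theorem sylow_smul_coe (g : G) (Q : Sylow p G) :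
    ((g • Q : Sylow p G) : Subgroup G) = (Q : Subgroup G).map (MulAut.conj g).toMonoidHom := rfl

theorem mem_sylow_smul {g : G} {Q : Sylow p G} {y : G} :
    y ∈ (g • Q : Sylow p G) ↔ g⁻¹ * y * g ∈ Q := by
  constructor
  · rintro ⟨q, hq, rfl⟩
    simpa [MulAut.conj_apply, mul_assoc] using hq
  · intro hy
    refine ⟨g⁻¹ * y * g, hy, ?_⟩
    simp [MulAut.smul_def, MulAut.conj_apply, mul_assoc]

/-- Every Sylow subgroup `Q` is linked to `P` by a chain defined on `P ∩ Q`. -/
theorem exists_conn_sylow (P Q : Sylow p G) :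
    ∃ x : G, Conn P (((P : Subgroup G) ⊓ (Q : Subgroup G) : Subgroup G) : Set G) x ∧ x⁻¹ • Q = P := by
  have hp : p.Prime := Fact.out
  suffices H : ∀ (n : ℕ) (Q : Sylow p G),
      Nat.card P - Nat.card ((P : Subgroup G) ⊓ (Q : Subgroup G) : Subgroup G) ≤ n →
      ∃ x : G, Conn P (((P : Subgroup G) ⊓ (Q : Subgroup G) : Subgroup G) : Set G) x ∧ x⁻¹ • Q = P from
    H _ Q le_rfl
  intro n
  induction n using Nat.strong_induction_on with
  | _ n ih =>
  intro Q hn
  set H := (P : Subgroup G) ⊓ (Q : Subgroup G) with hH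
  -- the induction hypothesis in usable form
  have key : ∀ R : Sylow p G, Nat.card H < Nat.card ((P : Subgroup G) ⊓ (R : Subgroup G) : Subgroup G) →
      ∃ x : G, Conn P (((P : Subgroup G) ⊓ (R : Subgroup G) : Subgroup G) : Set G) x ∧ x⁻¹ • R = P := by
    intro R hR
    refine ih (Nat.card P - Nat.card ((P : Subgroup G) ⊓ (R : Subgroup G) : Subgroup G)) ?_ R le_rfl
    have : Nat.card ((P : Subgroup G) ⊓ (R : Subgroup G) : Subgroup G) ≤ Nat.card P :=
      card_le_of_le inf_le_left
    omega
  by_cases hQP : Q = P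
  · exact ⟨1, Conn.refl _, by simp [hQP]⟩
  have hHP : H < (P : Subgroup G) := lt_of_le_of_ne inf_le_left fun h => hQP <| by
    apply Sylow.ext
    refine (eq_of_le_of_card_ge ?_ ?_).symm
    · rw [← h]; exact inf_le_right
    · rw [P.card_eq_multiplicity, Q.card_eq_multiplicity]
  -- move `P ∩ Q` to a position where its normalizer in `P` is Sylow in its normalizer
  obtain ⟨M, hM⟩ := (P.isPGroup'.to_le (inf_le_left :
      (P : Subgroup G) ⊓ normalizer (H : Set G) ≤ P)).comap_subtype.exists_le_sylow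
      (G := normalizer (H : Set G))
  obtain ⟨R, hR⟩ := (M.isPGroup'.map (normalizer (H : Set G)).subtype).exists_le_sylow
  have hNR : (P : Subgroup G) ⊓ normalizer (H : Set G) ≤ (R : Subgroup G) := fun x hx =>
    hR ⟨⟨x, hx.2⟩, hM hx, rfl⟩
  have hlt := ofSubgroupInfLt _ P.isPGroup' hHP
  have hcard : Nat.card H < Nat.card ((P : Subgroup G) ⊓ (R : Subgroup G) : Subgroup G) :=
    lt_of_lt_of_le (Nat.lt_of_le_of_ne (card_le_of_le hlt.le)
      fun h => hlt.ne (eq_of_le_of_card_ge hlt.le h.ge)) (card_le_of_le (le_inf inf_le_left hNR))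
  obtain ⟨x, hx, hxR⟩ := key R hcard
  have hHR : H ≤ (P : Subgroup G) ⊓ (R : Subgroup G) := le_inf hHP.le (hlt.le.trans hNR)
  have hxH : Conn P (H : Set G) x := hx.mono hHR
  -- new position
  set c := (MulAut.conj x⁻¹).toMonoidHom with hc
  set H' := H.map c with hH'
  set Q' := x⁻¹ • Q with hQ'
  have hcardH' : Nat.card H' = Nat.card H :=
    card_map_of_injective (MulAut.conj x⁻¹).injective
  have hH'P : H' ≤ (P : Subgroup G) := by
    rw [← hxR, sylow_smul_coe, hH']
    exact map_mono (hHR.trans inf_le_right)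
  have hH'Q : H' ≤ (Q' : Subgroup G) := by
    rw [hQ', sylow_smul_coe, hH']
    exact map_mono inf_le_right
  have hext : ¬ p ∣ ((P : Subgroup G) ⊓ normalizer (H' : Set G)).relIndex (normalizer (H' : Set G)) := by
    intro hd
    have h1 : ((M : Subgroup (normalizer (H : Set G))).map (normalizer (H : Set G)).subtype).map c ≤
        (P : Subgroup G) ⊓ normalizer (H' : Set G) := by
      refine le_inf ?_ ?_
      · rw [← hxR, sylow_smul_coe]
        exact map_mono hR
      · rw [hH', hc]
        exact (map_mono (map_subtype_le _)).trans (map_equiv_normalizer_eq H (MulAut.conj x⁻¹)).le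
    have h2 := relIndex_dvd_of_le_left (normalizer (H' : Set G)) h1
    have h3 : normalizer (H' : Set G) = (normalizer (H : Set G)).map c :=
      (map_equiv_normalizer_eq H (MulAut.conj x⁻¹)).symm
    have h4 := hd.trans h2
    rw [h3, hc, relIndex_map_map_of_injective _ _ (MulAut.conj x⁻¹).injective] at h4
    apply M.not_dvd_index
    have h5 := relIndex_map_map_of_injective (M : Subgroup (normalizer (H : Set G))) ⊤
      (normalizer (H : Set G)).subtype_injective
    rw [← MonoidHom.range_eq_map, range_subtype, relIndex_top_right] at h5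
    exact h5 ▸ h4
  have himage : ∀ (S : Set G), (fun a => x⁻¹ * a * x) '' S = c '' S := by
    intro S; exact Set.image_congr' fun a => by simp [hc, MulAut.conj_apply]
  suffices h : ∃ y : G, Conn P (H' : Set G) y ∧ y⁻¹ • Q' = P by
    obtain ⟨y, hy, hyQ⟩ := h
    refine ⟨x * y, hxH.trans ?_, by rw [mul_inv_rev, mul_smul, ← hQ']; exact hyQ⟩
    rw [himage]
    exact hy
  have hle : H' ≤ (P : Subgroup G) ⊓ (Q' : Subgroup G) := le_inf hH'P hH'Q
  by_cases hbig : Nat.card H < Nat.card ((P : Subgroup G) ⊓ (Q' : Subgroup G) : Subgroup G)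
  · obtain ⟨y, hy, hyQ⟩ := key Q' hbig
    exact ⟨y, hy.mono hle, hyQ⟩
  have hH'eq : H' = (P : Subgroup G) ⊓ (Q' : Subgroup G) :=
    eq_of_le_of_card_ge hle (by omega)
  by_cases hQ'P : Q' = P
  · exact ⟨1, Conn.refl _, by simp [hQ'P]⟩
  -- a Sylow subgroup of `N(H')` above `N_{Q'}(H')`
  obtain ⟨T, hT⟩ := (Q'.isPGroup'.to_le (inf_le_left :
      (Q' : Subgroup G) ⊓ normalizer (H' : Set G) ≤ Q')).comap_subtype.exists_le_sylow
      (G := normalizer (H' : Set G))
  let T₀ : Sylow p (normalizer (H' : Set G)) :=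
    (P.isPGroup'.to_le (inf_le_left : (P : Subgroup G) ⊓ normalizer (H' : Set G) ≤ P)).comap_subtype.toSylow
      (fun hd => hext hd)
  obtain ⟨y, hy⟩ := MulAction.exists_smul_eq (normalizer (H' : Set G)) T₀ T
  set U := (y : G) • P with hU
  have hTU : ∀ t ∈ (Q' : Subgroup G) ⊓ normalizer (H' : Set G), t ∈ (U : Subgroup G) := by
    intro t ht
    have h1 : (⟨t, ht.2⟩ : normalizer (H' : Set G)) ∈ (y • T₀ : Sylow p _) := hy ▸ hT ht
    rw [mem_sylow_smul] at h1
    change t ∈ U
    rw [hU, mem_sylow_smul]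
    exact h1.1
  have hH'U : H' ≤ (U : Subgroup G) := fun a ha => hTU a ⟨hH'Q ha, le_normalizer ha⟩
  have hQ'lt : H' < (Q' : Subgroup G) := lt_of_le_of_ne hH'Q fun h => hQ'P <| by
    apply Sylow.ext
    refine eq_of_le_of_card_ge ?_ ?_
    · rw [← h]; exact hH'P
    · rw [P.card_eq_multiplicity, Q'.card_eq_multiplicity]
  have hQ'lt' := ofSubgroupInfLt _ Q'.isPGroup' hQ'lt
  have hQU : Nat.card H < Nat.card ((Q' : Subgroup G) ⊓ (U : Subgroup G) : Subgroup G) := by
    rw [← hcardH']
    exact lt_of_lt_of_le (Nat.lt_of_le_of_ne (card_le_of_le hQ'lt'.le)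
      fun h => hQ'lt'.ne (eq_of_le_of_card_ge hQ'lt'.le h.ge))
      (card_le_of_le (le_inf inf_le_left hTU))
  -- finishing from a chain carrying `U` to `P`
  have finish : ∀ z : G, Conn P (H' : Set G) z → z⁻¹ • U = P →
      ∃ y : G, Conn P (H' : Set G) y ∧ y⁻¹ • Q' = P := by
    intro z hz hzU
    have hsub : ((Q' : Subgroup G) ⊓ (U : Subgroup G)).map (MulAut.conj z⁻¹).toMonoidHom ≤
        (P : Subgroup G) ⊓ ((z⁻¹ • Q' : Sylow p G) : Subgroup G) := by
      refine le_inf ?_ ?_
      · rw [← hzU, sylow_smul_coe]; exact map_mono inf_le_right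
      · rw [sylow_smul_coe]; exact map_mono inf_le_left
    obtain ⟨w, hw, hwQ⟩ := key (z⁻¹ • Q') (by
      refine lt_of_lt_of_le hQU ?_
      rw [← card_map_of_injective (f := (MulAut.conj z⁻¹).toMonoidHom) (MulAut.conj z⁻¹).injective]
      exact card_le_of_le hsub)
    refine ⟨z * w, hz.trans (hw.mono ?_), by rw [mul_inv_rev, mul_smul]; exact hwQ⟩
    rintro _ ⟨a, ha, rfl⟩
    exact hsub ⟨a, ⟨hH'Q ha, hH'U ha⟩, by simp [MulAut.conj_apply]⟩
  by_cases hUbig : Nat.card H < Nat.card ((P : Subgroup G) ⊓ (U : Subgroup G) : Subgroup G)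
  · obtain ⟨z, hz, hzU⟩ := key U hUbig
    exact finish z (hz.mono (le_inf hH'P hH'U)) hzU
  have hPU : (P : Subgroup G) ⊓ (U : Subgroup G) = H' :=
    (eq_of_le_of_card_ge (le_inf hH'P hH'U) (by omega)).symm
  have htame : IsTame P U := by
    rw [IsTame, hPU]
    refine ⟨hext, fun hd => hext ?_⟩
    have h1 : (U : Subgroup G) ⊓ normalizer (H' : Set G) =
        ((P : Subgroup G) ⊓ normalizer (H' : Set G)).map (MulAut.conj (y : G)).toMonoidHom := by
      rw [conj_inf_normalizer, hU, sylow_smul_coe]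
      congr 3
      exact (mem_normalizer_iff_map_conj_eq.mp y.2).symm
    have h2 : normalizer (H' : Set G) =
        (normalizer (H' : Set G)).map (MulAut.conj (y : G)).toMonoidHom :=
      (mem_normalizer_iff_map_conj_eq.mp (le_normalizer y.2)).symm
    have h4 := relIndex_map_map_of_injective ((P : Subgroup G) ⊓ normalizer (H' : Set G))
      (normalizer (H' : Set G)) (f := (MulAut.conj (y : G)).toMonoidHom) (MulAut.conj (y : G)).injective
    rw [← h1, ← h2] at h4
    exact h4 ▸ hd
  refine finish y ?_ (by rw [hU, inv_smul_smul])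
  have := Conn.step (H' : Set G) 1 y U htame (by rw [hPU]) (by rw [hPU]; exact y.2) (Conn.refl _)
  rwa [mul_one] at this

theorem isTame_self (P : Sylow p G) : IsTame P P := by
  have h : ¬ p ∣ ((P : Subgroup G) ⊓ normalizer ((P : Subgroup G) : Set G)).relIndex
      (normalizer ((P : Subgroup G) : Set G)) := by
    rw [inf_relIndex_right]
    exact fun hd => P.not_dvd_index (hd.trans (relIndex_dvd_index_of_le le_normalizer))
  rw [IsTame, inf_idem]
  exact ⟨h, h⟩

/-- **Alperin's fusion theorem** in the form with tame intersections. -/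
theorem alperin (P : Sylow p G) {A : Set G} {g : G} (hA : A ⊆ (P : Set G))
    (hAg : (fun a => g⁻¹ * a * g) '' A ⊆ (P : Set G)) : Conn P A g := by
  obtain ⟨x, hx, hxQ⟩ := exists_conn_sylow P (g • P)
  have hsub : A ⊆ (((P : Subgroup G) ⊓ ((g • P : Sylow p G) : Subgroup G) : Subgroup G) : Set G) :=
    fun a ha => ⟨hA ha, mem_sylow_smul.mpr (hAg ⟨a, ha, rfl⟩)⟩
  have hn : x⁻¹ * g ∈ normalizer (P : Set G) :=
    Sylow.smul_eq_iff_mem_normalizer.mp (by rw [mul_smul, hxQ])
  have hxA : (fun a => x⁻¹ * a * x) '' A ⊆ ((P : Subgroup G) : Set G) := by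
    rintro _ ⟨a, ha, rfl⟩
    have h1 : (MulAut.conj x⁻¹).toMonoidHom a ∈
        ((x⁻¹ • (g • P) : Sylow p G) : Subgroup G) := ⟨a, (hsub ha).2, rfl⟩
    rw [hxQ] at h1
    change x⁻¹ * a * x ∈ (P : Subgroup G)
    simpa [MulAut.conj_apply] using h1
  have h2 := Conn.step _ 1 (x⁻¹ * g) P (isTame_self P) (by rwa [inf_idem]) (by rwa [inf_idem])
    (Conn.refl ((fun a => (x⁻¹ * g)⁻¹ * a * (x⁻¹ * g)) '' ((fun a => x⁻¹ * a * x) '' A)))
  have := (hx.mono hsub).trans h2
  rwa [mul_one, mul_inv_cancel_left] at this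

/-- An extremal conjugate: every subgroup of `P` is carried into one whose normalizer in `P` is
Sylow in its normalizer, together with its normalizer in `P`. -/
theorem exists_extremal (P : Sylow p G) {A : Subgroup G} (hA : A ≤ (P : Subgroup G)) :
    ∃ g : G, A.map (MulAut.conj g).toMonoidHom ≤ (P : Subgroup G) ∧
      ((P : Subgroup G) ⊓ normalizer (A : Set G)).map (MulAut.conj g).toMonoidHom ≤ (P : Subgroup G) ∧
      ¬ p ∣ ((P : Subgroup G) ⊓ normalizer ((A.map (MulAut.conj g).toMonoidHom : Subgroup G) : Set G)).relIndex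
        (normalizer ((A.map (MulAut.conj g).toMonoidHom : Subgroup G) : Set G)) := by
  obtain ⟨M, hM⟩ := (P.isPGroup'.to_le (inf_le_left :
      (P : Subgroup G) ⊓ normalizer (A : Set G) ≤ P)).comap_subtype.exists_le_sylow
      (G := normalizer (A : Set G))
  obtain ⟨R, hR⟩ := (M.isPGroup'.map (normalizer (A : Set G)).subtype).exists_le_sylow
  obtain ⟨g, hg⟩ := MulAction.exists_smul_eq G R P
  have hNR : (P : Subgroup G) ⊓ normalizer (A : Set G) ≤ (R : Subgroup G) := fun x hx =>
    hR ⟨⟨x, hx.2⟩, hM hx, rfl⟩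
  refine ⟨g, ?_, ?_, fun hd => M.not_dvd_index ?_⟩
  · rw [← hg, sylow_smul_coe]
    exact map_mono ((le_inf hA le_normalizer).trans hNR)
  · refine (map_mono hNR).trans ?_
    rw [← sylow_smul_coe, hg]
  · have h3 : normalizer ((A.map (MulAut.conj g).toMonoidHom : Subgroup G) : Set G) =
        (normalizer (A : Set G)).map (MulAut.conj g).toMonoidHom :=
      (map_equiv_normalizer_eq A (MulAut.conj g)).symm
    have h1 : ((M : Subgroup (normalizer (A : Set G))).map (normalizer (A : Set G)).subtype).map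
        (MulAut.conj g).toMonoidHom ≤
        (P : Subgroup G) ⊓ (normalizer (A : Set G)).map (MulAut.conj g).toMonoidHom := by
      refine le_inf ?_ (map_mono (map_subtype_le _))
      rw [← hg, sylow_smul_coe]
      exact map_mono hR
    rw [h3] at hd
    have h4 := hd.trans (relIndex_dvd_of_le_left _ h1)
    rw [relIndex_map_map_of_injective _ _ (MulAut.conj g).injective] at h4
    have h5 := relIndex_map_map_of_injective (M : Subgroup (normalizer (A : Set G))) ⊤
      (normalizer (A : Set G)).subtype_injective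
    rw [← MonoidHom.range_eq_map, range_subtype, relIndex_top_right] at h5
    exact h5 ▸ h4

end Cfsg.Agent.Fusion
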