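import Cfsg.Agent.Fusion.Tate
import Cfsg.Agent.Fusion.Alperin

/-!
# Frobenius' normal p-complement criterion
-/

set_option autoImplicit false
set_option linter.unusedSectionVars false

namespace Cfsg.Agent.Fusion

open Subgroup

universe u

variable {G : Type u} [Group G] [Finite G] {p : ℕ} [Fact p.Prime]

/-- If the `p'`-elements of `N_G(H)` centralise `H` then `N_G(H) = C_G(H) N_P(H)` as soon as
`N_P(H)` is Sylow in `N_G(H)`. -/
theorem exists_centralizer_mul {P : Subgroup G} (hP : IsPGroup p P) {H : Subgroup G}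
    (hext : ¬ p ∣ (P ⊓ normalizer (H : Set G)).relIndex (normalizer (H : Set G)))
    (hc : ∀ g ∈ normalizer (H : Set G), Nat.Coprime (orderOf g) p → g ∈ centralizer (H : Set G))
    {x : G} (hx : x ∈ normalizer (H : Set G)) :
    ∃ s ∈ P, ∀ h ∈ H, x⁻¹ * h * x = s⁻¹ * h * s := by
  let T : Sylow p (normalizer (H : Set G)) :=
    (hP.to_le (inf_le_left : P ⊓ normalizer (H : Set G) ≤ P)).comap_subtype.toSylow hext
  have h1 : (⟨x, hx⟩ : normalizer (H : Set G)) ∈
      pResidual p (normalizer (H : Set G)) ⊔ (T : Subgroup (normalizer (H : Set G))) := by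
    rw [sup_comm, sylow_sup_pResidual T]; trivial
  rw [← SetLike.mem_coe, normal_mul] at h1
  obtain ⟨c, hc', t, ht, hct⟩ := Set.mem_mul.mp h1
  have hcc : (c : G) ∈ centralizer (H : Set G) := by
    have h2 : pResidual p (normalizer (H : Set G)) ≤
        (centralizer (H : Set G)).comap (normalizer (H : Set G)).subtype :=
      pResidual_le.mpr fun g hg => hc g g.2 (by rwa [Subgroup.orderOf_coe])
    exact h2 hc'
  refine ⟨t, (show (t : G) ∈ P ⊓ normalizer (H : Set G) from ht).1, fun h hh => ?_⟩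
  have hx' : x = (c : G) * t := by rw [← Subgroup.coe_mul, hct]
  have hcomm : (c : G)⁻¹ * h * c = h := by
    have := mem_centralizer_iff.mp hcc h hh
    rw [mul_assoc, this, inv_mul_cancel_left]
  calc x⁻¹ * h * x = (t : G)⁻¹ * ((c : G)⁻¹ * h * c) * t := by rw [hx']; group
    _ = (t : G)⁻¹ * h * t := by rw [hcomm]

/-- **Frobenius' normal `p`-complement theorem**, for tame intersections. -/
theorem hasNormalPComplement_of_tame (P : Sylow p G)
    (h : ∀ Q : Sylow p G, IsTame P Q → (P : Subgroup G) ⊓ (Q : Subgroup G) ≠ ⊥ →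
      ∀ g ∈ normalizer ((((P : Subgroup G) ⊓ (Q : Subgroup G)) : Subgroup G) : Set G),
        Nat.Coprime (orderOf g) p →
          g ∈ centralizer ((((P : Subgroup G) ⊓ (Q : Subgroup G)) : Subgroup G) : Set G)) :
    HasNormalPComplement p G := by
  refine hasNormalPComplement_of_self_controls P fun x hx g hg => ?_
  have key : ∀ (A : Set G) (g : G), Conn P A g →
      ∃ s ∈ (P : Subgroup G), ∀ a ∈ A, g⁻¹ * a * g = s⁻¹ * a * s := by
    intro A g hc
    induction hc with
    | refl A => exact ⟨1, one_mem _, fun a _ => rfl⟩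
    | step A g x Q hQ hA hx _ ih =>
      obtain ⟨t, ht, hta⟩ := ih
      by_cases hbot : (P : Subgroup G) ⊓ (Q : Subgroup G) = ⊥
      · refine ⟨1, one_mem _, fun a ha => ?_⟩
        have : a = 1 := by simpa [hbot] using hA ha
        simp [this]
      obtain ⟨s, hs, hsa⟩ := exists_centralizer_mul P.isPGroup' hQ.1 (h Q hQ hbot) hx
      refine ⟨s * t, mul_mem hs ht, fun a ha => ?_⟩
      calc (x * g)⁻¹ * a * (x * g) = g⁻¹ * (x⁻¹ * a * x) * g := by group
        _ = t⁻¹ * (x⁻¹ * a * x) * t := hta _ ⟨a, ha, rfl⟩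
        _ = t⁻¹ * (s⁻¹ * a * s) * t := by rw [hsa a (hA ha)]
        _ = (s * t)⁻¹ * a * (s * t) := by group
  have hcn : Conn P {x} g⁻¹ := alperin P (Set.singleton_subset_iff.mpr hx) (by
    rw [Set.image_singleton, inv_inv, Set.singleton_subset_iff]; exact hg)
  obtain ⟨s, hs, hsa⟩ := key _ _ hcn
  exact ⟨s⁻¹, inv_mem hs, by simpa using (hsa x rfl).symm⟩

theorem frobenius_criterion (P : Sylow p G) :
    HasNormalPComplement p G ↔ ∀ Q : Subgroup G, Q ≤ (P : Subgroup G) →
      ∀ g ∈ normalizer (Q : Set G), Nat.Coprime (orderOf g) p → g ∈ centralizer (Q : Set G) := by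
  refine ⟨fun h Q hQ g hg hgp => mem_centralizer_iff.mpr fun x hx => ?_,
    fun h => hasNormalPComplement_of_tame P fun Q _ _ => h _ inf_le_left⟩
  have := commute_of_hasNormalPComplement (hasNormalPComplement_subgroup h (normalizer (Q : Set G)))
    (Q := Q.subgroupOf (normalizer (Q : Set G))) (hQ := (P.isPGroup'.to_le hQ).comap_subtype)
    (g := ⟨g, hg⟩) (by simpa [Subgroup.orderOf_mk] using hgp) (x := ⟨x, le_normalizer hx⟩) hx
  exact (congrArg Subtype.val this).symm

/-- Frobenius' criterion in local form. -/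
theorem frobenius_local :
    HasNormalPComplement p G ↔
      ∀ Q : Subgroup G, IsPGroup p Q → Q ≠ ⊥ → HasNormalPComplement p (normalizer (Q : Set G)) := by
  refine ⟨fun h Q _ _ => hasNormalPComplement_subgroup h _, fun h => ?_⟩
  refine hasNormalPComplement_of_tame default fun Q _ hne g hg hgp => ?_
  set H := ((default : Sylow p G) : Subgroup G) ⊓ (Q : Subgroup G)
  have hH : IsPGroup p H := Q.isPGroup'.to_le inf_le_right
  refine mem_centralizer_iff.mpr fun x hx => ?_
  have := commute_of_hasNormalPComplement (h H hH hne)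
    (Q := H.subgroupOf (normalizer (H : Set G))) (hQ := hH.comap_subtype)
    (g := ⟨g, hg⟩) (by simpa [Subgroup.orderOf_mk] using hgp) (x := ⟨x, le_normalizer hx⟩) hx
  exact (congrArg Subtype.val this).symm

end Cfsg.Agent.Fusion
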