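import Cfsg.Prelude.Def_Transfer
import Mathlib.GroupTheory.Abelianization.Defs
import Mathlib.GroupTheory.Focal

/-!
# The subgroup generated by the elements of order prime to p

Basic facts about `Cfsg.pResidual p G`, usually written `O^p(G)`.
-/

set_option autoImplicit false

namespace Cfsg.Agent.Fusion

open Subgroup

universe u v

variable {G : Type u} [Group G] {H : Type v} [Group H] {p : ℕ}

theorem mem_pResidual {g : G} (hg : Nat.Coprime (orderOf g) p) : g ∈ pResidual p G :=
  subset_closure hg

theorem pResidual_le {K : Subgroup G} :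
    pResidual p G ≤ K ↔ ∀ g : G, Nat.Coprime (orderOf g) p → g ∈ K :=
  closure_le K

instance pResidual_characteristic : (pResidual p G).Characteristic :=
  characteristic_iff_le_comap.mpr fun φ => (pResidual_le).mpr fun g hg =>
    mem_pResidual (by simpa [MulEquiv.orderOf_eq] using hg)

instance pResidual_normal : (pResidual p G).Normal :=
  normal_of_characteristic _

/-- A suitable power of `p` carries every element to one of order prime to `p`. -/
theorem exists_pow_coprime [Finite G] [Fact p.Prime] (g : G) :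
    ∃ k : ℕ, Nat.Coprime (orderOf (g ^ p ^ k)) p := by
  have hp : p.Prime := Fact.out
  have h0 : orderOf g ≠ 0 := (orderOf_pos g).ne'
  refine ⟨(orderOf g).factorization p, ?_⟩
  rw [orderOf_pow_of_dvd (pow_ne_zero _ hp.ne_zero) (Nat.ordProj_dvd _ _)]
  exact (Nat.coprime_ordCompl hp h0).symm

theorem exists_pow_mem_pResidual [Finite G] [Fact p.Prime] (g : G) :
    ∃ k : ℕ, g ^ p ^ k ∈ pResidual p G := by
  obtain ⟨k, hk⟩ := exists_pow_coprime (p := p) g
  exact ⟨k, mem_pResidual hk⟩

theorem isPGroup_quotient_pResidual [Finite G] [Fact p.Prime] :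
    IsPGroup p (G ⧸ pResidual p G) := by
  intro q
  obtain ⟨g, rfl⟩ := QuotientGroup.mk'_surjective _ q
  obtain ⟨k, hk⟩ := exists_pow_mem_pResidual (p := p) g
  refine ⟨k, ?_⟩
  rw [← map_pow]
  exact (QuotientGroup.eq_one_iff _).mpr hk

theorem index_pResidual [Finite G] [Fact p.Prime] :
    ∃ n : ℕ, (pResidual p G).index = p ^ n :=
  IsPGroup.iff_card.mp (isPGroup_quotient_pResidual (G := G))

/-- A homomorphism into a `p`-group kills `O^p`. -/
theorem pResidual_le_ker (hH : IsPGroup p H) (f : G →* H) : pResidual p G ≤ f.ker := by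
  refine pResidual_le.mpr fun g hg => ?_
  obtain ⟨k, hk⟩ := hH (f g)
  have h1 : orderOf (f g) ∣ p ^ k := orderOf_dvd_of_pow_eq_one hk
  have h2 : orderOf (f g) ∣ orderOf g := orderOf_map_dvd f g
  exact orderOf_eq_one_iff.mp (Nat.eq_one_of_dvd_coprimes (hg.pow_right k) h2 h1)

theorem pResidual_le_of_quotient {N : Subgroup G} [N.Normal] (hN : IsPGroup p (G ⧸ N)) :
    pResidual p G ≤ N := by
  simpa using pResidual_le_ker hN (QuotientGroup.mk' N)

theorem pResidual_le_of_index [Finite G] [Fact p.Prime] {N : Subgroup G} [N.Normal] {n : ℕ}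
    (hN : N.index = p ^ n) : pResidual p G ≤ N :=
  pResidual_le_of_quotient (IsPGroup.of_card hN)

theorem map_pResidual_le (f : G →* H) : (pResidual p G).map f ≤ pResidual p H := by
  rw [map_le_iff_le_comap]
  exact pResidual_le.mpr fun g hg =>
    mem_pResidual (hg.coprime_dvd_left (orderOf_map_dvd f g))

theorem map_pResidual_of_surjective [Finite G] [Fact p.Prime] (f : G →* H)
    (hf : Function.Surjective f) : (pResidual p G).map f = pResidual p H := by
  refine le_antisymm (map_pResidual_le f) (pResidual_le.mpr fun h hh => ?_)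
  obtain ⟨g, rfl⟩ := hf h
  obtain ⟨k, hk⟩ := exists_pow_mem_pResidual (p := p) g
  have h1 : f g ^ p ^ k ∈ (pResidual p G).map f := ⟨_, hk, map_pow f g _⟩
  obtain ⟨m, hm⟩ := exists_pow_eq_self_of_coprime (x := f g) (n := p ^ k)
    (hh.pow_right k).symm
  rw [← hm]
  exact pow_mem h1 m

theorem map_pResidual_equiv [Finite G] [Fact p.Prime] (e : G ≃* H) :
    (pResidual p G).map e.toMonoidHom = pResidual p H :=
  map_pResidual_of_surjective _ e.surjective

theorem pResidual_subgroup_le (K : Subgroup G) :
    (pResidual p K).map K.subtype ≤ pResidual p G :=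
  map_pResidual_le _

theorem pResidual_le_subgroupOf (K : Subgroup G) :
    pResidual p K ≤ (pResidual p G).subgroupOf K :=
  map_le_iff_le_comap.mp (pResidual_subgroup_le K)

theorem mem_pResidual_subgroup {K : Subgroup G} {g : G} (hgK : g ∈ K)
    (hg : Nat.Coprime (orderOf g) p) : g ∈ (pResidual p K).map K.subtype :=
  ⟨⟨g, hgK⟩, mem_pResidual (by simpa [Subgroup.orderOf_mk] using hg), rfl⟩

/-- `O^p(O^p(G)) = O^p(G)`. -/
theorem map_pResidual_pResidual :
    (pResidual p (pResidual p G)).map (pResidual p G).subtype = pResidual p G :=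
  le_antisymm (map_subtype_le _)
    (pResidual_le.mpr fun _ hg => mem_pResidual_subgroup (mem_pResidual hg) hg)

theorem pResidual_pResidual_eq_top : pResidual p (pResidual p G) = ⊤ := by
  apply map_injective (pResidual p G).subtype_injective
  rw [map_pResidual_pResidual, ← MonoidHom.range_eq_map, range_subtype]

/-- A subgroup whose index is prime to `p` covers a normal subgroup of `p`-power index. -/
theorem sup_eq_top_of_pow_index [Fact p.Prime] {K N : Subgroup G}
    (hK : ¬ p ∣ K.index) {n : ℕ} (hN : N.index = p ^ n) : K ⊔ N = ⊤ := by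
  have hp : p.Prime := Fact.out
  rw [← index_eq_one]
  exact Nat.eq_one_of_dvd_coprimes ((hp.coprime_iff_not_dvd.mpr hK).symm.pow_right n)
    (index_dvd_of_le le_sup_left) (hN ▸ index_dvd_of_le le_sup_right)

theorem sup_pResidual_eq_top [Finite G] [Fact p.Prime] {K : Subgroup G}
    (hK : ¬ p ∣ K.index) : K ⊔ pResidual p G = ⊤ :=
  (index_pResidual (p := p) (G := G)).elim fun _ hn => sup_eq_top_of_pow_index hK hn

theorem sylow_sup_pResidual [Finite G] [Fact p.Prime] (P : Sylow p G) :
    (P : Subgroup G) ⊔ pResidual p G = ⊤ :=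
  sup_pResidual_eq_top P.not_dvd_index

theorem sylow_sup_eq_top [Finite G] [Fact p.Prime] (P : Sylow p G) {N : Subgroup G} [N.Normal]
    (hN : pResidual p G ≤ N) : (P : Subgroup G) ⊔ N = ⊤ :=
  top_le_iff.mp ((sylow_sup_pResidual P).ge.trans (sup_le_sup_left hN _))

end Cfsg.Agent.Fusion
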