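import Cfsg.Agent.Fusion.PComplement

/-!
# Fusion and transfer

Burnside's fusion theorem, and consequences of the focal subgroup theorem.
-/

set_option autoImplicit false
set_option linter.unusedSectionVars false

namespace Cfsg.Agent.Fusion

open Subgroup
open scoped commutatorElement

universe u

variable {G : Type u} [Group G] {p : ℕ}

/-- `K` controls the fusion in `P` of elements: conjugate elements of `P` are conjugate in `K`. -/
def ControlsElementFusion (K P : Subgroup G) : Prop :=
  ∀ x ∈ P, ∀ g : G, g * x * g⁻¹ ∈ P → ∃ k ∈ K, k * x * k⁻¹ = g * x * g⁻¹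

theorem conj_image_eq_iff {X : Set G} {g : G} :
    (fun y => g * y * g⁻¹) '' X = X ↔ g ∈ normalizer X := by
  rw [mem_normalizer_iff_conj_image_eq]
  exact Iff.rfl

theorem conj_image_image (X : Set G) (g h : G) :
    (fun y => g * y * g⁻¹) '' ((fun y => h * y * h⁻¹) '' X) =
      (fun y => (g * h) * y * (g * h)⁻¹) '' X := by
  rw [Set.image_image]
  exact Set.image_congr' fun y => by group

variable [Finite G] [Fact p.Prime]

/-- **Burnside's fusion theorem**: two conjugate subsets, each normalised by the Sylow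
subgroup `P`, are conjugate in `N_G(P)`. -/
theorem burnside_fusion_sets (P : Sylow p G) {X Y : Set G}
    (hX : (P : Subgroup G) ≤ normalizer X) (hY : (P : Subgroup G) ≤ normalizer Y) {g : G}
    (hg : (fun y => g * y * g⁻¹) '' X = Y) :
    ∃ n ∈ normalizer (P : Set G), (fun y => n * y * n⁻¹) '' X = Y := by
  have hg' : (fun y => g⁻¹ * y * g⁻¹⁻¹) '' Y = X := by
    rw [← hg, conj_image_image]; simp
  have hQ : ((g⁻¹ • P : Sylow p G) : Subgroup G) ≤ normalizer X := by
    rintro _ ⟨q, hq, rfl⟩
    rw [← conj_image_eq_iff]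
    simp only [MulDistribMulAction.toMonoidHom_apply, MulDistribMulAction.toMonoidEnd_apply,
      MulAut.smul_def, MulAut.conj_apply]
    calc (fun y => g⁻¹ * q * g⁻¹⁻¹ * y * (g⁻¹ * q * g⁻¹⁻¹)⁻¹) '' X
        = (fun y => g⁻¹ * y * g⁻¹⁻¹) ''
            ((fun y => q * y * q⁻¹) '' ((fun y => g * y * g⁻¹) '' X)) := by
          rw [conj_image_image, conj_image_image]
          exact Set.image_congr' fun y => by group
      _ = X := by rw [hg, conj_image_eq_iff.mpr (hY hq), hg']
  obtain ⟨n, hn⟩ := MulAction.exists_smul_eq (normalizer X)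
    (P.subtype hX) ((g⁻¹ • P).subtype hQ)
  rw [Sylow.smul_subtype] at hn
  have hn' : (n : G) • P = g⁻¹ • P := Sylow.subtype_injective hn
  refine ⟨g * n, Sylow.smul_eq_iff_mem_normalizer.mp (by rw [mul_smul, hn', smul_inv_smul]), ?_⟩
  rw [← conj_image_image, conj_image_eq_iff.mpr n.2, hg]

/-- Burnside: elements of the centralizer of `P` conjugate in `G` are conjugate in `N_G(P)`. -/
theorem burnside_fusion_centralizer (P : Sylow p G) {x : G} {g : G}
    (hx : x ∈ centralizer (P : Set G)) (hy : g * x * g⁻¹ ∈ centralizer (P : Set G)) :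
    ∃ n ∈ normalizer (P : Set G), n * x * n⁻¹ = g * x * g⁻¹ := by
  obtain ⟨n, hn, h⟩ := P.conj_eq_normalizer_conj_of_mem_centralizer x g⁻¹ hx (by simpa using hy)
  exact ⟨n⁻¹, inv_mem hn, by simpa using h.symm⟩

theorem controlsElementFusion_normalizer_of_commutative (P : Sylow p G)
    (hP : IsMulCommutative (P : Subgroup G)) :
    ControlsElementFusion (normalizer (P : Set G)) (P : Subgroup G) := by
  have hle : (P : Subgroup G) ≤ centralizer (P : Set G) := le_centralizer_iff_isMulCommutative.mpr hP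
  exact fun x hx g hg => burnside_fusion_centralizer P (hle hx) (hle hg)

/-- Control of fusion determines the focal subgroup. -/
theorem focalSubgroup_le_of_controls (P : Sylow p G) {K : Subgroup G}
    (hPK : (P : Subgroup G) ≤ K) (h : ControlsElementFusion K (P : Subgroup G)) :
    (P : Subgroup G).focalSubgroup ≤ ⁅K, K⁆ := by
  rw [focalSubgroup_def, closure_le]
  rintro g ⟨hg, x, hx, u, rfl⟩
  have h1 : u * x⁻¹ * u⁻¹ ∈ (P : Subgroup G) := by
    have := mul_mem (inv_mem hx) hg
    simpa [commutatorElement_def, mul_assoc] using this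
  obtain ⟨k, hk, hk'⟩ := h x⁻¹ (inv_mem hx) u h1
  have h2 : ⁅x, u⁆ = ⁅x, k⁆ := by
    calc ⁅x, u⁆ = x * (u * x⁻¹ * u⁻¹) := by group
      _ = ⁅x, k⁆ := by rw [← hk']; group
  rw [SetLike.mem_coe, h2]
  exact commutator_mem_commutator (hPK hx) hk

theorem commutator_inf_eq_of_controls (P : Sylow p G) {K : Subgroup G}
    (hPK : (P : Subgroup G) ≤ K) (h : ControlsElementFusion K (P : Subgroup G)) :
    commutator G ⊓ (P : Subgroup G) = ⁅K, K⁆ ⊓ (P : Subgroup G) := by
  refine le_antisymm ?_ (inf_le_inf_right _ (commutator_mono le_top le_top))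
  rw [commutator_inf_eq_focalSubgroup]
  exact le_inf (focalSubgroup_le_of_controls P hPK h) (focalSubgroup_le _)

open scoped IsMulCommutative in
/-- `P ∩ O^p(G)G'` is the focal subgroup. -/
theorem pResidual_sup_commutator_inf (P : Sylow p G) :
    (pResidual p G ⊔ commutator G) ⊓ (P : Subgroup G) = (P : Subgroup G).focalSubgroup := by
  refine le_antisymm ((inf_le_inf_right _ (sup_le ?_ ?_)).trans
    (ker_transferFocal_inf_eq_focalSubgroup P).le) ?_
  · exact pResidual_le_ker (P.isPGroup'.to_quotient _) _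
  · exact Abelianization.commutator_subset_ker (P : Subgroup G).transferFocal
  · exact le_inf ((focalSubgroup_le_commutator _).trans le_sup_right) (focalSubgroup_le _)

theorem pResidual_sup_commutator_inf' (P : Sylow p G) :
    (pResidual p G ⊔ commutator G) ⊓ (P : Subgroup G) = commutator G ⊓ (P : Subgroup G) :=
  (pResidual_sup_commutator_inf P).trans (commutator_inf_eq_focalSubgroup P).symm

theorem pResidual_inf_le_commutator (P : Sylow p G) :
    pResidual p G ⊓ (P : Subgroup G) ≤ commutator G ⊓ (P : Subgroup G) :=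
  (inf_le_inf_right _ le_sup_left).trans (pResidual_sup_commutator_inf' P).le

/-- A subgroup lying above a subgroup that contains `O^p` is generated by that and its
intersection with a Sylow subgroup. -/
theorem eq_sup_inf_sylow (P : Sylow p G) {K S : Subgroup G} [K.Normal]
    (hK : pResidual p G ≤ K) (hS : K ≤ S) : S = K ⊔ ((P : Subgroup G) ⊓ S) := by
  refine le_antisymm (fun s hs => ?_) (sup_le hS inf_le_right)
  have hs' : s ∈ ((P : Subgroup G) ⊔ K : Subgroup G) := by
    rw [sylow_sup_eq_top P hK]; trivial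
  rw [← SetLike.mem_coe, mul_normal] at hs'
  obtain ⟨x, hx, k, hk, rfl⟩ := Set.mem_mul.mp hs'
  exact mul_mem (mem_sup_right ⟨hx, (mul_mem_cancel_right (hS hk)).mp hs⟩) (mem_sup_left hk)

theorem le_normalizer_of_weaklyClosed {P Z : Subgroup G} (hW : IsWeaklyClosed Z P) :
    P ≤ normalizer (Z : Set G) := fun x hx => by
  refine mem_normalizer_iff_map_conj_eq.mpr (hW.2 x ?_)
  rintro _ ⟨z, hz, rfl⟩
  simp only [MulEquiv.coe_toMonoidHom, MulAut.conj_apply]
  exact mul_mem (mul_mem hx (hW.1 hz)) (inv_mem hx)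

/-- The normalizer of a weakly closed subgroup of the centre of `P` controls fusion of elements. -/
theorem controls_of_weaklyClosed_central (P : Sylow p G) {Z : Subgroup G}
    (hZ : Z ≤ centralizer (P : Set G)) (hW : IsWeaklyClosed Z (P : Subgroup G)) :
    ControlsElementFusion (normalizer (Z : Set G)) (P : Subgroup G) := by
  intro x hx g hg

  -- `Z` and `gZg⁻¹` both centralise `y`; conjugate one into a Sylow subgroup containing `P`
  set y := g * x * g⁻¹ with hy
  set C := Subgroup.centralizer ({y} : Set G) with hC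
  have hZC : ∀ w ∈ (P : Subgroup G), Z ≤ Subgroup.centralizer ({w} : Set G) := fun w hw z hz =>
    Subgroup.mem_centralizer_iff.mpr fun v hv => by
      rw [Set.mem_singleton_iff.mp hv]; exact Subgroup.mem_centralizer_iff.mp (hZ hz) w hw
  let Z₂ := Z.map (MulAut.conj g).toMonoidHom
  have hZ2 : Z₂ ≤ C := by
    rintro _ ⟨z, hz, rfl⟩
    refine Subgroup.mem_centralizer_iff.mpr fun v hv => ?_
    have := Subgroup.mem_centralizer_iff.mp (hZC x hx hz) x rfl
    rw [Set.mem_singleton_iff.mp hv]
    simp only [MulEquiv.coe_toMonoidHom, MulAut.conj_apply, hy]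
    calc g * x * g⁻¹ * (g * z * g⁻¹) = g * (x * z) * g⁻¹ := by group
      _ = g * (z * x) * g⁻¹ := by rw [this]
      _ = g * z * g⁻¹ * (g * x * g⁻¹) := by group
  have hZp : IsPGroup p Z := P.isPGroup'.to_le hW.1
  obtain ⟨S, hS⟩ := (hZp.comap_subtype (K := C)).exists_le_sylow
  obtain ⟨S₂, hS₂⟩ := ((hZp.map (MulAut.conj g).toMonoidHom).comap_subtype (K := C)).exists_le_sylow
  obtain ⟨c, hc⟩ := MulAction.exists_smul_eq C S₂ S
  obtain ⟨R, hR⟩ := (S.isPGroup'.map C.subtype).exists_le_sylow
  obtain ⟨r, hr⟩ := MulAction.exists_smul_eq G R P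
  -- `r` and `r * c * g` both carry `Z` into `P`
  have h1 : Z.map (MulAut.conj r).toMonoidHom ≤ (P : Subgroup G) := by
    rw [← hr]
    refine Subgroup.map_mono fun z hz => hR ?_
    exact ⟨⟨z, hZC y hg hz⟩, hS hz, rfl⟩
  have h2 : Z.map (MulAut.conj (r * c * g)).toMonoidHom ≤ (P : Subgroup G) := by
    rintro _ ⟨z, hz, rfl⟩
    have hz2 : g * z * g⁻¹ ∈ Z₂ := ⟨z, hz, rfl⟩
    have h3 : (MulAut.conj c).toMonoidHom ⟨g * z * g⁻¹, hZ2 hz2⟩ ∈ ((c • S₂ : Sylow p C) : Subgroup C) :=
      ⟨_, hS₂ hz2, rfl⟩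
    rw [hc] at h3
    have h4 : (MulAut.conj r).toMonoidHom ((c : G) * (g * z * g⁻¹) * (c : G)⁻¹) ∈
        ((r • R : Sylow p G) : Subgroup G) := ⟨_, hR ⟨_, h3, rfl⟩, rfl⟩
    rw [hr] at h4
    simpa [MulAut.conj_apply, mul_assoc] using h4
  refine ⟨c * g, ?_, ?_⟩
  · have e1 := Subgroup.mem_normalizer_iff_map_conj_eq.mpr (hW.2 _ h1)
    have e2 := Subgroup.mem_normalizer_iff_map_conj_eq.mpr (hW.2 _ h2)
    simpa [mul_assoc] using mul_mem (inv_mem e1) e2
  · have h5 : y * c = c * y := Subgroup.mem_centralizer_iff.mp c.2 y rfl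
    calc (c : G) * g * x * ((c : G) * g)⁻¹ = (c : G) * y * (c : G)⁻¹ := by rw [hy]; group
      _ = y := by rw [← h5]; group

end Cfsg.Agent.Fusion
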