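import Cfsg.Agent.Fusion.Frobenius
import Cfsg.Agent.H62.CoprimeFix
import Cfsg.Agent.Coprime.Abelian

/-!
# Normal `p`-complements from coprime automorphisms of `p`-subgroups
-/

set_option autoImplicit false
set_option linter.unusedSectionVars false
set_option linter.style.haveILetI false

namespace Cfsg.Agent.Fusion

open Subgroup
open scoped IsMulCommutative

universe u

variable {G : Type u} [Group G] [Finite G] {p : ℕ} [Fact p.Prime]

/-- An element of order prime to `p` normalizing a `p`-subgroup and fixing its elements of order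
`p` (and `4` if `p = 2`) centralizes it. -/
theorem mem_centralizer_of_fix {Q : Subgroup G} (hQ : IsPGroup p Q) {g : G}
    (hg : g ∈ normalizer (Q : Set G)) (hgp : (orderOf g).Coprime p)
    (h1 : ∀ x ∈ Q, x ^ p = 1 → g * x * g⁻¹ = x)
    (h4 : p = 2 → ∀ x ∈ Q, x ^ 4 = 1 → g * x * g⁻¹ = x) : g ∈ centralizer (Q : Set G) := by
  have h := H62.fix_all hQ (H62.conjAut Q hg) hgp (H62.conjAut_pow_orderOf Q hg)
    (fun x hx => Subtype.ext (h1 x x.2 (congrArg Subtype.val hx)))
    (fun hp x hx => Subtype.ext (h4 hp x x.2 (congrArg Subtype.val hx)))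
  refine mem_centralizer_iff.mpr fun x hx => ?_
  have h2 : g * x * g⁻¹ = x := by
    have h3 := congrArg (fun a : MulAut Q => ((a ⟨x, hx⟩ : Q) : G)) h
    simpa [H62.conjAut_coe] using h3
  exact (mul_inv_eq_iff_eq_mul.mp h2).symm

/-- A normal `p`-complement exists if `p'`-elements normalizing a subgroup of `P` fix its elements
of order `p` (and `4` if `p = 2`). -/
theorem hasNormalPComplement_of_fix (P : Sylow p G)
    (h : ∀ Q : Subgroup G, Q ≤ (P : Subgroup G) → ∀ g ∈ normalizer (Q : Set G),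
      (orderOf g).Coprime p → ∀ x ∈ Q, (x ^ p = 1 ∨ p = 2 ∧ x ^ 4 = 1) → g * x * g⁻¹ = x) :
    HasNormalPComplement p G :=
  (frobenius_criterion P).mpr fun Q hQ g hg hgp =>
    mem_centralizer_of_fix (P.isPGroup'.to_le hQ) hg hgp
      (fun x hx hxp => h Q hQ g hg hgp x hx (Or.inl hxp))
      (fun hp x hx hxp => h Q hQ g hg hgp x hx (Or.inr ⟨hp, hxp⟩))

/-- For abelian `p`-groups elements of order `p` suffice. -/
theorem mem_centralizer_of_fix_abelian {Q : Subgroup G} [IsMulCommutative Q] (hQ : IsPGroup p Q)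
    {g : G} (hg : g ∈ normalizer (Q : Set G)) (hgp : (orderOf g).Coprime p)
    (h1 : ∀ x ∈ Q, x ^ p = 1 → g * x * g⁻¹ = x) : g ∈ centralizer (Q : Set G) := by
  have hp : p.Prime := Fact.out
  obtain ⟨k, hk⟩ := IsPGroup.iff_card.mp hQ
  refine Coprime.le_centralizer_of_prime_order (A := zpowers g) (zpowers_le.mpr hg) ?_ ?_
    (mem_zpowers g)
  · rw [Nat.card_zpowers, hk]
    exact hgp.pow_right k
  · intro v hv hvp a ha
    have hvd : orderOf v ∣ p ^ k := hk ▸ Q.orderOf_dvd_natCard hv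
    have hov : orderOf v = p := (Nat.prime_dvd_prime_iff_eq hvp hp).mp (hvp.dvd_of_dvd_pow hvd)
    have hC : g ∈ centralizer ({v} : Set G) :=
      mem_centralizer_singleton_iff.mpr
        (mul_inv_eq_iff_eq_mul.mp (h1 v hv (hov ▸ pow_orderOf_eq_one v)))
    exact mem_centralizer_singleton_iff.mp (zpowers_le.mpr hC ha)

/-- Splitting a group element into its `p`-part and its part of order prime to `p`. -/
theorem exists_mul_eq_pPart (g : G) : ∃ a b : G, g = a * b ∧ a ∈ zpowers g ∧ b ∈ zpowers g ∧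
    (∃ k : ℕ, orderOf a ∣ p ^ k) ∧ (orderOf b).Coprime p := by
  have hp : p.Prime := Fact.out
  obtain ⟨k, m, hm, hord⟩ := Nat.exists_eq_pow_mul_and_not_dvd (orderOf_pos g).ne' p hp.ne_one
  have hcop : Int.gcd ((p ^ k : ℕ) : ℤ) (m : ℤ) = 1 :=
    ((hp.coprime_iff_not_dvd.mpr hm).pow_left k)
  have hb := Int.gcd_eq_gcd_ab ((p ^ k : ℕ) : ℤ) (m : ℤ)
  rw [hcop] at hb
  refine ⟨g ^ ((m : ℤ) * Int.gcdB ((p ^ k : ℕ) : ℤ) m),
    g ^ (((p ^ k : ℕ) : ℤ) * Int.gcdA ((p ^ k : ℕ) : ℤ) m), ?_, zpow_mem (mem_zpowers g) _,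
    zpow_mem (mem_zpowers g) _, ⟨k, ?_⟩, ?_⟩
  · rw [← zpow_add, add_comm, ← hb]
    simp
  · apply orderOf_dvd_of_pow_eq_one
    rw [← zpow_natCast, ← zpow_mul]
    apply orderOf_dvd_iff_zpow_eq_one.mp
    rw [hord]
    exact ⟨Int.gcdB ((p ^ k : ℕ) : ℤ) m, by push_cast; ring⟩
  · refine Nat.Coprime.coprime_dvd_left ?_ (hp.coprime_iff_not_dvd.mpr hm).symm
    apply orderOf_dvd_of_pow_eq_one
    rw [← zpow_natCast, ← zpow_mul]
    apply orderOf_dvd_iff_zpow_eq_one.mp
    rw [hord]
    exact ⟨Int.gcdA ((p ^ k : ℕ) : ℤ) m, by push_cast; ring⟩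

/-- An abelian Sylow subgroup centralized by the `p'`-elements of its normalizer has a normal
complement. -/
theorem hasNormalPComplement_of_abelian (P : Sylow p G) [IsMulCommutative (P : Subgroup G)]
    (h : ∀ g ∈ normalizer (P : Set G), (orderOf g).Coprime p → g ∈ centralizer (P : Set G)) :
    HasNormalPComplement p G := by
  refine hasNormalPComplement_of_normalizer_le_centralizer P fun g hg => ?_
  obtain ⟨a, b, rfl, ha, hb, ⟨k, hak⟩, hbp⟩ := exists_mul_eq_pPart (p := p) g
  have haN : a ∈ normalizer (P : Set G) := zpowers_le.mpr hg ha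
  refine mul_mem ?_ (h b (zpowers_le.mpr hg hb) hbp)
  have haP : a ∈ (P : Subgroup G) := by
    have hA : IsPGroup p (zpowers a) := by
      refine IsPGroup.of_card_dvd_pow (n := k) ?_
      rw [Nat.card_zpowers]; exact hak
    have hle : (P : Subgroup G) ⊔ zpowers a = (P : Subgroup G) :=
      P.is_maximal' (P.isPGroup'.to_sup_of_normal_left' hA (zpowers_le.mpr haN)) le_sup_left
    exact hle ▸ mem_sup_right (mem_zpowers a)
  exact le_centralizer_iff_isMulCommutative.mpr inferInstance haP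

/-- The elements of order dividing `p` in an abelian subgroup. -/
def omegaAb (p : ℕ) (P : Subgroup G) [IsMulCommutative P] : Subgroup G :=
  (powMonoidHom p : P →* P).ker.map P.subtype

theorem mem_omegaAb {P : Subgroup G} [IsMulCommutative P] {x : G} :
    x ∈ omegaAb p P ↔ x ∈ P ∧ x ^ p = 1 := by
  constructor
  · rintro ⟨y, hy, rfl⟩
    exact ⟨y.2, congrArg Subtype.val (MonoidHom.mem_ker.mp hy)⟩
  · rintro ⟨hx, hxp⟩
    exact ⟨⟨x, hx⟩, MonoidHom.mem_ker.mpr (Subtype.ext hxp), rfl⟩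

theorem omegaAb_le {P : Subgroup G} [IsMulCommutative P] : omegaAb p P ≤ P :=
  fun _ hx => (mem_omegaAb.mp hx).1

theorem card_omegaAb_dvd {P : Subgroup G} [IsMulCommutative P] :
    Nat.card (omegaAb p P) ∣ p ^ Group.rank P := by
  set f := (powMonoidHom p : P →* P) with hf
  have h1 : Nat.card (omegaAb p P) = Nat.card (P ⧸ f.range) := by
    rw [omegaAb, card_map_of_injective P.subtype_injective]
    have e1 := f.ker.card_mul_index
    rw [index_ker] at e1
    have e2 := f.range.card_mul_index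
    rw [← e1, mul_comm (Nat.card f.ker)] at e2
    rw [← index_eq_card]
    exact (Nat.eq_of_mul_eq_mul_left Nat.card_pos e2).symm
  rw [h1]
  have hexp : ∀ y : P ⧸ f.range, y ^ p = 1 := by
    intro y
    obtain ⟨y, rfl⟩ := QuotientGroup.mk'_surjective f.range y
    rw [← map_pow]
    exact (QuotientGroup.eq_one_iff _).mpr ⟨y, rfl⟩
  exact (card_dvd_exponent_pow_rank' (P ⧸ f.range) hexp).trans (Nat.pow_dvd_pow p
    (Group.rank_le_of_surjective _ (QuotientGroup.mk'_surjective f.range)))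

/-- An element whose order is prime to `p ^ i - 1` for `i ≤ r` fixes a subgroup of order at most
`p ^ r` and exponent `p`, if it normalizes it. -/
theorem fix_of_card_le {V : Subgroup G} (hV : IsPGroup p V) {g : G}
    (hg : g ∈ normalizer (V : Set G)) (hgp : (orderOf g).Coprime p) {r : ℕ}
    (hr : Nat.card V ≤ p ^ r)
    (hq : ∀ q : ℕ, q.Prime → q ∣ orderOf g → ∀ i : ℕ, 1 ≤ i → i ≤ r → ¬ q ∣ p ^ i - 1) :
    g ∈ centralizer (V : Set G) := by
  have hp : p.Prime := Fact.out
  induction hm : orderOf g using Nat.strong_induction_on generalizing g with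
  | _ m ih =>
  subst hm
  by_cases h1 : orderOf g = 1
  · rw [orderOf_eq_one_iff.mp h1]; exact one_mem _
  obtain ⟨q, hqp, hqd⟩ := Nat.exists_prime_and_dvd h1
  haveI : Fact q.Prime := ⟨hqp⟩
  have hgq : g ^ q ∈ centralizer (V : Set G) := by
    have ho : orderOf (g ^ q) = orderOf g / q := orderOf_pow_of_dvd hqp.ne_zero hqd
    have hd : orderOf (g ^ q) ∣ orderOf g := ho ▸ Nat.div_dvd_of_dvd hqd
    exact ih _ (ho ▸ Nat.div_lt_self (orderOf_pos g) hqp.one_lt) (pow_mem hg q)
      (hgp.coprime_dvd_left hd) (fun s hs hsd => hq s hs (hsd.trans hd)) rfl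
  set σ : Equiv.Perm V := (H62.conjAut V hg).toEquiv with hσ
  have hσapp : ∀ (n : ℕ) (x : V), ((σ ^ n) x : G) = g ^ n * x * (g ^ n)⁻¹ := by
    intro n x
    induction n generalizing x with
    | zero => simp
    | succ n ihn =>
      rw [pow_succ, Equiv.Perm.mul_apply, ihn, pow_succ, mul_inv_rev]
      change g ^ n * (g * x * g⁻¹) * (g ^ n)⁻¹ = _
      group
  have hσq : σ ^ q = 1 := by
    refine Equiv.ext fun x => Subtype.ext ?_
    rw [hσapp, ← mem_centralizer_iff.mp hgq x x.2, mul_inv_cancel_right]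
    rfl
  have hpg : IsPGroup q (zpowers σ) := by
    refine IsPGroup.of_card_dvd_pow (n := 1) ?_
    rw [Nat.card_zpowers, pow_one]
    exact orderOf_dvd_of_pow_eq_one hσq
  set W := V ⊓ centralizer ({g} : Set G) with hW
  have hfix : Nat.card (MulAction.fixedPoints (zpowers σ) V) = Nat.card W := by
    refine Nat.card_congr ⟨fun x => ⟨x.1, x.1.2, ?_⟩, fun x => ⟨⟨x, x.2.1⟩, ?_⟩,
      fun _ => rfl, fun _ => rfl⟩
    · have h2 := congrArg Subtype.val (x.2 ⟨σ, mem_zpowers σ⟩)
      exact mem_centralizer_singleton_iff.mpr (mul_inv_eq_iff_eq_mul.mp h2).symm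
    · rintro ⟨τ, n, rfl⟩
      have h2 : σ ⟨x, x.2.1⟩ = ⟨x, x.2.1⟩ := Subtype.ext (by
        change g * (x : G) * g⁻¹ = x
        rw [← mem_centralizer_singleton_iff.mp x.2.2, mul_inv_cancel_right])
      change (σ ^ n) ⟨x, x.2.1⟩ = ⟨x, x.2.1⟩
      exact Equiv.Perm.zpow_apply_eq_self_of_apply_eq_self h2 n
  have hmod := hpg.card_modEq_card_fixedPoints V
  rw [hfix] at hmod
  refine mem_centralizer_iff.mpr fun x hx => ?_
  have hWV : W = V := by
    obtain ⟨v, hv⟩ := IsPGroup.iff_card.mp hV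
    obtain ⟨s, hs⟩ := IsPGroup.iff_card.mp (hV.to_le (inf_le_left : W ≤ V))
    have hsv : s ≤ v := (Nat.pow_le_pow_iff_right hp.one_lt).mp
      (hs ▸ hv ▸ card_le_of_le inf_le_left)
    refine eq_of_le_of_card_ge inf_le_left (le_of_eq ?_)
    by_contra hne
    rw [hv, hs] at hmod hne
    have hlt : s < v := lt_of_le_of_ne hsv fun h => hne (by rw [h])
    have hvr : v ≤ r := (Nat.pow_le_pow_iff_right hp.one_lt).mp (hv ▸ hr)
    have hd : q ∣ p ^ s * (p ^ (v - s) - 1) := by
      rw [Nat.mul_sub, mul_one, ← pow_add, Nat.add_sub_cancel' hsv]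
      exact (Nat.modEq_iff_dvd' (Nat.pow_le_pow_right hp.pos hsv)).mp hmod.symm
    rcases hqp.dvd_mul.mp hd with h2 | h2
    · exact hqp.one_lt.ne' (Nat.eq_one_of_dvd_coprimes hgp hqd (hqp.dvd_of_dvd_pow h2))
    · exact hq q hqp hqd (v - s) (by omega) (by omega) h2
  exact mem_centralizer_singleton_iff.mp (hWV ▸ hx : x ∈ W).2

/-- A small abelian Sylow subgroup has a normal complement when the order of the group avoids the
prime divisors of `p ^ i - 1`, `i ≤ r`. -/
theorem hasNormalPComplement_of_abelian_small (P : Sylow p G) [IsMulCommutative (P : Subgroup G)]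
    {r : ℕ} (hr : Nat.card (omegaAb p (P : Subgroup G)) ≤ p ^ r)
    (hq : ∀ q : ℕ, q.Prime → q ≠ p → q ∣ Nat.card G → ∀ i : ℕ, 1 ≤ i → i ≤ r → ¬ q ∣ p ^ i - 1) :
    HasNormalPComplement p G := by
  have hp : p.Prime := Fact.out
  refine hasNormalPComplement_of_abelian P fun g hg hgp => ?_
  refine mem_centralizer_of_fix_abelian P.isPGroup' hg hgp fun x hx hxp => ?_
  have hgV : g ∈ normalizer ((omegaAb p (P : Subgroup G) : Subgroup G) : Set G) := by
    rw [mem_normalizer_iff]
    intro y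
    rw [mem_omegaAb, mem_omegaAb, conj_pow, ← mul_inv_eq_one (a := g * y ^ p * g⁻¹) (b := 1)]
    simp only [inv_one, mul_one, conj_eq_one_iff]
    exact and_congr_left fun _ => mem_normalizer_iff.mp hg y
  have h1 := fix_of_card_le (P.isPGroup'.to_le omegaAb_le) hgV hgp hr (fun q hq' hqd =>
    hq q hq' (fun h => hp.coprime_iff_not_dvd.mp (h ▸ hgp.symm) (h ▸ hqd))
      (hqd.trans (orderOf_dvd_natCard g)))
  rw [← mem_centralizer_iff.mp h1 x (mem_omegaAb.mpr ⟨hx, hxp⟩), mul_inv_cancel_right]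

end Cfsg.Agent.Fusion
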