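import Cfsg.Agent.Fusion.Basic

/-!
# Tate's theorem

If `H` has index prime to `p` and every normal subgroup of index `p` of `H` contains
`H ∩ O^p(G)`, then `H ∩ O^p(G) = O^p(H)`. The proof is by transfer in a central extension
(the argument that restriction on second cohomology is injective).
-/

set_option autoImplicit false
set_option linter.unusedSectionVars false
set_option linter.style.haveILetI false

namespace Cfsg.Agent.Fusion

open Subgroup

universe u

variable {G : Type u} [Group G] [Finite G] {p : ℕ} [Fact p.Prime]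

/-- The core of Tate's theorem: a hom from `H` to a `p`-group `E`, compatible with
`q : E → Q` with central kernel of exponent `p`, lifts to `G`. -/
theorem exists_lift {H : Subgroup G} (hH : ¬ p ∣ H.index) {E : Type u} [Group E] [Finite E]
    {Q : Type u} [Group Q] (q : E →* Q) (hq : Function.Surjective q) (hZ : q.ker ≤ center E)
    (hE : IsPGroup p E) (π : G →* Q) (θ : H →* E) (hθ : ∀ h : H, q (θ h) = π h) :
    ∃ φ : G →* E, ∀ g, q (φ g) = π g := by
  have hp : p.Prime := Fact.out
  let Ê : Subgroup (G × E) :=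
    (π.comp (MonoidHom.fst G E)).eqLocus (q.comp (MonoidHom.snd G E))
  let f : Ê →* G := (MonoidHom.fst G E).comp Ê.subtype
  have hfs : Function.Surjective f := fun g => by
    obtain ⟨e, he⟩ := hq (π g)
    exact ⟨⟨(g, e), he.symm⟩, rfl⟩
  let Ĥ : Subgroup Ê := H.comap f
  have hi : Ĥ.index = H.index := H.index_comap_of_surjective hfs
  haveI : IsMulCommutative q.ker := ⟨⟨fun a b => Subtype.ext (mem_center_iff.mp (hZ b.2) a)⟩⟩
  have hmem : ∀ x : Ĥ, (x : G × E).2 * (θ ⟨(x : G × E).1, x.2⟩)⁻¹ ∈ q.ker := fun x => by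
    rw [MonoidHom.mem_ker, map_mul, map_inv, hθ, mul_inv_eq_one]
    exact (x : Ê).2.symm
  let ψ : Ĥ →* q.ker :=
    MonoidHom.mk' (fun x => ⟨_, hmem x⟩) (fun x y => by
      refine Subtype.ext ?_
      change ((x : G × E).2 * (y : G × E).2) *
          (θ ((⟨(x : G × E).1, x.2⟩ : H) * ⟨(y : G × E).1, y.2⟩))⁻¹ =
        ((x : G × E).2 * (θ ⟨(x : G × E).1, x.2⟩)⁻¹) *
          ((y : G × E).2 * (θ ⟨(y : G × E).1, y.2⟩)⁻¹)
      rw [map_mul, mul_inv_rev]
      have hc := mem_center_iff.mp (hZ (hmem y)) (θ ⟨(x : G × E).1, x.2⟩)⁻¹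
      simp only [mul_assoc] at hc ⊢
      rw [← hc])
  open scoped IsMulCommutative in
  let V : Ê →* q.ker := MonoidHom.transfer ψ
  have hV : ∀ (z : E) (hz : z ∈ q.ker),
      (V ⟨(1, z), show π 1 = q z from (map_one π).trans (MonoidHom.mem_ker.mp hz).symm⟩ : E) = z ^ H.index := by
    intro z hz
    open scoped IsMulCommutative in
    simp only [V]
    rw [MonoidHom.transfer_eq_pow ψ _ ?_]
    · simp [ψ, hi]
      exact map_one θ
    · intro k g₀ _
      apply Subtype.ext
      refine Prod.ext ?_ ?_
      · simp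
      · have hc := mem_center_iff.mp (hZ (pow_mem hz k)) (g₀ : G × E).2
        simp [mul_assoc, ← hc]
  have hcop : (Nat.card q.ker).Coprime H.index := by
    obtain ⟨n, hn⟩ := IsPGroup.iff_card.mp (hE.to_subgroup q.ker)
    rw [hn]
    exact (hp.coprime_iff_not_dvd.mpr hH).pow_left n
  have hbij : Function.Bijective (f.comp V.ker.subtype) := by
    constructor
    · rw [← MonoidHom.ker_eq_bot_iff, eq_bot_iff]
      rintro ⟨⟨⟨g, e⟩, hge⟩, hW⟩ h1
      obtain rfl : g = 1 := h1
      have hz : e ∈ q.ker := by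
        rw [MonoidHom.mem_ker]; simpa [Ê] using hge.symm
      have h2 := hV e hz
      rw [MonoidHom.mem_ker.mp hW, OneMemClass.coe_one] at h2
      have : (⟨e, hz⟩ : q.ker) = 1 :=
        (powCoprime hcop).injective (by simp [powCoprime, Subtype.ext_iff, ← h2])
      have he : e = 1 := congrArg Subtype.val this
      subst he
      rfl
    · intro g
      obtain ⟨x, hx⟩ := hfs g
      obtain ⟨w, hw⟩ := (powCoprime hcop).surjective (V x)
      let y : Ê := ⟨(1, (w : E)),
        show π 1 = q w from (map_one π).trans (MonoidHom.mem_ker.mp w.2).symm⟩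
      have hy : V y = V x := by
        apply Subtype.ext
        rw [hV (w : E) w.2, ← hw]
        simp [powCoprime]
      exact ⟨⟨x * y⁻¹, by rw [MonoidHom.mem_ker, map_mul, map_inv, hy, mul_inv_cancel]⟩,
        by simp [f, y, ← hx]⟩
  refine ⟨((MonoidHom.snd G E).comp (Ê.subtype.comp V.ker.subtype)).comp
    (MulEquiv.ofBijective _ hbij).symm.toMonoidHom, fun g => ?_⟩
  let w := (MulEquiv.ofBijective _ hbij).symm g
  have h1 : f (w : Ê) = g := (MulEquiv.ofBijective _ hbij).apply_symm_apply g
  change q ((w : Ê) : G × E).2 = π g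
  rw [← h1]
  exact (w : Ê).2.symm

/-- In a `p`-group a minimal nontrivial normal subgroup is central of order `p`. -/
theorem exists_central_step {E : Type u} [Group E] [Finite E] (hE : IsPGroup p E)
    {A : Subgroup E} [A.Normal] (hA : A ≠ ⊥) :
    ∃ B : Subgroup E, B.Normal ∧ B < A ∧ B.relIndex A = p ∧ ⁅A, (⊤ : Subgroup E)⁆ ≤ B := by
  have hp : p.Prime := Fact.out
  have := hE.isNilpotent
  set C := ⁅A, (⊤ : Subgroup E)⁆ with hC
  have hCle : C ≤ A := commutator_le_left _ _
  have hlt : C < A := by
    refine lt_of_le_of_ne hCle fun hCA => hA ?_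
    obtain ⟨n, hn⟩ := Subgroup.nilpotent_iff_lowerCentralSeries.mp this
    have h1 : ∀ k, A ≤ (⊤ : Subgroup E).lowerCentralSeries k := by
      intro k
      induction k with
      | zero => exact le_top
      | succ k ih =>
        rw [Subgroup.lowerCentralSeries_succ, ← hCA]
        exact commutator_mono ih le_rfl
    exact eq_bot_iff.mpr (hn ▸ h1 n)
  -- a maximal subgroup of `A` above `C`
  obtain ⟨a, ha⟩ := IsPGroup.iff_card.mp (hE.to_subgroup A)
  obtain ⟨c, hc⟩ := IsPGroup.iff_card.mp (hE.to_subgroup C)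
  have hca : c < a := by
    refine (Nat.pow_lt_pow_iff_right hp.one_lt).mp ?_
    rw [← ha, ← hc]
    exact lt_of_le_of_ne (card_le_of_le hCle) fun h => hlt.ne (eq_of_le_of_card_ge hCle h.ge)
  have hsub : (C.subgroupOf A : Subgroup A) = C.subgroupOf A := rfl
  have hcc : Nat.card (C.subgroupOf A) = p ^ c := by
    rw [Nat.card_congr (subgroupOfEquivOfLe hCle).toEquiv, hc]
  obtain ⟨K, hK, hCK⟩ := Sylow.exists_subgroup_card_pow_prime_le (G := A) p
    (n := c) (m := a - 1) (by rw [ha]; exact pow_dvd_pow p (Nat.sub_le a 1))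
    (C.subgroupOf A) hcc (by omega)
  have hBA : K.map A.subtype ≤ A := map_subtype_le K
  have hCB : C ≤ K.map A.subtype := by
    rw [← map_subgroupOf_eq_of_le hCle]
    exact map_mono hCK
  refine ⟨K.map A.subtype, ?_, ?_, ?_, hCB⟩
  · rw [← commutator_top_right_le_iff]
    exact (commutator_mono hBA le_rfl).trans hCB
  · refine lt_of_le_of_ne hBA fun h => ?_
    have : Nat.card (K.map A.subtype) = Nat.card A := by rw [h]
    rw [Nat.card_congr (K.equivMapOfInjective _ A.subtype_injective).toEquiv.symm, hK, ha] at this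
    exact absurd (Nat.pow_right_injective hp.two_le this) (by omega)
  · have h1 : K.index = p := by
      have := K.card_mul_index
      rw [hK, ha] at this
      have h2 : p ^ (a - 1) * p = p ^ a := by rw [← pow_succ]; congr 1; omega
      exact Nat.eq_of_mul_eq_mul_left (pow_pos hp.pos _) (this.trans h2.symm)
    have h2 := relIndex_map_map_of_injective K ⊤ A.subtype_injective
    rw [← MonoidHom.range_eq_map, range_subtype, relIndex_top_right, h1] at h2
    exact h2

/-- **Tate's theorem**. -/
theorem tate {H : Subgroup G} (hH : ¬ p ∣ H.index)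
    (h : ∀ L : Subgroup H, L.Normal → L.index = p → (pResidual p G).subgroupOf H ≤ L) :
    (pResidual p G).subgroupOf H = pResidual p H := by
  have hp : p.Prime := Fact.out
  refine le_antisymm ?_ (pResidual_le_subgroupOf H)
  by_contra hne
  set M := pResidual p G with hM
  set K := pResidual p H with hK
  set S := M.subgroupOf H with hS
  have hKS : K ≤ S := pResidual_le_subgroupOf H
  have hA : S.map (QuotientGroup.mk' K) ≠ ⊥ := fun h0 => hne fun s hs => by
    have : QuotientGroup.mk' K s ∈ S.map (QuotientGroup.mk' K) := ⟨s, hs, rfl⟩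
    rw [h0] at this
    exact (QuotientGroup.eq_one_iff s).mp this
  haveI : (S.map (QuotientGroup.mk' K)).Normal :=
    Subgroup.Normal.map inferInstance _ (QuotientGroup.mk'_surjective K)
  obtain ⟨B, hBn, hBA, hBi, hBc⟩ :=
    exists_central_step (p := p) isPGroup_quotient_pResidual hA
  set L := B.comap (QuotientGroup.mk' K) with hL
  have hLS : L ≤ S := by
    refine (comap_mono hBA.le).trans ?_
    rw [comap_map_eq, QuotientGroup.ker_mk']
    exact sup_le le_rfl hKS
  haveI : L.Normal := hBn.comap _
  have hrel : L.relIndex S = p := by rw [hL, relIndex_comap, hBi]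
  have hcentral : ⁅S, (⊤ : Subgroup H)⁆ ≤ L := by
    rw [hL, ← map_le_iff_le_comap, map_commutator,
      map_top_of_surjective _ (QuotientGroup.mk'_surjective K)]
    exact hBc
  let π : G →* G ⧸ M := QuotientGroup.mk' M
  have hπH : Function.Surjective (π.comp H.subtype) := by
    intro x
    obtain ⟨g, rfl⟩ := QuotientGroup.mk'_surjective M x
    have hg : g ∈ H ⊔ M := by rw [hM, sup_pResidual_eq_top hH]; trivial
    rw [← SetLike.mem_coe, mul_normal] at hg
    obtain ⟨a, ha, m, hm, rfl⟩ := Set.mem_mul.mp hg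
    refine ⟨⟨a, ha⟩, ?_⟩
    change π a = π (a * m)
    rw [map_mul, show π m = 1 from (QuotientGroup.eq_one_iff m).mpr hm, mul_one]
  have hker : (π.comp H.subtype).ker = S := by
    rw [← MonoidHom.comap_ker, QuotientGroup.ker_mk']; rfl
  let q : H ⧸ L →* G ⧸ M := QuotientGroup.lift L (π.comp H.subtype) (by rw [hker]; exact hLS)
  have hq : Function.Surjective q := QuotientGroup.lift_surjective_of_surjective L _ hπH _
  have hZ : q.ker ≤ center (H ⧸ L) := by
    intro z hz
    obtain ⟨s, rfl⟩ := QuotientGroup.mk'_surjective L z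
    have hs : s ∈ S := by
      rw [← hker]; exact hz
    rw [mem_center_iff]
    intro e
    obtain ⟨a, rfl⟩ := QuotientGroup.mk'_surjective L e
    refine (commutatorElement_eq_one_iff_mul_comm.mp ?_).symm
    rw [← map_commutatorElement]
    exact (QuotientGroup.eq_one_iff _).mpr (hcentral (commutator_mem_commutator hs (mem_top a)))
  have hQ : IsPGroup p (H ⧸ L) := by
    have hKL : K ≤ L := fun k hk => by
      simp [hL, (QuotientGroup.eq_one_iff k).mpr hk, one_mem]
    exact (isPGroup_quotient_pResidual (p := p) (G := H)).of_surjective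
      (QuotientGroup.map K L (MonoidHom.id H) hKL)
      (fun x => by
        obtain ⟨a, rfl⟩ := QuotientGroup.mk'_surjective L x
        exact ⟨QuotientGroup.mk' K a, rfl⟩)
  obtain ⟨φ, hφ⟩ := exists_lift hH q hq hZ hQ π (QuotientGroup.mk' L) (fun _ => rfl)
  let φbar : G ⧸ M →* H ⧸ L := QuotientGroup.lift M φ (pResidual_le_ker hQ φ)
  have hmem : ∀ e : H ⧸ L, e * (φbar (q e))⁻¹ ∈ q.ker := fun e => by
    obtain ⟨g, hg⟩ := QuotientGroup.mk'_surjective M (q e)
    rw [MonoidHom.mem_ker, map_mul, map_inv, mul_inv_eq_one, ← hg]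
    exact (hφ g).symm
  let ρ : H ⧸ L →* q.ker := MonoidHom.mk' (fun e => ⟨_, hmem e⟩) (fun a b => Subtype.ext (by
    have hc := mem_center_iff.mp (hZ (hmem b)) (φbar (q a))⁻¹
    simp only [Subgroup.coe_mul, map_mul, mul_inv_rev, mul_assoc] at hc ⊢
    rw [← hc]))
  have hρ : ∀ z ∈ q.ker, (ρ z : H ⧸ L) = z := fun z hz => by
    simp [ρ, MonoidHom.mem_ker.mp hz]
  have hsur : Function.Surjective (ρ.comp (QuotientGroup.mk' L)) := fun z => by
    obtain ⟨a, ha⟩ := QuotientGroup.mk'_surjective L (z : H ⧸ L)
    exact ⟨a, Subtype.ext (by rw [MonoidHom.comp_apply, ha, hρ _ z.2])⟩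
  have hcardZ : Nat.card q.ker = p := by
    rw [QuotientGroup.ker_lift, hker, ← relIndex_ker, QuotientGroup.ker_mk', hrel]
  have hind : (ρ.comp (QuotientGroup.mk' L)).ker.index = p := by
    rw [index_ker, MonoidHom.range_eq_top.mpr hsur, card_top, hcardZ]
  have hS2 := h _ inferInstance hind
  apply hp.one_lt.ne'
  rw [← hrel]
  refine relIndex_eq_one.mpr fun s hs => ?_
  have h1 : QuotientGroup.mk' L s ∈ q.ker := by
    have : s ∈ (π.comp H.subtype).ker := by rw [hker]; exact hs
    exact this
  have h2 : ρ (QuotientGroup.mk' L s) = 1 := hS2 hs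
  have h3 := hρ _ h1
  rw [h2, OneMemClass.coe_one] at h3
  exact (QuotientGroup.eq_one_iff s).mp h3.symm

/-- Tate's theorem when `N` controls the focal subgroup. -/
theorem tate_of_commutator_eq (P : Sylow p G) {N : Subgroup G} (hPN : (P : Subgroup G) ≤ N)
    (h : commutator G ⊓ (P : Subgroup G) ≤ ⁅N, N⁆) :
    (pResidual p G).subgroupOf N = pResidual p N := by
  have hind : ¬ p ∣ N.index := fun hd => P.not_dvd_index (hd.trans (index_dvd_of_le hPN))
  refine tate hind fun L hLn hLi => ?_
  have hK : pResidual p N ≤ L := pResidual_le_of_index (n := 1) (by rw [hLi, pow_one])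
  rw [eq_sup_inf_sylow (P.subtype hPN) (le_refl (pResidual p N)) (pResidual_le_subgroupOf N)]
  refine sup_le hK fun x hx => ?_
  obtain ⟨hx1, hx2⟩ := hx
  have h1 : (x : G) ∈ ⁅N, N⁆ := h (pResidual_inf_le_commutator P ⟨hx2, hx1⟩)
  rw [← map_subtype_commutator] at h1
  obtain ⟨y, hy, hyx⟩ := h1
  obtain rfl : y = x := Subtype.ext hyx
  haveI := hLn
  haveI : IsMulCommutative (N ⧸ L) := by
    haveI : IsCyclic (N ⧸ L) := isCyclic_of_prime_card (p := p) (by rw [← index_eq_card, hLi])
    infer_instance
  exact Normal.quotient_commutative_iff_commutator_le.mp inferInstance hy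

theorem tate_of_controls (P : Sylow p G) {N : Subgroup G} (hPN : (P : Subgroup G) ≤ N)
    (h : ControlsElementFusion N (P : Subgroup G)) :
    (pResidual p G).subgroupOf N = pResidual p N :=
  tate_of_commutator_eq P hPN ((commutator_inf_eq_of_controls P hPN h).le.trans inf_le_left)

/-- If `N` controls fusion in `P` and has a normal `p`-complement, so does `G`. -/
theorem hasNormalPComplement_of_commutator_eq (P : Sylow p G) {N : Subgroup G}
    (hPN : (P : Subgroup G) ≤ N) (h : commutator G ⊓ (P : Subgroup G) ≤ ⁅N, N⁆)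
    (hN : HasNormalPComplement p N) : HasNormalPComplement p G := by
  rw [hasNormalPComplement_iff_inf_eq_bot P]
  rw [hasNormalPComplement_iff_inf_eq_bot (P.subtype hPN), ← tate_of_commutator_eq P hPN h,
    Sylow.coe_subtype] at hN
  rw [eq_bot_iff]
  intro x hx
  have : (⟨x, hPN hx.1⟩ : N) ∈
      (P : Subgroup G).subgroupOf N ⊓ (pResidual p G).subgroupOf N := hx
  rw [hN] at this
  exact mem_bot.mpr (congrArg Subtype.val (mem_bot.mp this))

theorem hasNormalPComplement_of_controls (P : Sylow p G) {N : Subgroup G}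
    (hPN : (P : Subgroup G) ≤ N) (h : ControlsElementFusion N (P : Subgroup G))
    (hN : HasNormalPComplement p N) : HasNormalPComplement p G :=
  hasNormalPComplement_of_commutator_eq P hPN
    ((commutator_inf_eq_of_controls P hPN h).le.trans inf_le_left) hN

/-- If a Sylow subgroup controls its own fusion, there is a normal `p`-complement. -/
theorem hasNormalPComplement_of_self_controls (P : Sylow p G)
    (h : ControlsElementFusion (P : Subgroup G) (P : Subgroup G)) : HasNormalPComplement p G :=
  hasNormalPComplement_of_controls P le_rfl h (hasNormalPComplement_of_isPGroup P.isPGroup')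

end Cfsg.Agent.Fusion
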