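import Cfsg.Agent.Fusion.Alperin

/-!
# Generators of the focal subgroup from tame intersections and `p`-elements
-/

set_option autoImplicit false
set_option linter.unusedSectionVars false
set_option linter.style.haveILetI false

namespace Cfsg.Agent.Fusion

open Subgroup
open scoped commutatorElement

universe u

variable {G : Type u} [Group G] [Finite G] {p : ℕ} [Fact p.Prime]

/-- Chains through intersections of order at least `m` respect a subgroup `R` of differences. -/
theorem Conn.diff_mem {P : Sylow p G} {R : Subgroup G} {m : ℕ}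
    (hm : ∀ Q : Sylow p G, IsTame P Q →
      m ≤ Nat.card ((P : Subgroup G) ⊓ (Q : Subgroup G) : Subgroup G) →
      ∀ n ∈ normalizer (((P : Subgroup G) ⊓ (Q : Subgroup G) : Subgroup G) : Set G),
        ∀ a ∈ (P : Subgroup G) ⊓ (Q : Subgroup G), a⁻¹ * (n⁻¹ * a * n) ∈ R)
    {A : Set G} {g : G} (hc : Conn P A g) (hA : m ≤ A.ncard) :
    ∀ a ∈ A, a⁻¹ * (g⁻¹ * a * g) ∈ R := by
  induction hc with
  | refl A => intro a _; simp
  | step A g x Q hQ hAQ hx _ ih =>
    intro a ha
    have h1 : m ≤ Nat.card ((P : Subgroup G) ⊓ (Q : Subgroup G) : Subgroup G) := by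
      refine hA.trans ?_
      rw [← Nat.card_coe_set_eq]
      exact Nat.card_mono (Set.toFinite _) hAQ
    have h2 := ih (by
      rw [Set.ncard_image_of_injective A (fun b c hbc => mul_left_cancel (mul_right_cancel hbc))]
      exact hA) (x⁻¹ * a * x) ⟨a, ha, rfl⟩
    have h3 := mul_mem (hm Q hQ h1 x hx a (hAQ ha)) h2
    convert h3 using 1
    group

/-- The subgroup of differences produced by `N_G(P)` and `p`-elements of tame intersections is the
whole focal subgroup. -/
theorem diff_mem_of_tame (P : Sylow p G) {R : Subgroup G}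
    (hN : ∀ a ∈ (P : Subgroup G), ∀ n ∈ normalizer ((P : Subgroup G) : Set G),
      a⁻¹ * (n⁻¹ * a * n) ∈ R)
    (hpel : ∀ Q : Sylow p G, IsTame P Q →
      ∀ x ∈ normalizer (((P : Subgroup G) ⊓ (Q : Subgroup G) : Subgroup G) : Set G),
        (∃ k : ℕ, orderOf x = p ^ k) →
        ∀ a ∈ (P : Subgroup G) ⊓ (Q : Subgroup G), a⁻¹ * (x⁻¹ * a * x) ∈ R)
    {a g : G} (ha : a ∈ (P : Subgroup G)) (hag : g⁻¹ * a * g ∈ (P : Subgroup G)) :
    a⁻¹ * (g⁻¹ * a * g) ∈ R := by
  have key : ∀ d : ℕ, ∀ Q : Sylow p G, IsTame P Q →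
      Nat.card P - d ≤ Nat.card ((P : Subgroup G) ⊓ (Q : Subgroup G) : Subgroup G) →
      ∀ n ∈ normalizer (((P : Subgroup G) ⊓ (Q : Subgroup G) : Subgroup G) : Set G),
        ∀ b ∈ (P : Subgroup G) ⊓ (Q : Subgroup G), b⁻¹ * (n⁻¹ * b * n) ∈ R := by
    intro d
    induction d using Nat.strong_induction_on with
    | _ d ih =>
    intro Q hQ hd
    set H := (P : Subgroup G) ⊓ (Q : Subgroup G) with hH
    rcases lt_or_eq_of_le (inf_le_left : H ≤ (P : Subgroup G)) with hlt | heq
    swap
    · intro n hn b hb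
      rw [show H = (P : Subgroup G) from heq] at hn
      exact hN b hb.1 n hn
    set N := normalizer (H : Set G) with hNdef
    set U := (P : Subgroup G) ⊓ N with hU
    have hcard : Nat.card H < Nat.card U := by
      have h := ofSubgroupInfLt _ P.isPGroup' hlt
      exact Nat.lt_of_le_of_ne (card_le_of_le h.le) fun he => h.ne (eq_of_le_of_card_ge h.le he.ge)
    -- the elements of `N` generated by `p`-elements
    set K := closure {x : N | ∃ k : ℕ, orderOf (x : G) = p ^ k} with hK
    haveI : K.Normal := by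
      rw [← normalizer_eq_top_iff, eq_top_iff]
      intro y _
      rw [mem_normalizer_iff_map_conj_eq]
      refine eq_of_le_of_card_ge ?_ (card_map_of_injective (MulAut.conj y).injective).ge
      rw [hK, MonoidHom.map_closure, closure_le]
      rintro _ ⟨x, ⟨k, hk⟩, rfl⟩
      refine subset_closure ⟨k, ?_⟩
      rw [← hk, orderOf_coe, orderOf_coe]
      exact (MulAut.conj y).orderOf_eq x
    have hKgood : ∀ x ∈ K, ∀ b ∈ H, b⁻¹ * ((x : G)⁻¹ * b * x) ∈ R := by
      intro x hx
      induction hx using closure_induction with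
      | mem x hx => exact hpel Q hQ x x.2 hx
      | one => intro b _; simp
      | mul x y _ _ hx hy =>
        intro b hb
        have hb' : (x : G)⁻¹ * b * x ∈ H :=
          (mem_normalizer_iff''.mp x.2 b).mp hb
        convert mul_mem (hx b hb) (hy _ hb') using 1
        push_cast
        group
      | inv x _ hx =>
        intro b hb
        have hb' : (x : G) * b * (x : G)⁻¹ ∈ H := (mem_normalizer_iff.mp x.2 b).mp hb
        convert inv_mem (hx _ hb') using 1
        push_cast
        group
    let T : Sylow p N := (P.isPGroup'.to_le (inf_le_left : U ≤ P)).comap_subtype.toSylow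
      (fun hd' => hQ.1 hd')
    have hTK : (T : Subgroup N) ≤ K := by
      intro x hx
      refine subset_closure ?_
      obtain ⟨k, hk⟩ := IsPGroup.iff_orderOf.mp (P.isPGroup'.to_le (inf_le_left : U ≤ P))
        ⟨(x : G), hx⟩
      exact ⟨k, by rw [← Subgroup.orderOf_coe] at hk; exact hk⟩
    intro n hn b hb
    have htop := Sylow.normalizer_sup_eq_top' T hTK
    have hnm : (⟨n, hn⟩ : N) ∈ normalizer ((T : Subgroup N) : Set N) ⊔ K := by
      exact (htop.symm ▸ mem_top _ : (⟨n, hn⟩ : N) ∈ normalizer (T : Set N) ⊔ K)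
    obtain ⟨y, hy, k, hk, hyk⟩ := mem_sup_of_normal_right.mp hnm
    have hyU : ∀ u ∈ U, (y : G)⁻¹ * u * y ∈ U := fun u hu =>
      (mem_normalizer_iff''.mp hy ⟨u, hu.2⟩).mp hu
    have hstep : b⁻¹ * ((y : G)⁻¹ * b * y) ∈ R := by
      have hHU : H ≤ U := le_inf inf_le_left le_normalizer
      have hc : Conn P (U : Set G) (y : G) := alperin P (fun u hu => hu.1) (by
        rintro _ ⟨u, hu, rfl⟩
        exact (hyU u hu).1)
      have hUP : Nat.card U ≤ Nat.card P := card_le_of_le inf_le_left
      refine hc.diff_mem (m := Nat.card U)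
        (fun Q' hQ' hm => ih (Nat.card P - Nat.card U) ?_ Q' hQ' ?_) ?_ b (hHU hb)
      · omega
      · omega
      · exact le_of_eq (Nat.card_coe_set_eq (U : Set G))
    have hb' : (y : G)⁻¹ * b * y ∈ H := (mem_normalizer_iff''.mp y.2 b).mp hb
    have h4 := mul_mem hstep (hKgood k hk _ hb')
    have hn' : n = (y : G) * (k : G) := (congrArg Subtype.val hyk).symm
    rw [hn']
    convert h4 using 1
    group
  have hc : Conn P {a} g := alperin P (Set.singleton_subset_iff.mpr ha)
    (by rw [Set.image_singleton]; exact Set.singleton_subset_iff.mpr hag)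
  exact hc.diff_mem (m := 0)
    (fun Q hQ _ => key (Nat.card P) Q hQ (by omega)) (Nat.zero_le _) a rfl

end Cfsg.Agent.Fusion
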