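import Cfsg.Agent.FusionSys.Alperin
import Cfsg.Agent.FusionSys.Group
import Cfsg.Agent.H48.Local

/-!
# Local to global for a conjugacy functor together with a central functor

A relation between sets and elements which is a congruence for composition holds for all of the fusion in a
Sylow subgroup `S`, once it holds in `N(W S)` and `C(V S)` and passes from the normalizers and centralizers
inside a local subgroup to the local subgroup.
-/

set_option autoImplicit false
set_option linter.unusedSectionVars false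
set_option linter.style.haveILetI false

namespace Cfsg.Agent.Fusion.CentralPair

open Subgroup Cfsg Cfsg.FusionSystem Cfsg.Agent.FusionSys

universe u

variable {G : Type u} [Group G] [Finite G] {p : ℕ} [Fact p.Prime]

local notation "limg" => Cfsg.Agent.H48.limg
local notation "cj" => Cfsg.Agent.H48.cj

theorem le_of_cj_mem {g : G} {T U : Subgroup G} (h : cj g T ≤ U) {a : G} (ha : a ∈ T) :
    g * a * g⁻¹ ∈ U := h (H48.conj_mem_cj ha)

/-- The hypotheses on the relation. -/
structure RelHyp (S : Subgroup G) (Rel : Set G → G → Prop) : Prop where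
  trans : ∀ A h k, Rel A h → Rel (limg A h) k → Rel A (k * h)
  mono : ∀ A B h, Rel A h → B ⊆ A → Rel B h
  symm : ∀ A h, Rel A h → Rel (limg A h) h⁻¹
  congr : ∀ A h k, Rel A h → (∀ a ∈ A, h * a * h⁻¹ = k * a * k⁻¹) → Rel A k

/-- `Q` is centric in the fusion of `S`. -/
def Cen (S Q : Subgroup G) : Prop :=
  Q ≤ S ∧ ∀ g : G, cj g Q ≤ S → S ⊓ centralizer ((cj g Q : Subgroup G) : Set G) ≤ cj g Q

theorem cen_of_isCentric {S Q : Subgroup G} (h : (groupFusionSystem S).IsCentric Q) : Cen S Q :=
  ⟨h.1, fun g hg => h.2 _ (isConj_group_iff.2 ⟨h.1, hg, g, rfl⟩)⟩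

theorem Cen.center_le {S Q : Subgroup G} (h : Cen S Q) :
    S ⊓ centralizer (S : Set G) ≤ Q ⊓ centralizer (Q : Set G) := by
  have h1 := h.2 1 (by rw [H48.cj_one]; exact h.1)
  rw [H48.cj_one] at h1
  exact le_inf ((inf_le_inf le_rfl (centralizer_le h.1)).trans h1)
    (inf_le_right.trans (centralizer_le h.1))

theorem Cen.mono {S Q R : Subgroup G} (h : Cen S Q) (hQR : Q ≤ R) (hR : R ≤ S) : Cen S R :=
  ⟨hR, fun g hg => ((inf_le_inf le_rfl (centralizer_le (H48.cj_mono hQR))).trans
    (h.2 g ((H48.cj_mono hQR).trans hg))).trans (H48.cj_mono hQR)⟩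

/-- The subgroups at which the induction runs: between `Z(Q)` and `Q ≤ N_S(X)` for some centric `Q`. -/
def Fam (S X : Subgroup G) : Prop :=
  ∃ Q, Cen S Q ∧ Q ⊓ centralizer (Q : Set G) ≤ X ∧ X ≤ Q ∧ Q ≤ normalizer (X : Set G)

theorem Fam.le {S X : Subgroup G} (h : Fam S X) : X ≤ S := by
  obtain ⟨Q, hQ, -, hX, -⟩ := h
  exact hX.trans hQ.1

theorem Fam.center_le {S X : Subgroup G} (h : Fam S X) : S ⊓ centralizer (S : Set G) ≤ X := by
  obtain ⟨Q, hQ, hZ, -, -⟩ := h
  exact hQ.center_le.trans hZ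

theorem fam_of_cen {S Q : Subgroup G} (h : Cen S Q) : Fam S Q :=
  ⟨Q, h, inf_le_left, le_rfl, le_normalizer⟩

theorem Fam.map {S X : Subgroup G} (h : Fam S X) {g : G}
    (hg : cj g (S ⊓ normalizer (X : Set G)) ≤ S) : Fam S (cj g X) := by
  obtain ⟨Q, hQ, hZ, hX, hn⟩ := h
  refine ⟨cj g Q, ⟨(H48.cj_mono (le_inf hQ.1 hn)).trans hg, fun k hk => ?_⟩, ?_, H48.cj_mono hX, ?_⟩
  · rw [H48.cj_cj] at hk ⊢
    exact hQ.2 _ hk
  · intro x hx
    obtain ⟨y, hy, rfl⟩ := mem_map.1 hx.1
    refine H48.conj_mem_cj (hZ ⟨hy, mem_centralizer_iff.2 fun z hz => ?_⟩)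
    have h2 := mem_centralizer_iff.1 hx.2 _ (H48.conj_mem_cj (g := g) hz)
    simp only [MulEquiv.coe_toMonoidHom, MulAut.conj_apply] at h2
    have h3 : g * (z * y) * g⁻¹ = g * (y * z) * g⁻¹ := by
      calc g * (z * y) * g⁻¹ = g * z * g⁻¹ * (g * y * g⁻¹) := by group
        _ = g * y * g⁻¹ * (g * z * g⁻¹) := h2
        _ = g * (y * z) * g⁻¹ := by group
    exact mul_left_cancel (mul_right_cancel h3)
  · rw [← H48.cj_normalizer]
    exact H48.cj_mono hn

variable (P : Sylow p G) (W V : Subgroup G → Subgroup G)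

/-- The local step. -/
def LocalStep (Rel : Set G → G → Prop) : Prop :=
  ∀ X : Subgroup G, (P : Subgroup G) ⊓ centralizer ((P : Subgroup G) : Set G) ≤ X →
    X ≤ (P : Subgroup G) →
    H48.IsSylowIn p ((P : Subgroup G) ⊓ normalizer (X : Set G)) (normalizer (X : Set G)) →
    (∀ (A : Set G) (y : G),
      (y ∈ normalizer (X : Set G) ⊓
          normalizer ((W ((P : Subgroup G) ⊓ normalizer (X : Set G)) : Subgroup G) : Set G) ∨
        y ∈ normalizer (X : Set G) ⊓
          centralizer ((V ((P : Subgroup G) ⊓ normalizer (X : Set G)) : Subgroup G) : Set G)) →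
      A ⊆ ((P : Subgroup G) ⊓ normalizer (X : Set G) : Subgroup G) →
      limg A y ⊆ ((P : Subgroup G) ⊓ normalizer (X : Set G) : Subgroup G) → Rel A y) →
    ∀ (A : Set G) (y : G), y ∈ normalizer (X : Set G) →
      A ⊆ ((P : Subgroup G) ⊓ normalizer (X : Set G) : Subgroup G) →
      limg A y ⊆ ((P : Subgroup G) ⊓ normalizer (X : Set G) : Subgroup G) → Rel A y

variable {P W V}

theorem rel_all (hdiv : p ∣ Nat.card G) (hW : Cfsg.IsConjugacyFunctor p W)
    (hWZ : ∀ H : Subgroup G, IsPGroup p ↥H →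
      H ⊓ centralizer ((H : Subgroup G) : Set G) ≤ W H)
    (hVZ : ∀ H : Subgroup G, IsPGroup p ↥H → V H ≤ H ⊓ centralizer ((H : Subgroup G) : Set G))
    (hVmono : ∀ H K : Subgroup G, IsPGroup p ↥H → IsPGroup p ↥K → H ≠ ⊥ → K ≠ ⊥ →
      H ⊓ centralizer ((H : Subgroup G) : Set G) ≤ K ⊓ centralizer ((K : Subgroup G) : Set G) →
        V H ≤ V K)
    {Rel : Set G → G → Prop} (hR : RelHyp (P : Subgroup G) Rel)
    (hJW : ∀ (A : Set G) (y : G), y ∈ normalizer ((W (P : Subgroup G) : Subgroup G) : Set G) →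
      A ⊆ (P : Subgroup G) → limg A y ⊆ (P : Subgroup G) → Rel A y)
    (hJC : ∀ (A : Set G) (y : G), y ∈ centralizer ((V (P : Subgroup G) : Subgroup G) : Set G) →
      A ⊆ (P : Subgroup G) → limg A y ⊆ (P : Subgroup G) → Rel A y)
    (hloc : LocalStep P W V Rel) (A : Set G) (g : G) (hA : A ⊆ (P : Subgroup G))
    (hg : limg A g ⊆ (P : Subgroup G)) : Rel A g := by
  set S : Subgroup G := (P : Subgroup G) with hSdef
  have hS : IsPGroup p S := P.isPGroup'
  have hSne : S ≠ ⊥ := P.ne_bot_of_dvd_card hdiv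
  haveI : Finite S := inferInstance
  set F := groupFusionSystem S with hF'
  have hF : F.IsSaturated p := isSaturated_group P
  -- fusion with large sources, from the local property for large normalizers
  have big : ∀ k : ℕ, (∀ X, Fam S X → k < Nat.card ↥(S ⊓ normalizer (X : Set G)) →
      ∀ (A : Set G) (y : G), y ∈ normalizer (X : Set G) →
        A ⊆ (S ⊓ normalizer (X : Set G) : Subgroup G) →
        limg A y ⊆ (S ⊓ normalizer (X : Set G) : Subgroup G) → Rel A y) →
      ∀ T : Subgroup G, k ≤ Nat.card T → ∀ g : G, T ≤ S → cj g T ≤ S → Rel (T : Set G) g := by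
    intro k hgood
    let Φ : Subgroup G → (G → G) → Prop := fun T f =>
      k ≤ Nat.card T → ∃ g : G, Rel (T : Set G) g ∧ ∀ x ∈ T, f x = g * x * g⁻¹
    let E := subSys F Φ
      (fun T f f' h he hk => by
        obtain ⟨g, h1, h2⟩ := h hk
        exact ⟨g, h1, fun x hx => (he x hx).trans (h2 x hx)⟩)
      (fun T a hT ha _ => by
        refine ⟨a, hJC _ _ ?_ hT ?_, fun x _ => rfl⟩
        · exact mem_centralizer_iff.2 fun v hv =>
            (mem_centralizer_iff.1 ((hVZ S hS) hv).2 a ha).symm
        · rintro _ ⟨x, hx, rfl⟩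
          exact mul_mem (mul_mem ha (hT hx)) (inv_mem ha))
      (fun T T' f f' hf hf' hm h1 h2 hk => by
        obtain ⟨g, hg1, hg2⟩ := h1 hk
        haveI := finite_of_le hf.le
        haveI := finite_of_le hf'.le
        have hk' : k ≤ Nat.card T' :=
          hk.trans (card_le_of_mapsTo hf le_rfl hm)
        obtain ⟨g', hg1', hg2'⟩ := h2 hk'
        refine ⟨g' * g, hR.trans _ _ _ hg1 (hR.mono _ _ _ hg1' ?_), fun x hx => ?_⟩
        · rintro _ ⟨x, hx, rfl⟩
          show g * x * g⁻¹ ∈ T'
          rw [← hg2 x hx]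
          exact hm x hx
        · rw [Function.comp_apply, hg2' _ (hm x hx), hg2 x hx]
          group)
      (fun T T' f f' hf hf' hinv h hk => by
        obtain ⟨g, hg1, hg2⟩ := h (by rwa [hf.card_eq])
        refine ⟨g⁻¹, hR.mono _ _ _ (hR.symm _ _ hg1) ?_, fun y hy => ?_⟩
        · intro y hy
          obtain ⟨x, hx, rfl⟩ := hf.exists_preimage hy
          exact ⟨x, hx, (hg2 x hx).symm⟩
        · obtain ⟨x, hx, rfl⟩ := hf.exists_preimage hy
          rw [hinv x hx, hg2 x hx]
          group)
    have hle : F ≤ E := le_of_autGroup_fullyNormalized hS hF fun R hRn hbig α hα => by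
      obtain ⟨φ, hφ, hφe⟩ := autGroup_set_subgroup hRn.1 hα
      refine mem_autGroup_of_isMap ⟨φ, ⟨hφ, fun hk => ?_⟩, hφe⟩
      have hα' := hα
      rw [autGroup_group hRn.1] at hα'
      obtain ⟨n, -, hn, rfl⟩ := mem_autInducedBy.1 hα'
      have hφn : ∀ x ∈ R, homFun φ x = n * x * n⁻¹ := fun x hx => by
        rw [homFun_mem φ hx, hφe ⟨x, hx⟩, autMap_conjAut hn hx, conjMap_apply]
      have himg : limg (R : Set G) n ⊆ (R : Set G) := by
        rintro _ ⟨x, hx, rfl⟩
        exact (mem_normalizer_iff.1 hn x).1 hx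
      refine ⟨n, ?_, hφn⟩
      rcases hRn.1.eq_or_lt with rfl | hlt
      · exact hJW _ _ (H48.normalizer_le_normalizer_functor hW hS hn) le_rfl himg
      by_cases hC : centralizerIn S R ≤ R
      · have hcen := cen_of_isCentric
          (isCentric_of_receptive (receptive_of_isFullyNormalized hS hF hRn) hC)
        have hRN : R ≤ S ⊓ normalizer (R : Set G) := le_inf hRn.1 le_normalizer
        refine hgood R (fam_of_cen hcen) ?_ _ _ hn hRN (himg.trans hRN)
        exact hk.trans_lt (card_lt_card_normalizerIn hS hlt)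
      · have hiso := isIso_autMap hRn.1 hα
        obtain ⟨f, hf, hfe⟩ := receptive_extend (receptive_of_isFullyNormalized hS hF hRn) hiso
          (N := centralizerIn S R) fun y hy => hiso.isMap.inExt_of_centralizes hy
        haveI := finite_of_le hf.le
        have hcard : Nat.card R < Nat.card ↥(centralizerIn S R ⊔ R) := by
          by_contra h
          exact hC (le_sup_left.trans (eq_of_le_of_card_ge le_sup_right (not_lt.1 h)).ge)
        obtain ⟨ψ, ⟨-, hψ⟩, hψe⟩ := hbig _ f hcard hf
        obtain ⟨g, hg1, hg2⟩ := hψ (hk.trans hcard.le)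
        refine hR.congr _ _ _ (hR.mono _ _ _ hg1 (fun x hx => mem_sup_right hx)) fun x hx => ?_
        have h1 := hfe x hx
        rw [autMap_conjAut hn hx, conjMap_apply] at h1
        rw [← h1, ← hψe ⟨x, mem_sup_right hx⟩]
        rw [← hg2 x (mem_sup_right hx), homFun_mem ψ (mem_sup_right hx)]
    intro T hk g hT hgT
    have hm : IsMap F T (conjMap g) := isMap_group_iff.2
      ⟨hT, g, fun x hx => ⟨le_of_cj_mem hgT hx, rfl⟩⟩
    obtain ⟨φ, ⟨-, hφ⟩, hφe⟩ := le_iff_isMap.1 hle T _ hm
    obtain ⟨g', hg1, hg2⟩ := hφ hk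
    refine hR.congr _ _ _ hg1 fun x hx => ?_
    rw [← hg2 x hx, homFun_mem φ hx, hφe ⟨x, hx⟩, conjMap_apply]
  -- the local property
  have good : ∀ (d : ℕ) (X : Subgroup G), Nat.card S - Nat.card ↥(S ⊓ normalizer (X : Set G)) = d →
      Fam S X → ∀ (A : Set G) (y : G), y ∈ normalizer (X : Set G) →
        A ⊆ (S ⊓ normalizer (X : Set G) : Subgroup G) →
        limg A y ⊆ (S ⊓ normalizer (X : Set G) : Subgroup G) → Rel A y := by
    intro d
    induction d using Nat.strong_induction_on with
    | _ d ih =>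
    intro X hd hX
    set R := S ⊓ normalizer (X : Set G) with hRdef
    have ihX : ∀ X', Fam S X' → Nat.card R < Nat.card ↥(S ⊓ normalizer (X' : Set G)) →
        ∀ (A : Set G) (y : G), y ∈ normalizer (X' : Set G) →
          A ⊆ (S ⊓ normalizer (X' : Set G) : Subgroup G) →
          limg A y ⊆ (S ⊓ normalizer (X' : Set G) : Subgroup G) → Rel A y := fun X' hX' hlt => by
      have := card_le_of_le (inf_le_left : S ⊓ normalizer (X' : Set G) ≤ S)
      exact ih _ (by omega) X' rfl hX'
    have full : ∀ Y, Fam S Y → Nat.card R ≤ Nat.card ↥(S ⊓ normalizer (Y : Set G)) →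
        H48.IsSylowIn p (S ⊓ normalizer (Y : Set G)) (normalizer (Y : Set G)) →
        ∀ (A : Set G) (y : G), y ∈ normalizer (Y : Set G) →
          A ⊆ (S ⊓ normalizer (Y : Set G) : Subgroup G) →
          limg A y ⊆ (S ⊓ normalizer (Y : Set G) : Subgroup G) → Rel A y := by
      intro Y hY hcard hsyl
      refine hloc Y hY.center_le hY.le hsyl fun B y hy hB hB' => ?_
      obtain ⟨Q, hQ, hQZ, hYQ, hQn⟩ := hY
      set RY := S ⊓ normalizer (Y : Set G) with hRY
      have hQR : Q ≤ RY := le_inf hQ.1 hQn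
      have hRcen : Cen S RY := hQ.mono hQR inf_le_left
      have hRp : IsPGroup p RY := hS.to_le inf_le_left
      rcases hy with hy | hy
      · by_cases hRS : RY = S
        · rw [hRS] at hy
          exact hJW _ _ hy.2 (hB.trans inf_le_left) (hB'.trans inf_le_left)
        · have hsub : RY ≤ S ⊓ normalizer ((W RY : Subgroup G) : Set G) :=
            le_inf inf_le_left (H48.le_normalizer_functor hW hRp)
          refine ihX (W RY) ⟨RY, hRcen, hWZ RY hRp, H48.functor_le hW hRp,
            H48.le_normalizer_functor hW hRp⟩ ?_ B y hy.2 (hB.trans hsub) (hB'.trans hsub)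
          refine hcard.trans_lt ((H48.card_lt_card_inf_normalizer hS inf_le_left hRS).trans_le
            (card_le_of_le (inf_le_inf le_rfl (H48.normalizer_le_normalizer_functor hW hRp))))
      · have hne : RY ≠ ⊥ := fun hb => hSne <| by
          have h1 : S ⊓ centralizer (S : Set G) ≤ RY := hRcen.center_le.trans inf_le_left
          haveI : Nontrivial S := (nontrivial_iff_ne_bot S).2 hSne
          haveI := hS.center_nontrivial
          obtain ⟨z, hz⟩ := exists_ne (1 : center S)
          have hzmem : ((z : S) : G) ∈ RY := h1 ⟨(z : S).2, mem_centralizer_iff.2 fun s hs =>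
            congrArg Subtype.val (mem_center_iff.1 z.2 ⟨s, hs⟩)⟩
          rw [hb, mem_bot] at hzmem
          exact absurd (Subtype.ext (Subtype.ext hzmem)) hz
        exact hJC _ _ (centralizer_le (hVmono S RY hS hRp hSne hne hRcen.center_le) hy.2)
          (hB.trans inf_le_left) (hB'.trans inf_le_left)
    intro A y hy hA hA'
    by_cases hsyl : H48.IsSylowIn p R (normalizer (X : Set G))
    · exact full X hX le_rfl hsyl A y hy hA hA'
    have hid : Cfsg.IsConjugacyFunctor p (id : Subgroup G → Subgroup G) :=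
      fun Q _ => ⟨le_rfl, fun h => h, fun g => rfl⟩
    obtain ⟨k, hk⟩ := H48.exists_isWellPlaced P hid hX.le
    have hU := H48.IsWellPlaced.isSylowIn hS hk
    have hRU : cj k R ≤ normalizer ((cj k X : Subgroup G) : Set G) := by
      rw [← H48.cj_normalizer]; exact H48.cj_mono inf_le_right
    obtain ⟨m, hm, hm'⟩ := hU.exists_cj_le (H48.isPGroup_cj (hS.to_le inf_le_left)) hRU
    set h := m * k with hh
    have eX : cj h X = cj k X := by rw [hh, ← H48.cj_cj, H48.cj_eq_of_mem_normalizer hm]
    have hl : cj h R ≤ S ⊓ normalizer ((cj h X : Subgroup G) : Set G) := by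
      rw [eX, hh, ← H48.cj_cj]; exact hm'
    have r1 : Rel (R : Set G) h := big (Nat.card R) ihX R le_rfl h inf_le_left (hl.trans inf_le_left)
    have r2 : Rel ((cj h R : Subgroup G) : Set G) h⁻¹ := by
      rw [← H48.limg_coe]; exact hR.symm _ _ r1
    have hfam := hX.map (hl.trans inf_le_left)
    have hcard : Nat.card R ≤ Nat.card ↥(S ⊓ normalizer ((cj h X : Subgroup G) : Set G)) := by
      rw [← H48.card_cj h]; exact card_le_of_le hl
    have hy' : h * y * h⁻¹ ∈ normalizer ((cj h X : Subgroup G) : Set G) := by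
      rw [← H48.cj_normalizer]; exact H48.conj_mem_cj hy
    have i1 : limg A h ⊆ ((cj h R : Subgroup G) : Set G) := by
      rw [← H48.limg_coe]; exact Set.image_mono hA
    have i2 : limg (limg A y) h ⊆ ((cj h R : Subgroup G) : Set G) := by
      rw [← H48.limg_coe]; exact Set.image_mono hA'
    have e1 : limg (limg A h) (h * y * h⁻¹) = limg (limg A y) h := by
      rw [H48.limg_limg, H48.limg_limg, inv_mul_cancel_right]
    have hsylX : H48.IsSylowIn p (S ⊓ normalizer ((cj h X : Subgroup G) : Set G))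
        (normalizer ((cj h X : Subgroup G) : Set G)) := by rw [eX]; exact hU
    have a3 := full _ hfam hcard hsylX (limg A h) _ hy' (i1.trans hl)
      (by rw [e1]; exact i2.trans hl)
    have a4 : Rel A (h⁻¹ * (h * y * h⁻¹) * h) := by
      have h1 := hR.trans _ _ _ a3 (by rw [e1]; exact hR.mono _ _ _ r2 i2)
      exact hR.trans _ _ _ (hR.mono _ _ _ r1 hA) h1
    simpa [mul_assoc] using a4
  have h := big 0 (fun X hX _ => good _ X rfl hX) (closure A) (Nat.zero_le _) g
    ((closure_le _).2 hA) (by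
      rw [show cj g (closure A) = _ from MonoidHom.map_closure _ A, closure_le]
      exact hg)
  exact hR.mono _ _ _ h subset_closure

end Cfsg.Agent.Fusion.CentralPair
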