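import Cfsg.Agent.FusionSys.Centric
import Cfsg.Agent.FusionSys.Normal
import Cfsg.Agent.FusionSys.KSub
import Cfsg.Agent.Cores.PCore

/-!
# Extending the automorphisms of a subgroup to a centric radical subgroup

Every subgroup is conjugate to some `Q` lying in a fully normalized centric radical subgroup `R` such that
all of `Aut_F(Q)` is induced by `Aut_F(R)`.
-/

set_option autoImplicit false
set_option linter.unusedSectionVars false
set_option linter.style.haveILetI false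

namespace Cfsg.Agent.Fusion.RadicalExt

open Cfsg Cfsg.FusionSystem Cfsg.Agent.FusionSys

universe u

variable {Ω : Type u} [Group Ω] {S : Subgroup Ω} [Finite S] {p : ℕ} [Fact p.Prime]
  {F : FusionSystem S}

/-- Every automorphism of `Q` in the system extends to one of `P`. -/
def Ext (F : FusionSystem S) (Q P : Subgroup Ω) : Prop :=
  Q ≤ P ∧ ∀ α ∈ F.autGroup Q, ∃ g, IsIso F P P g ∧ ∀ x ∈ Q, g x = autMap α x

/-- `Ext` is carried along isomorphisms. -/
theorem Ext.transport {Q P P' : Subgroup Ω} (h : Ext F Q P) {f : Ω → Ω} (hf : IsIso F P P' f) :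
    ∃ Q', F.IsConj Q Q' ∧ Ext F Q' P' := by
  have hfQ := (hf.isMap.mono h.1).isIso
  refine ⟨imgSub f Q, hfQ.isConj, fun y hy => ?_, fun β hβ => ?_⟩
  · obtain ⟨x, hx, rfl⟩ := hfQ.exists_preimage hy
    exact hf.mem (h.1 hx)
  obtain ⟨f', hf', hf'1, -⟩ := hf.exists_symm
  obtain ⟨f'', hf'', hf''1, -⟩ := hfQ.exists_symm
  obtain ⟨g, hg, hge⟩ := h.2 _ (hf''.autEquiv_mem_autGroup hβ)
  refine ⟨f ∘ (g ∘ f'), (hf'.comp hg).comp hf, fun y hy => ?_⟩
  obtain ⟨x, hx, rfl⟩ := hfQ.exists_preimage hy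
  have h1 := hf''.autMap_autEquiv β (hfQ.mem hx)
  rw [hf''1 x hx] at h1
  show f (g (f' (f x))) = _
  rw [hf'1 x (h.1 hx), hge x hx, h1]
  obtain ⟨z, hz, hze⟩ := hfQ.exists_preimage (autMap_mem β (hfQ.mem hx))
  rw [← hze, hf''1 z hz]

/-- Every subgroup is conjugate to one whose automorphisms extend to a fully normalized centric
subgroup. -/
theorem exists_centric (hS : IsPGroup p S) (hF : F.IsSaturated p) {Q₀ : Subgroup Ω} (hQ₀ : Q₀ ≤ S) :
    ∃ Q P, F.IsConj Q₀ Q ∧ F.IsFullyNormalized P ∧ F.IsCentric P ∧ Ext F Q P := by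
  obtain ⟨Q, hQ₀Q, hQ⟩ := exists_isFullyNormalized F hQ₀
  set P := centralizerIn S Q ⊔ Q with hP
  have hPS : P ≤ S := sup_le centralizerIn_le hQ.1
  have hQc := isFullyCentralized_of_isFullyNormalized hS hF hQ
  haveI := finite_of_le hPS
  have hext : Ext F Q P := by
    refine ⟨le_sup_right, fun α hα => ?_⟩
    have hi := isIso_autMap hQ.1 hα
    obtain ⟨g, hg, hge⟩ := receptive_extend (receptive_of_isFullyNormalized hS hF hQ) hi
      (N := centralizerIn S Q) fun x hx => hi.isMap.inExt_of_centralizes hx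
    refine ⟨g, isIso_of_mapsTo hg fun x hx => hg.mapsTo_sup (fun a ha => ?_) (fun b hb => ?_) hx, hge⟩
    · exact le_sup_left (b := Q) (hi.mem_centralizerIn_of_extends hg le_sup_right hge
        (le_sup_left (b := Q) ha) ha)
    · exact le_sup_right (a := centralizerIn S Q) (hge b hb ▸ hi.mem hb)
  have hcen : F.IsCentric P := by
    refine ⟨hPS, fun P' hP' c hc => ?_⟩
    obtain ⟨f, hf⟩ := isConj_iff.1 hP'
    have hfQ := (hf.isMap.mono (le_sup_right : Q ≤ P)).isIso
    haveI := finite_of_le (S := S) (P := centralizerIn S (imgSub f Q)) centralizerIn_le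
    obtain ⟨x, hx, rfl⟩ := exists_preimage_of_card (Q := centralizerIn S (imgSub f Q)) hf.isMap
      (le_sup_left : centralizerIn S Q ≤ P)
      (fun x hx => hfQ.mem_centralizerIn_of_extends hf.isMap le_sup_right (fun _ _ => rfl)
        (le_sup_left (b := Q) hx) hx)
      (hQc.2 _ hfQ.isConj)
      (y := c) (mem_centralizerIn.2 ⟨(mem_centralizerIn.1 hc).1, fun y hy => by
        obtain ⟨z, hz, rfl⟩ := hfQ.exists_preimage hy
        exact (mem_centralizerIn.1 hc).2 _ (hf.mem (le_sup_right (a := centralizerIn S Q) hz))⟩)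
    exact hf.mem (le_sup_left (b := Q) hx)
  obtain ⟨P', hPP', hP'⟩ := exists_isFullyNormalized F hPS
  obtain ⟨f, hf⟩ := isConj_iff.1 hPP'
  obtain ⟨Q', hQQ', hQ'⟩ := hext.transport hf
  exact ⟨Q', P', isConj_trans hQ₀Q hQQ', hP', isCentric_of_isConj hcen hPP', hQ'⟩

/-- A fully normalized centric subgroup that is not radical has its automorphisms extended to a strictly
larger subgroup. -/
theorem exists_larger (hS : IsPGroup p S) (hF : F.IsSaturated p) {P : Subgroup Ω}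
    (hP : F.IsFullyNormalized P) (hc : F.IsCentric P) (hr : ¬ F.IsRadical p P) :
    ∃ P', P' ≤ S ∧ P < P' ∧ Ext F P P' := by
  haveI := finite_autGroup F hP.1
  set A := F.autGroup P with hA
  set K := (pCore p A).map A.subtype with hK
  have hKA : K ≤ A := Subgroup.map_subtype_le _
  have hinnK : Inn P ≤ K := fun α hα => by
    have h1 : (⟨α, inn_le_autGroup F hP.1 hα⟩ : A) ∈ pCore p A :=
      Cores.le_pCore (hN := inn_subgroupOf_normal P A)
        ((isPGroup_inn hS hP.1).of_equiv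
          (Subgroup.subgroupOfEquivOfLe (inn_le_autGroup F hP.1)).symm) hα
    exact ⟨_, h1, rfl⟩
  have hKn : ∀ a ∈ A, ∀ k ∈ K, a * k * a⁻¹ ∈ K := by
    rintro a ha _ ⟨k, hk, rfl⟩
    exact ⟨⟨a, ha⟩ * k * ⟨a, ha⟩⁻¹, (pCore_normal p A).conj_mem k hk _, rfl⟩
  have hKS : K ≤ autInducedBy S P := by
    rintro _ ⟨k, hk, rfl⟩
    obtain ⟨-, T, hT⟩ := isFullyAutomized_of_isFullyNormalized hS hF hP
    obtain ⟨T', hT'⟩ := (Cores.pCore_isPGroup (p := p) (G := A)).exists_le_sylow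
    obtain ⟨a, ha⟩ := MulAction.exists_smul_eq A T' T
    have h1 : k ∈ (T : Subgroup A) := by
      rw [← ha, Sylow.coe_subgroup_smul]
      refine ⟨a⁻¹ * k * a⁻¹⁻¹, hT' ((pCore_normal p A).conj_mem k hk _), ?_⟩
      simp [mul_assoc]
    rw [hT] at h1
    exact h1
  set N' := (K.comap (conjAutHom P)).map (Subgroup.normalizer (P : Set Ω)).subtype with hN'
  set P' := N' ⊓ S with hP'
  have hmem : ∀ x, x ∈ P' ↔ x ∈ S ∧ ∃ hx : x ∈ Subgroup.normalizer (P : Set Ω), conjAut hx ∈ K := by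
    intro x
    constructor
    · rintro ⟨⟨y, hy, rfl⟩, hxS⟩
      exact ⟨hxS, y.2, hy⟩
    · rintro ⟨hxS, hx, hxK⟩
      exact ⟨⟨⟨x, hx⟩, hxK, rfl⟩, hxS⟩
  have hPP' : P ≤ P' := fun x hx => (hmem x).2 ⟨hP.1 hx, Subgroup.le_normalizer hx,
    hinnK ((inn_eq_autInducedBy_self P).ge (mem_autInducedBy.2 ⟨x, hx, _, rfl⟩))⟩
  have hlt : P < P' := by
    refine lt_of_le_of_ne hPP' fun he => hr ⟨hP.1, le_antisymm (fun k hk => ?_) hinnK⟩
    obtain ⟨x, hxS, hxn, rfl⟩ := mem_autInducedBy.1 (hKS hk)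
    have hxP : x ∈ P := he.ge ((hmem x).2 ⟨hxS, hxn, hk⟩)
    exact (inn_eq_autInducedBy_self P).ge (mem_autInducedBy.2 ⟨x, hxP, hxn, rfl⟩)
  refine ⟨P', inf_le_right, hlt, hPP', fun β hβ => ?_⟩
  have hi := isIso_autMap hP.1 hβ
  obtain ⟨g, hg, hge⟩ := receptive_extend (receptive_of_isFullyNormalized hS hF hP) hi
    (N := P') fun x hx => by
      obtain ⟨hxS, hxn, hxK⟩ := (hmem x).1 hx
      exact inExt_autMap hxS hxn (hKS (hKn β hβ _ hxK))
  haveI : Finite P' := finite_of_le inf_le_right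
  have hg' : IsMap F P' g := hg.mono le_sup_left
  refine ⟨g, isIso_of_mapsTo hg' fun x hx => ?_, hge⟩
  obtain ⟨hxS, hxn, hxK⟩ := (hmem x).1 hx
  have hgx := hi.mem_normalizerIn_of_extends hg' hPP' hge hx hxn
  refine (hmem _).2 ⟨hgx.1, hgx.2, ?_⟩
  have he : conjAut hgx.2 = β * conjAut hxn * β⁻¹ := by
    rw [eq_mul_inv_iff_mul_eq]
    refine aut_ext fun y hy => ?_
    rw [autMap_mul _ _ hy, autMap_mul _ _ hy, autMap_conjAut hxn hy,
      autMap_conjAut hgx.2 (autMap_mem β hy), conjMap_apply, conjMap_apply,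
      ← hge _ ((Subgroup.mem_normalizer_iff.1 hxn y).1 hy), ← hge y hy,
      hg'.map_conj hx (hPP' hy)]
  rw [he]
  exact hKn β hβ _ hxK

theorem exists_radical_of_centric (hS : IsPGroup p S) (hF : F.IsSaturated p) :
    ∀ (n : ℕ) {Q P : Subgroup Ω}, Nat.card S - Nat.card P ≤ n → F.IsFullyNormalized P →
      F.IsCentric P → Ext F Q P → ∃ Q' R, F.IsConj Q Q' ∧ F.IsFullyNormalized R ∧ F.IsCentric R ∧
        F.IsRadical p R ∧ Ext F Q' R := by
  intro n
  induction n with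
  | zero =>
    intro Q P hn hP hc hQP
    refine ⟨Q, P, isConj_refl F (hQP.1.trans hP.1), hP, hc, ?_, hQP⟩
    obtain rfl : P = S := Subgroup.eq_of_le_of_card_ge hP.1 (by omega)
    exact isRadical_S hS hF
  | succ n ih =>
    intro Q P hn hP hc hQP
    by_cases hr : F.IsRadical p P
    · exact ⟨Q, P, isConj_refl F (hQP.1.trans hP.1), hP, hc, hr, hQP⟩
    obtain ⟨P', hP'S, hlt, hPP'⟩ := exists_larger hS hF hP hc hr
    haveI := finite_of_le hP'S
    have hQP' : Ext F Q P' := by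
      refine ⟨hQP.1.trans hPP'.1, fun α hα => ?_⟩
      obtain ⟨g, hg, hge⟩ := hQP.2 α hα
      obtain ⟨β, hβ, hβe⟩ := hg.exists_aut
      obtain ⟨g', hg', hg'e⟩ := hPP'.2 β hβ
      exact ⟨g', hg', fun x hx => (hg'e x (hQP.1 hx)).trans ((hβe x (hQP.1 hx)).trans (hge x hx))⟩
    obtain ⟨P'', hP'P'', hP''⟩ := exists_isFullyNormalized F hP'S
    obtain ⟨f, hf⟩ := isConj_iff.1 hP'P''
    obtain ⟨Q'', hQQ'', hQ''⟩ := hQP'.transport hf
    have hcard : Nat.card P < Nat.card P' := by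
      by_contra h
      exact hlt.ne (Subgroup.eq_of_le_of_card_ge hlt.le (not_lt.1 h))
    obtain ⟨Q', R, h1, h2⟩ := ih (Q := Q'') (P := P'')
      (by rw [← card_eq_of_isConj hP'P'']; omega) hP''
      (isCentric_of_isConj (isCentric_of_le hc hlt.le hP'S) hP'P'') hQ''
    exact ⟨Q', R, isConj_trans hQQ'' h1, h2⟩

/-- Every subgroup is conjugate to some `Q` in a fully normalized centric radical `R` with every element
of `Aut_F(Q)` extending to `R`. -/
theorem exists_radical (hS : IsPGroup p S) (hF : F.IsSaturated p) {Q₀ : Subgroup Ω} (hQ₀ : Q₀ ≤ S) :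
    ∃ Q R, F.IsConj Q₀ Q ∧ F.IsFullyNormalized R ∧ F.IsCentric R ∧ F.IsRadical p R ∧ Ext F Q R := by
  obtain ⟨Q, P, h1, hP, hc, hQP⟩ := exists_centric hS hF hQ₀
  obtain ⟨Q', R, h2, h3⟩ := exists_radical_of_centric hS hF _ le_rfl hP hc hQP
  exact ⟨Q', R, isConj_trans h1 h2, h3⟩

/-- In the normalizer system of `R` the automorphisms of such a `Q` are all those of the system. -/
theorem autGroup_normalizer_eq {Q R : Subgroup Ω} (hR : R ≤ S) (h : Ext F Q R)
    {N : FusionSystem (normalizerIn S R)} (hN : F.IsNormalizerSystem R N) :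
    N.autGroup Q = F.autGroup Q := by
  have hk := isKSys_normalizer_iff.1 hN
  have hQT : Q ≤ normalizerIn S R := h.1.trans (le_normalizerIn_self hR)
  refine le_antisymm (hk.autGroup_le hQT) fun α hα => mem_autGroup_of_isMap ?_
  obtain ⟨g, hg, hge⟩ := h.2 α hα
  refine (hk.map_iff _ _).2 ⟨hQT, fun x hx => hQT (autMap_mem α hx), g,
    hg.isMap.mono (sup_le h.1 le_rfl), hge, (onQ_top_iff hg.isMap le_rfl).2 hg.image_eq⟩

end Cfsg.Agent.Fusion.RadicalExt
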