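import Cfsg.Agent.Fusion.SelfCentralFunctor

/-!
Iteration of an abelian characteristic functor: the result is self-centralising, and is normal in the
constrained members of a class closed under subgroups and quotients if the functor is so.
-/

set_option autoImplicit false
set_option linter.style.haveILetI false
set_option linter.unusedSectionVars false

namespace Cfsg.Agent.Fusion.CharIter

open Subgroup Stable

universe u

/-- An equivariant functor with abelian values, nontrivial on nontrivial `p`-groups. -/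
structure IsBase (p : ℕ) (W : ∀ (Q : Type u) [Group Q], Subgroup Q) : Prop where
  map : ∀ (P Q : Type u) [Group P] [Group Q] (e : P ≃* Q), (W P).map e.toMonoidHom = W Q
  ne_bot : ∀ (Q : Type u) [Group Q] [Finite Q], IsPGroup p Q → Nontrivial Q → W Q ≠ ⊥
  comm : ∀ (Q : Type u) [Group Q] {a b : Q}, a ∈ W Q → b ∈ W Q → a * b = b * a

variable {p : ℕ} {W : ∀ (Q : Type u) [Group Q], Subgroup Q}

/-- The centraliser of the value. -/
def wCent (W : ∀ (Q : Type u) [Group Q], Subgroup Q) (P : Type u) [Group P] : Subgroup P :=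
  centralizer ((W P : Subgroup P) : Set P)

/-- The value inside its centraliser. -/
def wInCent (_hW : IsBase p W) (P : Type u) [Group P] : Subgroup (wCent W P) :=
  (W P).subgroupOf (wCent W P)

instance wInCent_normal (hW : IsBase p W) (P : Type u) [Group P] : (wInCent hW P).Normal := by
  refine ⟨fun x hx g => ?_⟩
  have h : (g : P) * x = x * g := (mem_centralizer_iff.mp g.2 x hx).symm
  have h' : g * x = x * g := Subtype.ext h
  rw [h', mul_inv_cancel_right]
  exact hx

/-- The iterated functor, with `n` steps. -/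
def kw (hW : IsBase p W) : ℕ → ∀ (P : Type u) [Group P], Subgroup P
  | 0 => fun _ _ => ⊤
  | n + 1 => fun P _ =>
    ((kw hW n (↥(wCent W P) ⧸ wInCent hW P)).comap (QuotientGroup.mk' (wInCent hW P))).map
      (wCent W P).subtype

/-- The functor. -/
noncomputable def kwFun (hW : IsBase p W) (P : Type u) [Group P] : Subgroup P := kw hW (Nat.card P) P

variable (hW : IsBase p W)
include hW

theorem map_kw_succ {P Q : Type u} [Group P] [Group Q] (n : ℕ) (e : P ≃* Q)
    (ih : ∀ {P Q : Type u} [Group P] [Group Q] (e : P ≃* Q), (kw hW n P).map e.toMonoidHom = kw hW n Q) :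
    (kw hW (n + 1) P).map e.toMonoidHom = kw hW (n + 1) Q := by
  have hC : (wCent W P).map e.toMonoidHom = wCent W Q := by
    rw [wCent, wCent, map_centralizer_equiv, hW.map _ _ e]
  let eC : wCent W P ≃* wCent W Q := (MulEquiv.subgroupMap e _).trans (MulEquiv.subgroupCongr hC)
  have hsub : ((eC : wCent W P →* wCent W Q)) = eC.toMonoidHom := rfl
  have hZ : (wInCent hW P).map (eC : wCent W P →* wCent W Q) = wInCent hW Q := by
    refine le_antisymm ?_ fun y hy => ?_
    · rintro _ ⟨x, hx, rfl⟩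
      show e (x : P) ∈ W Q
      rw [← hW.map _ _ e]; exact ⟨x, hx, rfl⟩
    · refine ⟨eC.symm y, ?_, eC.apply_symm_apply y⟩
      have h1 : (y : Q) ∈ (W P).map e.toMonoidHom := by rw [hW.map _ _ e]; exact hy
      obtain ⟨x, hx, hxy⟩ := h1
      show ((eC.symm y : wCent W P) : P) ∈ W P
      have h2 : ((eC.symm y : wCent W P) : P) = x := e.injective (hxy.trans
        (congrArg Subtype.val (eC.apply_symm_apply y)).symm).symm
      rw [h2]; exact hx
  let eq := QuotientGroup.congr (wInCent hW P) (wInCent hW Q) eC hZ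
  have h := ih eq
  show (Subgroup.map _ (Subgroup.map _ _)) = Subgroup.map _ _
  rw [Subgroup.map_map]
  ext y
  constructor
  · rintro ⟨x, hx, rfl⟩
    refine ⟨eC x, ?_, rfl⟩
    show QuotientGroup.mk' (wInCent hW Q) (eC x) ∈ kw hW n _
    rw [← h]
    exact ⟨QuotientGroup.mk' (wInCent hW P) x, hx, rfl⟩
  · rintro ⟨x, hx, rfl⟩
    refine ⟨eC.symm x, ?_, ?_⟩
    · have hx' : QuotientGroup.mk' (wInCent hW Q) x ∈ kw hW n _ := hx
      rw [← h] at hx'
      obtain ⟨z, hz, hzx⟩ := hx'
      show QuotientGroup.mk' (wInCent hW P) (eC.symm x) ∈ kw hW n _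
      have h2 : z = QuotientGroup.mk' (wInCent hW P) (eC.symm x) := by
        refine eq.injective (hzx.trans ?_)
        show QuotientGroup.mk' (wInCent hW Q) x = QuotientGroup.mk' (wInCent hW Q) (eC (eC.symm x))
        rw [eC.apply_symm_apply]
      rwa [← h2]
    · exact congrArg Subtype.val (eC.apply_symm_apply x)

theorem map_kw : ∀ (n : ℕ) {P Q : Type u} [Group P] [Group Q] (e : P ≃* Q),
    (kw hW n P).map e.toMonoidHom = kw hW n Q
  | 0, _, _, _, _, e => map_top_of_surjective _ e.surjective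
  | n + 1, _, _, _, _, e => map_kw_succ hW n e (map_kw n)

theorem w_le_kw : ∀ (n : ℕ) (P : Type u) [Group P], W P ≤ kw hW n P
  | 0, _, _ => le_top
  | n + 1, P, _ => fun x hx => by
    have hxC : x ∈ wCent W P := mem_centralizer_iff.mpr fun y hy => hW.comm _ hy hx
    refine ⟨⟨x, hxC⟩, ?_, rfl⟩
    show QuotientGroup.mk' (wInCent hW P) ⟨x, hxC⟩ ∈ kw hW n _
    rw [show QuotientGroup.mk' (wInCent hW P) ⟨x, hxC⟩ = 1 from (QuotientGroup.eq_one_iff _).mpr hx]
    exact one_mem _

variable [hp : Fact p.Prime]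

theorem card_quotient_lt {P : Type u} [Group P] [Finite P] (hP : IsPGroup p P) [Nontrivial P] :
    Nat.card (↥(wCent W P) ⧸ wInCent hW P) < Nat.card P := by
  have hne : wInCent hW P ≠ ⊥ := by
    intro h
    refine hW.ne_bot P hP inferInstance ((eq_bot_iff_forall _).mpr fun x hx => ?_)
    have hxC : x ∈ wCent W P := mem_centralizer_iff.mpr fun y hy => hW.comm _ hy hx
    have : (⟨x, hxC⟩ : wCent W P) ∈ wInCent hW P := hx
    rw [h, mem_bot] at this
    exact congrArg Subtype.val this
  refine lt_of_lt_of_le ?_ (card_le_card_group (wCent W P))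
  conv_rhs => rw [(wInCent hW P).card_eq_card_quotient_mul_card_subgroup]
  exact lt_mul_of_one_lt_right Nat.card_pos ((one_lt_card_iff_ne_bot _).mpr hne)

theorem centralizer_kw_le : ∀ (n : ℕ) (P : Type u) [Group P] [Finite P], IsPGroup p P →
    Nat.card P ≤ n → centralizer ((kw hW n P : Subgroup P) : Set P) ≤ kw hW n P
  | 0, P, _, _, _, hn => absurd hn (Nat.not_le.mpr Nat.card_pos)
  | n + 1, P, _, _, hP, hn => by
    rcases subsingleton_or_nontrivial P with hs | hs
    · exact fun x _ => by rw [Subsingleton.elim x 1]; exact one_mem _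
    intro x hx
    have hxC : x ∈ wCent W P := centralizer_le (w_le_kw hW (n + 1) P) hx
    refine ⟨⟨x, hxC⟩, ?_, rfl⟩
    show QuotientGroup.mk' (wInCent hW P) ⟨x, hxC⟩ ∈ kw hW n _
    have hlt := card_quotient_lt hW hP
    refine centralizer_kw_le n _ ((hP.to_subgroup _).to_quotient _) (by omega) ?_
    refine mem_centralizer_iff.mpr fun z hz => ?_
    obtain ⟨y, rfl⟩ := QuotientGroup.mk'_surjective (wInCent hW P) z
    have h2 : (y : P) ∈ kw hW (n + 1) P := ⟨y, hz, rfl⟩
    rw [← map_mul, ← map_mul]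
    exact congrArg _ (Subtype.ext (mem_centralizer_iff.mp hx y h2))

theorem centralizer_kwFun_le (P : Type u) [Group P] [Finite P] (hP : IsPGroup p P) :
    centralizer ((kwFun hW P : Subgroup P) : Set P) ≤ kwFun hW P :=
  centralizer_kw_le hW _ P hP le_rfl

theorem map_inducedFunctor_kz {X Y : Type u} [Group X] [Group Y] (n : ℕ) (φ : X ≃* Y)
    (H : Subgroup X) :
    ((kw hW n ↥H).map H.subtype).map φ.toMonoidHom =
      (kw hW n ↥(H.map φ.toMonoidHom)).map (H.map φ.toMonoidHom).subtype := by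
  have h := map_kw hW n (φ.subgroupMap H)
  refine Eq.trans ?_ (congrArg (Subgroup.map (H.map φ.toMonoidHom).subtype) h)
  exact (Subgroup.map_map _ _ _).trans
    (Subgroup.map_map (kw hW n ↥H) (H.map φ.toMonoidHom).subtype (φ.subgroupMap H).toMonoidHom).symm

/-- Normality in constrained stable groups. -/
theorem kw_normal (𝒳 : ∀ (X : Type u) [Group X], Prop)
    (hsub : ∀ (X : Type u) [Group X] [Finite X] (M : Subgroup X), 𝒳 X → 𝒳 M)
    (hquot : ∀ (X : Type u) [Group X] [Finite X] (N : Subgroup X) [N.Normal], 𝒳 X → 𝒳 (X ⧸ N))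
    (hnorm : ∀ (X : Type u) [Group X] [Finite X], 𝒳 X →
      centralizer ((pCore p X : Subgroup X) : Set X) ≤ pCore p X →
      ∀ S : Sylow p X, (inducedFunctor W (S : Subgroup X)).Normal) :
    ∀ (n : ℕ) (X : Type u) [Group X] [Finite X],
    𝒳 X → centralizer ((pCore p X : Subgroup X) : Set X) ≤ pCore p X →
    ∀ S : Sylow p X, Nat.card ↥(S : Subgroup X) ≤ n →
      ((kw hW n ↥(S : Subgroup X)).map (S : Subgroup X).subtype).Normal
  | 0, X, _, _, _, _, S, hn => absurd hn (Nat.not_le.mpr Nat.card_pos)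
  | n + 1, X, _, _, hst, hc, S, hn => by
    set P := (S : Subgroup X) with hP
    rcases subsingleton_or_nontrivial P with hs | hs
    · have hb : (kw hW (n + 1) ↥P).map P.subtype = ⊥ := by
        rw [eq_bot_iff_forall]
        rintro _ ⟨x, -, rfl⟩
        rw [Subsingleton.elim x 1, map_one]
      rw [hb]; infer_instance
    set Z : Subgroup X := (W ↥P).map P.subtype with hZ
    haveI hZn : Z.Normal := by
      exact hnorm X hst hc S
    set C := centralizer (Z : Set X) with hC
    haveI hCn : C.Normal := inferInstance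
    have hstC := hsub X C hst
    set Z' := Z.subgroupOf C with hZ'
    haveI : Z'.Normal := hZn.subgroupOf C
    have hZ'p : IsPGroup p Z' := (S.isPGroup'.to_le (map_subtype_le _)).comap_subtype
    have hdZ : ∀ x : C, x ∈ centralizer (Z' : Set C) := fun x =>
      mem_centralizer_iff.mpr fun z hz => Subtype.ext (mem_centralizer_iff.mp x.2 (z : X) hz)
    have hst' := hquot C Z' hstC
    set q := QuotientGroup.mk' Z' with hqdef
    have hqs : Function.Surjective q := QuotientGroup.mk'_surjective Z'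
    -- the quotient is constrained
    have hc' : centralizer ((pCore p (C ⧸ Z') : Subgroup (C ⧸ Z')) : Set (C ⧸ Z')) ≤
        pCore p (C ⧸ Z') := by
      refine Cores.le_pCore ?_
      rintro ⟨y, hy⟩
      obtain ⟨c, rfl⟩ := hqs y
      obtain ⟨k, hk⟩ := exists_pow_coprime (p := p) c
      set d := c ^ p ^ k with hd
      have hdy : q d ∈ centralizer ((pCore p (C ⧸ Z') : Subgroup (C ⧸ Z')) : Set (C ⧸ Z')) := by
        rw [hd, map_pow]; exact pow_mem hy _
      have hd1 : d ∈ centralizer ((pCore p C : Subgroup C) : Set C) := by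
        refine mem_centralizer_iff.mpr fun b hb =>
          commute_of_coprime_series hZ'p hk (hdZ d) ((QuotientGroup.eq_one_iff _).mp ?_)
        show q _ = 1
        rw [map_mul, map_mul, map_mul, map_inv, map_inv,
          ← mem_centralizer_iff.mp hdy (q b) (Cores.pCore_map_le hqs ⟨b, hb, rfl⟩),
          mul_inv_cancel_right, inv_mul_cancel]
      have hQC : (d : X) ∈ centralizer ((pCore p X ⊓ C : Subgroup X) : Set X) := by
        refine mem_centralizer_iff.mpr fun b hb => ?_
        exact congrArg Subtype.val (mem_centralizer_iff.mp hd1 ⟨b, hb.2⟩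
          (Cores.subgroupOf_pCore_le C hb.1))
      have hdX : (d : X) ∈ pCore p X := by
        refine hc (mem_centralizer_iff.mpr fun b hb => ?_)
        refine commute_of_coprime_series
          (Cores.pCore_isPGroup.to_le (inf_le_left : pCore p X ⊓ C ≤ pCore p X))
          (by rw [Subgroup.orderOf_coe]; exact hk) hQC ⟨?_, ?_⟩
        · exact mul_mem ((pCore p X).inv_mem hb) (Normal.conj_mem inferInstance b hb _)
        · have h1 := hCn.conj_mem _ d.2 b⁻¹
          rw [inv_inv] at h1
          have h2 : b⁻¹ * ((d : X) * b * (d : X)⁻¹) = b⁻¹ * (d : X) * b * (d : X)⁻¹ := by group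
          rw [h2]
          exact mul_mem h1 (C.inv_mem d.2)
      obtain ⟨j, hj⟩ := Cores.pCore_isPGroup (p := p) ⟨_, hdX⟩
      have hd0 : d = 1 := orderOf_eq_one_iff.mp (Nat.eq_one_of_dvd_coprimes (hk.pow_right j)
        dvd_rfl (orderOf_dvd_of_pow_eq_one (Subtype.ext
          (by simpa using congrArg Subtype.val hj))))
      exact ⟨k, Subtype.ext (by show q c ^ p ^ k = 1; rw [← map_pow, ← hd, hd0, map_one])⟩
    -- the Sylow subgroup of the quotient
    have hidx : ¬ p ∣ (P.subgroupOf C).index := by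
      have h1 := (H48.isSylowIn_inf_normal S C).ndvd
      rwa [Subgroup.inf_relIndex_right] at h1
    let SC : Sylow p C := (S.isPGroup'.comap_subtype : IsPGroup p (P.subgroupOf C)).toSylow hidx
    let S' : Sylow p (C ⧸ Z') := SC.mapSurjective hqs
    have hS' : (S' : Subgroup (C ⧸ Z')) = (P.subgroupOf C).map q := rfl
    -- identification with the recursion
    set R := wCent W ↥P with hR
    have hRC : ∀ r : R, ((r : P) : X) ∈ C := fun r => by
      refine mem_centralizer_iff.mpr ?_
      rintro _ ⟨z, hz, rfl⟩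
      exact congrArg Subtype.val (mem_centralizer_iff.mp r.2 z hz)
    have hCR : ∀ x : P, (x : X) ∈ C → x ∈ R := fun x hx => mem_centralizer_iff.mpr fun z hz =>
      Subtype.ext (mem_centralizer_iff.mp hx (z : X) ⟨z, hz, rfl⟩)
    let ι : R →* C := ((P.subtype.comp R.subtype)).codRestrict C hRC
    let j : R →* ↥(S' : Subgroup (C ⧸ Z')) := (q.comp ι).codRestrict _ fun r => by
      rw [hS']; exact ⟨ι r, (r : P).2, rfl⟩
    have hjs : Function.Surjective j := by
      rintro ⟨y, hy⟩
      rw [hS'] at hy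
      obtain ⟨c, hc'', rfl⟩ := hy
      exact ⟨⟨⟨(c : X), hc''⟩, hCR _ c.2⟩, rfl⟩
    have hker : j.ker = wInCent hW ↥P := by
      ext r
      rw [MonoidHom.mem_ker]
      constructor
      · intro h
        have h1 : ι r ∈ Z' := (QuotientGroup.eq_one_iff _).mp (congrArg Subtype.val h)
        obtain ⟨z, hz, hzr⟩ := h1
        show (r : P) ∈ W ↥P
        rwa [← (P.subtype_injective hzr : z = r)]
      · intro h
        exact Subtype.ext ((QuotientGroup.eq_one_iff _).mpr (⟨r, h, rfl⟩ : ι r ∈ Z'))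
    let e : (R ⧸ wInCent hW ↥P) ≃* ↥(S' : Subgroup (C ⧸ Z')) :=
      (QuotientGroup.quotientMulEquivOfEq hker.symm).trans
        (QuotientGroup.quotientKerEquivOfSurjective j hjs)
    have hcard : Nat.card ↥(S' : Subgroup (C ⧸ Z')) ≤ n := by
      rw [← Nat.card_congr e.toEquiv]
      have : Nat.card (↥R ⧸ wInCent hW ↥P) < Nat.card ↥P := card_quotient_lt hW S.isPGroup'
      omega
    have hK' := kw_normal 𝒳 hsub hquot hnorm n (C ⧸ Z') hst' hc' S' hcard
    set K' := (kw hW n ↥(S' : Subgroup (C ⧸ Z'))).map (S' : Subgroup (C ⧸ Z')).subtype with hK'def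
    have hkz : ∀ r : R, QuotientGroup.mk' (wInCent hW ↥P) r ∈ kw hW n (↥R ⧸ wInCent hW ↥P) ↔
        q (ι r) ∈ K' := by
      intro r
      have he : e (QuotientGroup.mk' (wInCent hW ↥P) r) = j r := rfl
      constructor
      · intro h
        refine ⟨j r, ?_, rfl⟩
        rw [← map_kw hW n e, ← he]
        exact ⟨_, h, rfl⟩
      · rintro ⟨z, hz, hzr⟩
        rw [show z = j r from Subtype.ext hzr, ← he, ← map_kw hW n e] at hz
        obtain ⟨w, hw, hwe⟩ := hz
        rwa [← e.injective hwe]
    have hKeq : (kw hW (n + 1) ↥P).map P.subtype = (K'.comap q).map C.subtype := by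
      ext x
      constructor
      · rintro ⟨_, ⟨r, hr, rfl⟩, rfl⟩
        exact ⟨ι r, (hkz r).mp hr, rfl⟩
      · rintro ⟨c, hc'', rfl⟩
        have hcP : (c : X) ∈ P := by
          have h1 : q c ∈ (P.subgroupOf C).map q := hS' ▸ map_subtype_le _ hc''
          rw [← mem_comap, comap_map_eq_self (by
            rw [QuotientGroup.ker_mk']; exact fun y hy => (map_subtype_le _ : Z ≤ P) hy)] at h1
          exact h1
        exact ⟨(⟨⟨(c : X), hcP⟩, hCR _ c.2⟩ : R), ⟨_, (hkz ⟨⟨(c : X), hcP⟩, hCR _ c.2⟩).mpr hc'', rfl⟩, rfl⟩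
    rw [hKeq]
    refine ⟨fun x hx g => ?_⟩
    obtain ⟨c, hcK, rfl⟩ := hx
    let τ : C ≃* C := MulAut.conjNormal g
    have hτZ : Z'.map (τ : C →* C) = Z' := by
      refine le_antisymm ?_ fun z hz => ⟨τ.symm z, ?_, τ.apply_symm_apply z⟩
      · rintro _ ⟨z, hz, rfl⟩
        show ((τ z : C) : X) ∈ Z
        rw [show ((τ z : C) : X) = g * z * g⁻¹ from MulAut.conjNormal_apply g z]
        exact hZn.conj_mem _ hz g
      · show ((τ.symm z : C) : X) ∈ Z
        rw [show ((τ.symm z : C) : X) = g⁻¹ * z * g from MulAut.conjNormal_symm_apply g z]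
        simpa using hZn.conj_mem _ hz g⁻¹
    let τ' : C ⧸ Z' ≃* C ⧸ Z' := QuotientGroup.congr Z' Z' τ hτZ
    obtain ⟨a, ha⟩ := MulAction.exists_smul_eq (C ⧸ Z') S'
      (S'.mapSurjective (f := τ'.toMonoidHom) τ'.surjective)
    have hSS : (S' : Subgroup (C ⧸ Z')).map τ'.toMonoidHom =
        (S' : Subgroup (C ⧸ Z')).map (MulAut.conj a).toMonoidHom :=
      (congrArg (fun T : Sylow p (C ⧸ Z') => (T : Subgroup (C ⧸ Z'))) ha).symm
    have hinv : K'.map τ'.toMonoidHom = K' := by
      rw [hK'def, map_inducedFunctor_kz, hSS, ← map_inducedFunctor_kz, ← hK'def]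
      refine le_antisymm ?_ fun y hy => ⟨a⁻¹ * y * a, ?_, ?_⟩
      · rintro _ ⟨y, hy, rfl⟩; exact hK'.conj_mem y hy a
      · simpa using hK'.conj_mem y hy a⁻¹
      · show a * (a⁻¹ * y * a) * a⁻¹ = y
        group
    refine ⟨τ c, ?_, MulAut.conjNormal_apply g c⟩
    show q (τ c) ∈ K'
    rw [← hinv]
    exact ⟨q c, hcK, rfl⟩


theorem map_kwFun (P Q : Type u) [Group P] [Group Q] (e : P ≃* Q) :
    (kwFun hW P).map e.toMonoidHom = kwFun hW Q := by
  show (kw hW (Nat.card P) P).map e.toMonoidHom = kw hW (Nat.card Q) Q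
  rw [map_kw hW, Nat.card_congr e.toEquiv]

theorem kwFun_ne_bot (Q : Type u) [Group Q] [Finite Q] (hQ : IsPGroup p Q) (hn : Nontrivial Q) :
    kwFun hW Q ≠ ⊥ := fun h => hW.ne_bot Q hQ hn (le_bot_iff.mp (h ▸ w_le_kw hW _ Q))

end Cfsg.Agent.Fusion.CharIter
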