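import Cfsg.Agent.Fusion.EngelSum
import Cfsg.Agent.Fusion.Basic

/-!
# Transfer of elements of a normal subgroup, summed over cosets of an intermediate subgroup

For `x ∈ Q ∩ G'`, where `Q ⊴ G` lies in the Sylow subgroup `S`, and a homomorphism `θ` on `S`
whose restriction to `Q` is invariant under `M ≥ S`, the product of `θ` over the conjugates of `x`
by coset representatives of `M` is trivial.
-/

set_option autoImplicit false
set_option linter.unusedSectionVars false
set_option linter.style.haveILetI false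

namespace Cfsg.Agent.Fusion

open Subgroup

universe u v

variable {G : Type u} [Group G] {A : Type v} [CommGroup A]

open Classical in
/-- A homomorphism on a subgroup extended by `1`. -/
noncomputable def extendOne {S : Subgroup G} (θ : S →* A) (z : G) : A :=
  if h : z ∈ S then θ ⟨z, h⟩ else 1

theorem extendOne_mem {S : Subgroup G} (θ : S →* A) {z : G} (h : z ∈ S) :
    extendOne θ z = θ ⟨z, h⟩ := dif_pos h

theorem extendOne_list_prod {S : Subgroup G} (θ : S →* A) (l : List G) (h : ∀ z ∈ l, z ∈ S) :
    extendOne θ l.prod = (l.map (extendOne θ)).prod := by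
  induction l with
  | nil => rw [List.prod_nil, extendOne_mem θ (one_mem S)]; exact map_one θ
  | cons a l ih =>
    have ha : a ∈ S := h a (List.mem_cons_self ..)
    have hl : l.prod ∈ S := list_prod_mem fun z hz => h z (List.mem_cons_of_mem _ hz)
    rw [List.prod_cons, List.map_cons, List.prod_cons, ← ih fun z hz => h z (List.mem_cons_of_mem _ hz),
      extendOne_mem θ (mul_mem ha hl), extendOne_mem θ ha, extendOne_mem θ hl, ← map_mul]
    rfl

variable [Finite G] {p : ℕ} [Fact p.Prime]

theorem prod_coset_conj_eq_one (S : Sylow p G) {M Q : Subgroup G} [Q.Normal] [Fintype (G ⧸ M)]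
    (hSM : (S : Subgroup G) ≤ M) (hQS : Q ≤ (S : Subgroup G)) (θ : (S : Subgroup G) →* A)
    (hA : IsPGroup p A)
    (hinv : ∀ m ∈ M, ∀ z ∈ Q, extendOne θ (m⁻¹ * z * m) = extendOne θ z)
    {x : G} (hxQ : x ∈ Q) (hx : x ∈ commutator G) :
    ∏ b : G ⧸ M, extendOne θ (b.out⁻¹ * x * b.out) = 1 := by
  have hp : p.Prime := Fact.out
  set F : G ⧸ M → A := fun b => extendOne θ (b.out⁻¹ * x * b.out) with hF
  let R : (S : Subgroup G).LeftTransversal :=
    ⟨Set.range Quotient.out, isComplement_range_left fun q => QuotientGroup.out_eq' q⟩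
  let e := quotientEquivProdOfLE hSM
  have h1 : MonoidHom.transfer θ x = 1 := Abelianization.commutator_subset_ker _ hx
  rw [MonoidHom.transfer_def θ R] at h1
  have hfix : ∀ q : G ⧸ (S : Subgroup G), x⁻¹ • q = q := by
    intro q
    induction q using QuotientGroup.induction_on with
    | H g =>
      refine QuotientGroup.eq.mpr (hQS ?_)
      have := Subgroup.Normal.conj_mem (inferInstance : Q.Normal) x hxQ g⁻¹
      simpa [mul_assoc] using this
  have h2 : ∀ q : G ⧸ (S : Subgroup G), F (e q).1 =
      extendOne θ (q.out⁻¹ * x * q.out) := fun q => by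
    have hb : (e q).1 = (q.out : G ⧸ M) := by
      conv_lhs => rw [← QuotientGroup.out_eq' q]
      rfl
    obtain ⟨m, hm⟩ := QuotientGroup.mk_out_eq_mul M q.out
    rw [hF]
    change extendOne θ ((e q).1.out⁻¹ * x * (e q).1.out) = _
    rw [hb, hm]
    have := hinv m m.2 (q.out⁻¹ * x * q.out)
      (by simpa using Subgroup.Normal.conj_mem (inferInstance : Q.Normal) x hxQ q.out⁻¹)
    rw [← this]
    congr 1
    group
  letI := (S : Subgroup G).fintypeQuotientOfFiniteIndex
  have h3 : ∏ q : G ⧸ (S : Subgroup G), extendOne θ (q.out⁻¹ * x * q.out) = 1 := by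
    refine Eq.trans ?_ h1
    rw [leftTransversals.diff]
    refine Finset.prod_congr rfl fun q _ => ?_
    have hm : q.out⁻¹ * x * q.out ∈ (S : Subgroup G) := hQS
      (by simpa using Subgroup.Normal.conj_mem (inferInstance : Q.Normal) x hxQ q.out⁻¹)
    rw [extendOne_mem θ hm]
    congr 1
    apply Subtype.ext
    change q.out⁻¹ * x * q.out = _ * _
    rw [smul_apply_eq_smul_apply_inv_smul, hfix,
      IsComplement.leftQuotientEquiv_apply (fun q => QuotientGroup.out_eq' q), smul_eq_mul, mul_assoc]
  simp only [← h2] at h3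
  letI : Fintype (M ⧸ (S : Subgroup G).subgroupOf M) := Fintype.ofFinite _
  rw [Fintype.prod_equiv e (fun q => F (e q).1) (fun bc => F bc.1) (fun _ => rfl),
    Fintype.prod_prod_type] at h3
  simp only [Finset.prod_const, Finset.card_univ, Finset.prod_pow, Fintype.card_eq_nat_card] at h3
  have hk : p.Coprime (Nat.card (M ⧸ (S : Subgroup G).subgroupOf M)) :=
    hp.coprime_iff_not_dvd.mpr fun hd => S.not_dvd_index (hd.trans (relIndex_dvd_index_of_le hSM))
  exact (hA.powEquiv hk).injective (by simpa [IsPGroup.powEquiv_apply] using h3)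

/-- Only the fixed point contributes when the acting `p`-group is generated by Engel elements. -/
theorem prod_eq_fixed {M U V : Subgroup G} [U.Normal] [Fintype (G ⧸ M)] {𝒟 : Set G}
    (hD : IsPGroup p (closure 𝒟)) (h𝒟 : ∀ d ∈ 𝒟, EngelProd p U V d) (F : G ⧸ M → G → A)
    (hact : ∀ (g : G) (b : G ⧸ M) (y : G), y ∈ U → F (g • b) y = F b (g⁻¹ * y * g))
    (hlin : ∀ (b : G ⧸ M) (l : List G), (∀ y ∈ l, y ∈ U) → F b l.prod = (l.map (F b)).prod)
    (hV : ∀ (b : G ⧸ M) (y : G), y ∈ V → F b y = 1)
    {b₀ : G ⧸ M} (hfix : ∀ b, (∀ d ∈ 𝒟, d • b = b) → b = b₀) (hb₀ : ∀ d ∈ 𝒟, d • b₀ = b₀)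
    {x : G} (hx : x ∈ U) : ∏ b, F b x = F b₀ x := by
  classical
  have hp : p.Prime := Fact.out
  set D := closure 𝒟 with hDdef
  have hne : ∀ b : G ⧸ M, b ≠ b₀ → ∏ c : MulAction.orbit D b, F c x = 1 := by
    intro b hb
    haveI := hD.isNilpotent
    have hstab : MulAction.stabilizer D b ≠ ⊤ := fun h => hb (hfix b fun d hd => by
      have : (⟨d, subset_closure hd⟩ : D) ∈ MulAction.stabilizer D b := h ▸ mem_top _
      exact this)
    obtain h | ⟨D₀, hD₀, hle⟩ := eq_top_or_exists_le_coatom (MulAction.stabilizer D b)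
    · exact absurd h hstab
    haveI : D₀.Normal :=
      Subgroup.NormalizerCondition.normal_of_coatom D₀ Group.normalizerCondition_of_isNilpotent hD₀
    -- a generator outside `D₀`
    obtain ⟨d, hd𝒟, hdD₀⟩ : ∃ d, ∃ hd : d ∈ 𝒟, (⟨d, subset_closure hd⟩ : D) ∉ D₀ := by
      by_contra hc
      simp only [not_exists, not_not] at hc
      refine hD₀.1 (eq_top_iff.mpr fun z _ => ?_)
      have h1 : D ≤ D₀.map D.subtype := (closure_le _).mpr fun d hd => ⟨_, hc d hd, rfl⟩
      obtain ⟨w, hw, hwz⟩ := h1 z.2
      obtain rfl : w = z := Subtype.ext hwz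
      exact hw
    set d' : D := ⟨d, subset_closure hd𝒟⟩ with hd'
    have hdp : d' ^ p ∈ D₀ ∧ ∀ z : D, ∃ i < p, ∃ a ∈ D₀, z = d' ^ i * a := by
      set π := QuotientGroup.mk' D₀
      haveI : Nontrivial (D ⧸ D₀) := ⟨⟨π d', 1, fun h => hdD₀ ((QuotientGroup.eq_one_iff _).mp h)⟩⟩
      have hQ : IsPGroup p (D ⧸ D₀) := hD.to_quotient D₀
      -- `⟨d', D₀⟩ = ⊤`
      have hgen : zpowers (π d') = ⊤ := by
        apply comap_injective (QuotientGroup.mk'_surjective D₀)
        rw [comap_top]
        refine hD₀.2 _ (lt_of_le_of_ne ?_ fun h => hdD₀ ?_)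
        · intro a ha
          rw [mem_comap, show π a = 1 from (QuotientGroup.eq_one_iff a).mpr ha]
          exact one_mem _
        · rw [h]; exact mem_zpowers _
      obtain ⟨n, hn⟩ := IsPGroup.iff_card.mp hQ
      have hord : orderOf (π d') = p ^ n := by rw [← Nat.card_zpowers, hgen, card_top, hn]
      have hn1 : n = 1 := by
        rcases Nat.lt_or_ge n 2 with h2 | h2
        · rcases Nat.eq_zero_or_pos n with h0 | h0
          · rw [h0, pow_zero, orderOf_eq_one_iff] at hord
            exact absurd ((QuotientGroup.eq_one_iff _).mp hord) hdD₀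
          · omega
        · exfalso
          -- the proper subgroup generated by the `p`-th power lies strictly above `D₀`
          have h3 : (zpowers ((π d') ^ p)).comap π = ⊤ := by
            refine hD₀.2 _ (lt_of_le_of_ne ?_ fun h => ?_)
            · intro a ha
              rw [mem_comap, show π a = 1 from (QuotientGroup.eq_one_iff a).mpr ha]
              exact one_mem _
            · have h4 : d' ^ p ∈ D₀ := by
                rw [h, mem_comap, map_pow]; exact mem_zpowers _
              have h5 : (π d') ^ p = 1 := by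
                rw [← map_pow]; exact (QuotientGroup.eq_one_iff _).mpr h4
              have := Nat.le_of_dvd hp.pos (hord ▸ orderOf_dvd_of_pow_eq_one h5)
              have h6 : p ^ 1 < p ^ n := Nat.pow_lt_pow_right hp.one_lt (by omega)
              rw [pow_one] at h6
              omega
          have h4 : zpowers ((π d') ^ p) = ⊤ := by
            apply comap_injective (QuotientGroup.mk'_surjective D₀)
            rw [comap_top]; exact h3
          have h5 : orderOf ((π d') ^ p) = orderOf (π d') := by
            rw [← Nat.card_zpowers, h4, ← hgen, Nat.card_zpowers]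
          rw [orderOf_pow_of_dvd hp.ne_zero (hord ▸ dvd_pow_self p (by omega))] at h5
          exact absurd h5 (Nat.div_lt_self (orderOf_pos _) hp.one_lt).ne
      rw [hn1, pow_one] at hord
      refine ⟨(QuotientGroup.eq_one_iff _).mp (by
        change π (d' ^ p) = 1
        rw [map_pow, ← hord, pow_orderOf_eq_one]), fun z => ?_⟩
      have hz : π z ∈ zpowers (π d') := hgen ▸ mem_top _
      rw [← mem_powers_iff_mem_zpowers, Submonoid.mem_powers_iff] at hz
      obtain ⟨k, hk⟩ := hz
      refine ⟨k % p, Nat.mod_lt _ hp.pos, (d' ^ (k % p))⁻¹ * z, ?_, by group⟩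
      refine (QuotientGroup.eq_one_iff _).mp ?_
      change π ((d' ^ (k % p))⁻¹ * z) = 1
      rw [map_mul, map_inv, map_pow, ← hk, ← hord, pow_mod_orderOf, inv_mul_cancel]
    obtain ⟨-, hdec⟩ := hdp
    have hndvd : ∀ i < p, d' ^ i ∈ D₀ → i = 0 := by
      intro i hi hmem
      by_contra h0
      apply hdD₀
      have hco : Nat.Coprime i (p ^ (orderOf d').factorization p) :=
        ((hp.coprime_iff_not_dvd.mpr fun hd => absurd (Nat.le_of_dvd (Nat.pos_of_ne_zero h0) hd)
          (by omega)).symm).pow_right _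
      obtain ⟨k, hk⟩ := IsPGroup.iff_orderOf.mp hD d'
      rw [hk, hp.factorization_pow, Finsupp.single_eq_same] at hco
      obtain ⟨m, hm⟩ := exists_pow_eq_self_of_coprime (hk ▸ hco)
      rw [hd'] at hm ⊢
      exact hm ▸ pow_mem hmem m
    set O₀ := MulAction.orbit D₀ b
    have hsub : ∀ (i : Fin p) (o : O₀), d' ^ i.val • (o : G ⧸ M) ∈ MulAction.orbit D b := by
      rintro i ⟨o, a, rfl⟩
      exact ⟨d' ^ i.val * (a : D), mul_smul (d' ^ i.val) (a : D) b⟩
    let f : Fin p × O₀ → MulAction.orbit D b := fun io => ⟨_, hsub io.1 io.2⟩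
    have hf : Function.Bijective f := by
      constructor
      · rintro ⟨i, ⟨o, a, rfl⟩⟩ ⟨j, ⟨o', a', rfl⟩⟩ h
        have h1 : (d' ^ i.val * (a : D)) • b = (d' ^ j.val * (a' : D)) • b := by
          rw [mul_smul, mul_smul]; exact congrArg Subtype.val h
        have h2 : (d' ^ j.val)⁻¹ * d' ^ i.val ∈ D₀ := by
          have h3 : (d' ^ j.val * (a' : D))⁻¹ * (d' ^ i.val * (a : D)) ∈ D₀ := hle (by
            rw [MulAction.mem_stabilizer_iff, mul_smul, h1, inv_smul_smul])
          have h4 := mul_mem (mul_mem a'.2 h3) (inv_mem a.2)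
          simpa [mul_assoc] using h4
        have hij : i = j := by
          rcases le_total i.val j.val with hle' | hle'
          · have h5 := inv_mem h2
            rw [mul_inv_rev, inv_inv, ← pow_sub_mul_pow d' hle', (Commute.pow_pow_self d' _ _).eq,
              inv_mul_cancel_left] at h5
            have h6 := hndvd _ (by omega) h5
            exact Fin.ext (by omega)
          · rw [← pow_sub_mul_pow d' hle', (Commute.pow_pow_self d' _ _).eq,
              inv_mul_cancel_left] at h2
            have h6 := hndvd _ (by omega) h2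
            exact Fin.ext (by omega)
        subst hij
        rw [mul_smul, mul_smul] at h1
        exact Prod.ext rfl (Subtype.ext (MulAction.injective _ h1))
      · rintro ⟨c, z, rfl⟩
        obtain ⟨i, hi, a, ha, rfl⟩ := hdec z
        exact ⟨(⟨i, hi⟩, ⟨_, ⟨⟨a, ha⟩, rfl⟩⟩), Subtype.ext (mul_smul (d' ^ i) a b).symm⟩
    rw [← Fintype.prod_bijective f hf (fun io => F (f io) x) (fun c => F c x) (fun _ => rfl),
      Fintype.prod_prod_type, Finset.prod_comm]
    refine Finset.prod_eq_one fun o _ => ?_
    have h5 : ∀ i : Fin p, F ((f (i, o)) : G ⧸ M) x = F (o : G ⧸ M) ((d ^ i.val)⁻¹ * x * d ^ i.val) :=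
      fun i => hact (d ^ i.val) o x hx
    simp only [h5]
    rw [Fin.prod_univ_eq_prod_range (fun i => F (o : G ⧸ M) ((d ^ i)⁻¹ * x * d ^ i)) p]
    have h6 := hlin (o : G ⧸ M) ((List.range p).map fun i => (d ^ i)⁻¹ * x * d ^ i) (by
      intro y hy
      obtain ⟨i, -, rfl⟩ := List.mem_map.mp hy
      simpa using Subgroup.Normal.conj_mem (inferInstance : U.Normal) x hx (d ^ i)⁻¹)
    rw [hV _ _ (h𝒟 d hd𝒟 x hx), List.map_map, ← Multiset.prod_coe, ← Multiset.map_coe,
      ← Multiset.range, ← Finset.range_val] at h6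
    exact h6.symm
  letI : Fintype (Quotient (MulAction.orbitRel D (G ⧸ M))) := Fintype.ofFinite _
  rw [Fintype.prod_equiv (MulAction.selfEquivSigmaOrbits D (G ⧸ M)) (fun b => F b x)
    (fun s => F s.2 x) (fun _ => rfl), Fintype.prod_sigma]
  rw [Fintype.prod_eq_single (Quotient.mk'' b₀)]
  · have hsingle : ∀ c : MulAction.orbit D (Quotient.mk'' b₀ :
        Quotient (MulAction.orbitRel D (G ⧸ M))).out, (c : G ⧸ M) = b₀ := by
      intro c
      have hfixD : ∀ z : D, z • b₀ = b₀ := fun z => by
        have : D ≤ MulAction.stabilizer G b₀ := (closure_le _).mpr hb₀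
        exact this z.2
      have h1 : (Quotient.mk'' b₀ : Quotient (MulAction.orbitRel D (G ⧸ M))).out ∈
          MulAction.orbit D b₀ := Quotient.mk_out (s := MulAction.orbitRel D (G ⧸ M)) b₀
      obtain ⟨z, hz⟩ := h1
      obtain ⟨c, w, rfl⟩ := c
      change z • b₀ = _ at hz
      change w • _ = b₀
      rw [← hz, hfixD z]
      exact hfixD w
    haveI : Subsingleton (MulAction.orbit D (Quotient.mk'' b₀ :
        Quotient (MulAction.orbitRel D (G ⧸ M))).out) :=
      ⟨fun a b => Subtype.ext ((hsingle a).trans (hsingle b).symm)⟩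
    rw [Fintype.prod_subsingleton _ ⟨_, MulAction.mem_orbit_self _⟩]
    exact congrArg (fun b => F b x) (hsingle ⟨_, MulAction.mem_orbit_self _⟩)
  · intro ω hω
    refine hne ω.out fun h => hω ?_
    rw [← h, Quotient.out_eq' ω]

end Cfsg.Agent.Fusion
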