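import Mathlib.Algebra.Polynomial.Eval.Defs
import Mathlib.Algebra.Polynomial.Expand
import Mathlib.Algebra.CharP.Lemmas
import Mathlib.GroupTheory.Nilpotent
import Cfsg.Agent.Fusion.PResidual
import Cfsg.Prelude.Def_LocalEven
import Cfsg.Prelude.Def_PLocal

/-!
# Engel elements on a chief factor below a normal `p`-subgroup

If `[U, d, ..., d] ≤ V` (`p - 1` entries) for a chief `p`-factor `U / V`, then the product of the
conjugates of each element of `U` by `1, d, ..., d^(p-1)` lies in `V`.
-/

set_option autoImplicit false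
set_option linter.unusedSectionVars false

namespace Cfsg.Agent.Fusion

open Subgroup
open scoped commutatorElement

universe u

/-- The product of the conjugates of `y` by the first `p` powers of `d` lies in `V`, for `y ∈ U`. -/
def EngelProd {G : Type u} [Group G] (p : ℕ) (U V : Subgroup G) (d : G) : Prop :=
  ∀ y ∈ U, ((List.range p).map fun i => (d ^ i)⁻¹ * y * d ^ i).prod ∈ V

variable {G : Type u} [Group G] {p : ℕ}

theorem EngelProd.conj {U V : Subgroup G} [U.Normal] [V.Normal] {d : G} (h : EngelProd p U V d)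
    (g : G) : EngelProd p U V (g * d * g⁻¹) := by
  intro y hy
  have h1 := h (g⁻¹ * y * g) (by simpa using Subgroup.Normal.conj_mem inferInstance y hy g⁻¹)
  have h2 := Subgroup.Normal.conj_mem (inferInstance : V.Normal) _ h1 g
  rw [← MulAut.conj_apply, map_list_prod, List.map_map] at h2
  rw [List.map_congr_left (g := (MulAut.conj g) ∘ fun i => (d ^ i)⁻¹ * (g⁻¹ * y * g) * d ^ i)]
  · exact h2
  · intro i _
    simp only [Function.comp_apply, MulAut.conj_apply]
    rw [conj_pow]
    group

/-- `(X - 1)^(p-1) = 1 + X + ... + X^(p-1)` in characteristic `p`. -/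
theorem sub_one_pow_eq_geom [Fact p.Prime] {R : Type*} [Ring R] (hR : (p : R) = 0) (φ : R) :
    (φ - 1) ^ (p - 1) = ∑ i ∈ Finset.range p, φ ^ i := by
  open Polynomial in
  have key : (X - 1 : (ZMod p)[X]) ^ (p - 1) = ∑ i ∈ Finset.range p, (X : (ZMod p)[X]) ^ i := by
    refine mul_left_cancel₀ (sub_ne_zero.mpr fun h => by
      have := congrArg (Polynomial.eval (0 : ZMod p)) (h : (X : (ZMod p)[X]) = 1)
      simp at this) ?_
    rw [mul_geom_sum, ← pow_succ', Nat.sub_add_cancel (Fact.out : p.Prime).one_le,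
      sub_pow_char, one_pow]
  let f : ZMod p →+* R := ZMod.castHom (ringChar.dvd hR) R
  let e := Polynomial.eval₂RingHom' f φ (fun a => by
    obtain ⟨n, rfl⟩ := ZMod.natCast_zmod_surjective (n := p) a
    rw [map_natCast]
    exact Nat.cast_commute n φ)
  have h := congrArg e key
  have eX : e Polynomial.X = φ := Polynomial.eval₂_X _ _
  simpa [map_sum, eX] using h

variable [Finite G] [Fact p.Prime]

theorem engelProd_of_iterCommutator {U V : Subgroup G} (hUV : IsChiefFactor U V)
    (hU : IsPGroup p U) {d : G} (hd : iterCommutator U (zpowers d) (p - 1) ≤ V) :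
    EngelProd p U V d := by
  obtain ⟨hlt, hUn, hVn, hmin⟩ := hUV
  haveI := hUn
  haveI := hVn
  have hp : p.Prime := Fact.out
  set V' : Subgroup U := V.subgroupOf U with hV'
  have e1 : ∀ w : U, QuotientGroup.mk' V' w = 1 ↔ (w : G) ∈ V :=
    fun w => QuotientGroup.eq_one_iff (N := V') w
  have hV'top : V' ≠ ⊤ := fun h => hlt.not_ge (subgroupOf_eq_top.mp h)
  have hQp : IsPGroup p (U ⧸ V') := hU.to_quotient V'
  haveI : Nontrivial (U ⧸ V') := by
    obtain ⟨x, hxU, hxV⟩ := SetLike.exists_of_lt hlt
    exact ⟨⟨QuotientGroup.mk' V' ⟨x, hxU⟩, 1, fun h => hxV ((e1 _).mp h)⟩⟩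
  -- abelian
  have hab : ⁅U, U⁆ ≤ V := by
    rcases hmin (⁅U, U⁆ ⊔ V) inferInstance le_sup_right
      (sup_le (commutator_le_self U) hlt.le) with h | h
    · exact h ▸ le_sup_left
    · exfalso
      haveI := hQp.isNilpotent
      apply (Group.IsSolvable.commutator_lt_top_of_nontrivial (U ⧸ V')).ne
      rw [_root_.commutator_def, ← map_top_of_surjective _ (QuotientGroup.mk'_surjective V'),
        ← map_commutator]
      refine le_antisymm (map_mono le_top) ?_
      intro z hz
      obtain ⟨⟨x, hxU⟩, -, rfl⟩ := hz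
      have hx : x ∈ ⁅U, U⁆ ⊔ V := by rw [h]; exact hxU
      rw [← SetLike.mem_coe, normal_mul] at hx
      obtain ⟨c, hc, v, hv, rfl⟩ := Set.mem_mul.mp hx
      rw [← map_subtype_commutator] at hc
      obtain ⟨c', hc', rfl⟩ := hc
      refine ⟨c', hc', (QuotientGroup.eq (s := V')).mpr ?_⟩
      rw [hV', mem_subgroupOf]
      simpa using hv
  have hcomm : ∀ a b : U ⧸ V', a * b = b * a := by
    intro a b
    obtain ⟨a, rfl⟩ := QuotientGroup.mk'_surjective V' a
    obtain ⟨b, rfl⟩ := QuotientGroup.mk'_surjective V' b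
    rw [← map_mul, ← map_mul]
    refine (QuotientGroup.eq (s := V')).mpr ?_
    have h := hab (commutator_mem_commutator (inv_mem b.2) (inv_mem a.2))
    rw [hV', mem_subgroupOf]
    convert h using 1
    simp only [commutatorElement_def, Subgroup.coe_mul, Subgroup.coe_inv]
    group
  letI : CommGroup (U ⧸ V') := { (inferInstance : Group (U ⧸ V')) with mul_comm := hcomm }
  -- exponent `p`
  have hexp : ∀ a : U ⧸ V', a ^ p = 1 := by
    set W : Subgroup U := (powMonoidHom p : (U ⧸ V') →* U ⧸ V').ker.comap (QuotientGroup.mk' V') with hW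
    have hWn : (W.map U.subtype).Normal := by
      constructor
      rintro _ ⟨w, hw, rfl⟩ g
      refine ⟨MulAut.conjNormal g w, ?_, MulAut.conjNormal_apply g w⟩
      have h1 : (QuotientGroup.mk' V' w) ^ p = 1 := hw
      rw [← map_pow] at h1
      have h2 : ((w ^ p : U) : G) ∈ V := (e1 _).mp h1
      change (QuotientGroup.mk' V' (MulAut.conjNormal g w)) ^ p = 1
      rw [← map_pow, ← map_pow]
      refine (e1 _).mpr ?_
      rw [MulAut.conjNormal_apply]
      exact hVn.conj_mem _ h2 g
    have hVW : V ≤ W.map U.subtype := fun v hv => ⟨⟨v, hlt.le hv⟩, by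
      change (QuotientGroup.mk' V' _) ^ p = 1
      rw [(e1 ⟨v, hlt.le hv⟩).mpr hv, one_pow], rfl⟩
    obtain ⟨k, hk⟩ := IsPGroup.iff_card.mp hQp
    have hkne : k ≠ 0 := fun h0 => by
      rw [h0, pow_zero] at hk
      exact (Nat.card_eq_one_iff_unique.mp hk).1.elim |> fun h =>
        not_nontrivial_iff_subsingleton.mpr (Nat.card_eq_one_iff_unique.mp hk).1 inferInstance
    obtain ⟨a, ha⟩ := exists_prime_orderOf_dvd_card' (G := U ⧸ V') p (hk ▸ dvd_pow_self p hkne)
    obtain ⟨a', rfl⟩ := QuotientGroup.mk'_surjective V' a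
    rcases hmin _ hWn hVW (map_subtype_le W) with h | h
    · exfalso
      have h1 : (a' : G) ∈ V := by
        rw [← h]
        refine ⟨a', ?_, rfl⟩
        have := pow_orderOf_eq_one (QuotientGroup.mk' V' a')
        rw [ha] at this
        exact this
      rw [(e1 a').mpr h1, orderOf_one] at ha
      exact hp.one_lt.ne ha
    · intro b
      obtain ⟨⟨x, hxU⟩, rfl⟩ := QuotientGroup.mk'_surjective V' b
      have hx : x ∈ W.map U.subtype := by rw [h]; exact hxU
      obtain ⟨w, hw, hwx⟩ := hx
      obtain rfl : w = ⟨x, hxU⟩ := Subtype.ext hwx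
      exact hw
  -- the endomorphism induced by `d`
  let c : U →* U := (MulAut.conjNormal (H := U) d⁻¹).toMonoidHom
  have hc : V' ≤ V'.comap c := fun v hv => by
    change ((MulAut.conjNormal (H := U) d⁻¹ v : U) : G) ∈ V
    rw [MulAut.conjNormal_apply]
    exact hVn.conj_mem _ hv _
  let φ : AddMonoid.End (Additive (U ⧸ V')) :=
    MonoidHom.toAdditive (QuotientGroup.map V' V' c hc)
  have hφ : ∀ (k : ℕ) (y : U), (φ ^ k) (Additive.ofMul (QuotientGroup.mk' V' y)) =
      Additive.ofMul (QuotientGroup.mk' V' ((MulAut.conjNormal (H := U) (d ^ k)⁻¹) y)) := by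
    intro k
    induction k with
    | zero => intro y; simp
    | succ k ih =>
      intro y
      rw [pow_succ', AddMonoid.End.coe_mul, Function.comp_apply, ih]
      change Additive.ofMul (QuotientGroup.mk' V' (c _)) = _
      congr 2
      apply Subtype.ext
      simp [c, MulAut.conjNormal_apply, pow_succ, mul_assoc]
  have hδ : ∀ (k : ℕ) (y : U), ∃ z : U, (z : G) ∈ iterCommutator U (zpowers d) k ∧
      ((φ - 1) ^ k) (Additive.ofMul (QuotientGroup.mk' V' y)) =
        Additive.ofMul (QuotientGroup.mk' V' z) := by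
    intro k y
    induction k with
    | zero => exact ⟨y, y.2, by simp⟩
    | succ k ih =>
      obtain ⟨z, hz, hzeq⟩ := ih
      refine ⟨(MulAut.conjNormal (H := U) d⁻¹) z * z⁻¹, ?_, ?_⟩
      · rw [iterCommutator, commutator_comm]
        have h2 : ((((MulAut.conjNormal (H := U) d⁻¹) z * z⁻¹ : U)) : G) = ⁅d⁻¹, (z : G)⁆ := by
          simp [commutatorElement_def, MulAut.conjNormal_apply]
        rw [h2]
        exact commutator_mem_commutator (inv_mem (mem_zpowers d)) hz
      · rw [pow_succ', AddMonoid.End.coe_mul, Function.comp_apply, hzeq,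
          map_mul (QuotientGroup.mk' V'), map_inv (QuotientGroup.mk' V'),
          ofMul_mul, ofMul_inv, ← sub_eq_add_neg]
        rfl
  have hzero : (φ - 1) ^ (p - 1) = 0 := by
    ext a
    obtain ⟨y, hy⟩ := QuotientGroup.mk'_surjective V' a.toMul
    obtain ⟨z, hz, hzeq⟩ := hδ (p - 1) y
    have ha : a = Additive.ofMul (QuotientGroup.mk' V' y) := by rw [hy]; rfl
    rw [ha, hzeq, (e1 z).mpr (hd hz)]
    rfl
  have hp0 : (p : AddMonoid.End (Additive (U ⧸ V'))) = 0 := by
    ext a
    rw [AddMonoid.End.natCast_apply]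
    exact hexp a.toMul
  have hsum := (sub_one_pow_eq_geom hp0 φ).symm.trans hzero
  intro y hy
  set L : List U := (List.range p).map fun i => (MulAut.conjNormal (H := U) (d ^ i)⁻¹) ⟨y, hy⟩ with hL
  have h1 : ((List.range p).map fun i => (d ^ i)⁻¹ * y * d ^ i).prod = ((L.prod : U) : G) := by
    rw [hL, Subgroup.val_list_prod, List.map_map]
    congr 1
    exact List.map_congr_left fun i _ => by
      rw [Function.comp_apply, MulAut.conjNormal_apply, inv_inv]
  have h2 : QuotientGroup.mk' V' L.prod = 1 := by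
    rw [map_list_prod, hL, List.map_map]
    have h3 := congrArg (fun f : AddMonoid.End (Additive (U ⧸ V')) =>
      f (Additive.ofMul (QuotientGroup.mk' V' ⟨y, hy⟩))) hsum
    have h5 := congrArg Additive.toMul (show
      (∑ i ∈ Finset.range p, (φ ^ i) (Additive.ofMul (QuotientGroup.mk' V' ⟨y, hy⟩))) = 0 from
        (AddMonoidHom.finsetSum_apply _ _ _).symm.trans h3)
    simp only [hφ, toMul_sum, toMul_ofMul, toMul_zero] at h5
    rw [← Multiset.prod_coe, ← Multiset.map_coe, ← Multiset.range, ← Finset.range_val]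
    exact h5
  rw [h1]
  exact (e1 L.prod).mp h2

end Cfsg.Agent.Fusion
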