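import Cfsg.Agent.Fusion.Alperin

/-!
# Local-to-global control of transfer

If `T` is a normal subgroup of a Sylow subgroup `S` containing `S'`, then `S ∩ G' ≤ T` as soon as
`N_S(U) ∩ N_G(U)' ≤ T` can be proved, for each nontrivial extremal `U ≤ S`, from the same for the
subgroups `U'` with a larger normalizer in `S`.
-/

set_option autoImplicit false
set_option linter.unusedSectionVars false

namespace Cfsg.Agent.Fusion

open Subgroup
open scoped commutatorElement

universe u

variable {G : Type u} [Group G] [Finite G] {p : ℕ} [Fact p.Prime]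

/-- `N_S(U) ∩ N_G(U)' ≤ T`. -/
def LocallyIn (S T U : Subgroup G) : Prop :=
  S ⊓ normalizer (U : Set G) ⊓ ⁅normalizer (U : Set G), normalizer (U : Set G)⁆ ≤ T

/-- Along a chain through intersections `H` with `LocallyIn S T H`, conjugation is trivial
modulo `T`. -/
theorem conn_congr_mod (S : Sylow p G) {T : Subgroup G} (hTS : T ≤ (S : Subgroup G))
    (hTn : (S : Subgroup G) ≤ normalizer (T : Set G)) (n : ℕ)
    (hgood : ∀ H : Subgroup G, H ≤ (S : Subgroup G) → n ≤ Nat.card H → LocallyIn (S : Subgroup G) T H)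
    {A : Set G} {g : G} (h : Conn S A g) (hA : n ≤ Nat.card A) {a : G} (ha : a ∈ A)
    (hag : g⁻¹ * a * g ∈ (S : Subgroup G)) : a * (g⁻¹ * a * g)⁻¹ ∈ T := by
  induction h generalizing a with
  | refl A => simp
  | step A g x Q hQ hA' hx h' ih =>
    set H := (S : Subgroup G) ⊓ (Q : Subgroup G) with hH
    have hcard : n ≤ Nat.card H := le_trans hA (Nat.card_mono (Set.toFinite _) hA')
    have haH : a ∈ H := hA' ha
    have hb : x⁻¹ * a * x ∈ H := (mem_normalizer_iff''.mp hx a).mp haH
    have h1 : a * (x⁻¹ * a * x)⁻¹ ∈ T := by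
      refine hgood H inf_le_left hcard ⟨⟨?_, ?_⟩, ?_⟩
      · exact Subgroup.mul_mem _ (show a ∈ (S : Subgroup G) from haH.1)
          (inv_mem (show x⁻¹ * a * x ∈ (S : Subgroup G) from hb.1))
      · exact Subgroup.mul_mem _ (le_normalizer haH) (inv_mem (le_normalizer hb))
      · have : a * (x⁻¹ * a * x)⁻¹ = ⁅a, x⁻¹⁆ := by group
        rw [this]
        exact commutator_mem_commutator (le_normalizer haH) (inv_mem hx)
    have heq : g⁻¹ * (x⁻¹ * a * x) * g = (x * g)⁻¹ * a * (x * g) := by group
    have h2 := ih (by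
      rw [Nat.card_image_of_injective]
      · exact hA
      · intro u v huv
        simpa using huv) ⟨a, ha, rfl⟩ (heq ▸ hag)
    rw [heq] at h2
    have h3 := mul_mem h1 h2
    simpa [mul_assoc] using h3

/-- **Local-to-global principle for control of transfer.** -/
theorem commutator_inf_le_of_local (S : Sylow p G) {T : Subgroup G} (hTS : T ≤ (S : Subgroup G))
    (hTn : (S : Subgroup G) ≤ normalizer (T : Set G))
    (hstep : ∀ U : Subgroup G, U ≤ (S : Subgroup G) → U ≠ ⊥ →
      ¬ p ∣ ((S : Subgroup G) ⊓ normalizer (U : Set G)).relIndex (normalizer (U : Set G)) →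
      (∀ U' : Subgroup G, U' ≤ (S : Subgroup G) → U' ≠ ⊥ →
        Nat.card ((S : Subgroup G) ⊓ normalizer (U : Set G) : Subgroup G) <
          Nat.card ((S : Subgroup G) ⊓ normalizer (U' : Set G) : Subgroup G) →
        LocallyIn (S : Subgroup G) T U') →
      LocallyIn (S : Subgroup G) T U) :
    commutator G ⊓ (S : Subgroup G) ≤ T := by
  have key : ∀ (n : ℕ) (U : Subgroup G), U ≤ (S : Subgroup G) → U ≠ ⊥ →
      Nat.card S - Nat.card ((S : Subgroup G) ⊓ normalizer (U : Set G) : Subgroup G) ≤ n →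
      LocallyIn (S : Subgroup G) T U := by
    intro n
    induction n using Nat.strong_induction_on with
    | _ n ih =>
    intro U hUS hU hn
    set R := (S : Subgroup G) ⊓ normalizer (U : Set G) with hR
    have hgood : ∀ U' : Subgroup G, U' ≤ (S : Subgroup G) → U' ≠ ⊥ →
        Nat.card R < Nat.card ((S : Subgroup G) ⊓ normalizer (U' : Set G) : Subgroup G) →
        LocallyIn (S : Subgroup G) T U' := fun U' h1 h2 h3 => by
      refine ih _ ?_ U' h1 h2 le_rfl
      have : Nat.card ((S : Subgroup G) ⊓ normalizer (U' : Set G) : Subgroup G) ≤ Nat.card S :=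
        card_le_of_le inf_le_left
      omega
    by_cases hext : ¬ p ∣ R.relIndex (normalizer (U : Set G))
    · exact hstep U hUS hU hext hgood
    have hRS : R < (S : Subgroup G) := lt_of_le_of_ne inf_le_left fun h => hext fun hd => by
      rw [h] at hd
      exact S.not_dvd_index (hd.trans (relIndex_dvd_index_of_le (h ▸ inf_le_right)))
    obtain ⟨g, hg1, hg2, hg3⟩ := exists_extremal S hUS
    set U' := U.map (MulAut.conj g).toMonoidHom with hU'
    have hU'bot : U' ≠ ⊥ := fun h => hU ((map_eq_bot_iff_of_injective _ (MulAut.conj g).injective).mp h)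
    have hgoodU' : LocallyIn (S : Subgroup G) T U' := by
      refine hstep U' hg1 hU'bot hg3 fun V h1 h2 h3 => hgood V h1 h2 (lt_of_le_of_lt ?_ h3)
      rw [← card_map_of_injective (f := (MulAut.conj g).toMonoidHom) (K := R) (MulAut.conj g).injective]
      refine card_le_of_le (le_inf hg2 ?_)
      rw [hR, hU', ← map_equiv_normalizer_eq U (MulAut.conj g)]
      exact map_mono inf_le_right
    intro a ha
    obtain ⟨haR, hac⟩ := ha
    have himg : (fun b => g⁻¹⁻¹ * b * g⁻¹) '' (R : Set G) ⊆ ((S : Subgroup G) : Set G) := by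
      rintro _ ⟨b, hb, rfl⟩
      change g⁻¹⁻¹ * b * g⁻¹ ∈ (S : Subgroup G)
      simpa [MulAut.conj_apply] using hg2 ⟨b, hb, rfl⟩
    have hconn : Conn S (R : Set G) g⁻¹ := alperin S (fun b hb => hb.1) himg
    have h1 : g⁻¹⁻¹ * a * g⁻¹ ∈ T := by
      refine hgoodU' ⟨⟨himg ⟨a, haR, rfl⟩, ?_⟩, ?_⟩
      · rw [hU', ← map_equiv_normalizer_eq U (MulAut.conj g)]
        exact ⟨a, haR.2, by simp [MulAut.conj_apply]⟩
      · rw [hU', ← map_equiv_normalizer_eq U (MulAut.conj g), ← map_commutator]
        exact ⟨a, hac, by simp [MulAut.conj_apply]⟩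
    have hH : ∀ H : Subgroup G, H ≤ (S : Subgroup G) → Nat.card R ≤ Nat.card H →
        LocallyIn (S : Subgroup G) T H := fun H hHS hc => by
      have hHbot : H ≠ ⊥ := by
        intro h
        subst h
        rw [card_bot] at hc
        have hR1 : R = ⊥ := card_eq_one.mp (le_antisymm hc Nat.card_pos)
        exact hU (eq_bot_iff.mpr (hR1 ▸ le_inf hUS le_normalizer))
      refine hgood H hHS hHbot ?_
      rcases lt_or_eq_of_le hHS with hlt | heq
      · have := ofSubgroupInfLt _ S.isPGroup' hlt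
        exact lt_of_le_of_lt hc (Nat.lt_of_le_of_ne (card_le_of_le this.le)
          fun h => this.ne (eq_of_le_of_card_ge this.le h.ge))
      · rw [inf_eq_left.mpr (heq ▸ le_normalizer)]
        exact Nat.lt_of_le_of_ne (card_le_of_le hRS.le)
          fun h => hRS.ne (eq_of_le_of_card_ge hRS.le h.ge)
    have h2 := conn_congr_mod S hTS hTn (Nat.card R) hH hconn le_rfl haR (himg ⟨a, haR, rfl⟩)
    have h3 := mul_mem h2 h1
    rwa [inv_mul_cancel_right] at h3
  rw [commutator_inf_eq_focalSubgroup, focalSubgroup_def, closure_le]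
  rintro y ⟨hy, x, hx, v, rfl⟩
  by_cases hx1 : x = 1
  · subst hx1; simp
  have hv : v * x * v⁻¹ ∈ (S : Subgroup G) := by
    have h := inv_mem (mul_mem (inv_mem hx) hy)
    simpa [commutatorElement_def, mul_assoc] using h
  have hA : ({x, 1} : Set G) ⊆ ((S : Subgroup G) : Set G) :=
    Set.insert_subset hx (Set.singleton_subset_iff.mpr (one_mem _))
  have hAg : (fun b => v⁻¹⁻¹ * b * v⁻¹) '' ({x, 1} : Set G) ⊆ ((S : Subgroup G) : Set G) := by
    rintro _ ⟨b, hb, rfl⟩
    rcases hb with rfl | hb
    · change v⁻¹⁻¹ * b * v⁻¹ ∈ (S : Subgroup G)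
      simpa using hv
    · rw [Set.mem_singleton_iff.mp hb]; simp
  have hH : ∀ H : Subgroup G, H ≤ (S : Subgroup G) → 2 ≤ Nat.card H →
      LocallyIn (S : Subgroup G) T H := fun H hHS hc => key _ H hHS
    (fun h => by subst h; rw [card_bot] at hc; omega) le_rfl
  have h2 := conn_congr_mod S hTS hTn 2 hH (alperin S hA hAg)
    (by rw [Nat.card_coe_set_eq, Set.ncard_pair hx1]) (Set.mem_insert x {1}) (by simpa using hv)
  rw [SetLike.mem_coe]
  simpa [commutatorElement_def, mul_assoc] using h2

end Cfsg.Agent.Fusion
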