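import Cfsg.Prelude.Def_ConjugacyFunctors
import Cfsg.Agent.Fusion.TransferLocal

/-!
# Transfer controlled by isomorphism-invariant functors on p-groups
-/

set_option autoImplicit false
set_option linter.unusedSectionVars false

namespace Cfsg.Agent.Fusion

open Subgroup

universe u

/-- The values `W Q` of a functor are compatible with injective homomorphisms. -/
theorem inducedFunctor_map {p : ℕ} {W : ∀ (Q : Type u) [Group Q], Subgroup Q}
    (hW : IsCharPFunctor.{u} p W) {G H : Type u} [Group G] [Group H] (f : G →* H)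
    (hf : Function.Injective f) {P : Subgroup G} [Finite P] (hP : IsPGroup p P) :
    inducedFunctor W (P.map f) = (inducedFunctor W P).map f := by
  unfold inducedFunctor
  rw [← hW.2 ↥P ↥(P.map f) hP (P.equivMapOfInjective f hf), Subgroup.map_map, Subgroup.map_map]
  rfl

/-- The same when the homomorphism is only injective on `P`. -/
theorem inducedFunctor_map_of_injOn {p : ℕ} {W : ∀ (Q : Type u) [Group Q], Subgroup Q}
    (hW : IsCharPFunctor.{u} p W) {G H : Type u} [Group G] [Group H] (f : G →* H)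
    {P : Subgroup G} [Finite P] (hP : IsPGroup p P) (hf : ∀ x ∈ P, f x = 1 → x = 1) :
    inducedFunctor W (P.map f) = (inducedFunctor W P).map f := by
  have hb : Function.Bijective (f.subgroupMap P) := by
    refine ⟨(injective_iff_map_eq_one _).mpr fun x hx => Subtype.ext (hf x x.2 ?_),
      f.subgroupMap_surjective P⟩
    exact congrArg Subtype.val hx
  unfold inducedFunctor
  rw [← hW.2 ↥P ↥(P.map f) hP (MulEquiv.ofBijective (f.subgroupMap P) hb), Subgroup.map_map,
    Subgroup.map_map]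
  rfl

theorem inducedFunctor_le {W : ∀ (Q : Type u) [Group Q], Subgroup Q} {G : Type u} [Group G]
    (P : Subgroup G) : inducedFunctor W P ≤ P :=
  map_subtype_le _

theorem inducedFunctor_ne_bot {p : ℕ} {W : ∀ (Q : Type u) [Group Q], Subgroup Q}
    (hW : IsCharPFunctor.{u} p W) {G : Type u} [Group G] {P : Subgroup G} [Finite P]
    (hP : IsPGroup p P) (hne : P ≠ ⊥) : inducedFunctor W P ≠ ⊥ := fun h =>
  hW.1 ↥P hP ((nontrivial_iff_ne_bot P).mpr hne)
    ((map_eq_bot_iff_of_injective _ P.subtype_injective).mp h)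

theorem normalizer_le_normalizer_inducedFunctor {p : ℕ}
    {W : ∀ (Q : Type u) [Group Q], Subgroup Q} (hW : IsCharPFunctor.{u} p W)
    {G : Type u} [Group G] {P : Subgroup G} [Finite P] (hP : IsPGroup p P) :
    normalizer (P : Set G) ≤ normalizer ((inducedFunctor W P : Subgroup G) : Set G) := by
  intro g hg
  rw [mem_normalizer_iff_map_conj_eq] at hg ⊢
  have h := inducedFunctor_map hW (MulAut.conj g).toMonoidHom (MulAut.conj g).injective hP
  rw [show P.map (MulAut.conj g).toMonoidHom = P from hg] at h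
  exact h.symm

theorem le_normalizer_inducedFunctor {p : ℕ}
    {W : ∀ (Q : Type u) [Group Q], Subgroup Q} (hW : IsCharPFunctor.{u} p W)
    {G : Type u} [Group G] {P : Subgroup G} [Finite P] (hP : IsPGroup p P) :
    P ≤ normalizer ((inducedFunctor W P : Subgroup G) : Set G) :=
  le_normalizer.trans (normalizer_le_normalizer_inducedFunctor hW hP)

variable (𝓦 : Set (∀ (Q : Type u) [Group Q], Subgroup Q))

/-- `S ∩ N_G(W S)'`, joined over `W ∈ 𝓦`. -/
def Tj {G : Type u} [Group G] (S : Subgroup G) : Subgroup G :=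
  ⨆ W ∈ 𝓦, S ⊓ ⁅normalizer ((inducedFunctor W S : Subgroup G) : Set G),
    normalizer ((inducedFunctor W S : Subgroup G) : Set G)⁆

/-- `𝓦` controls transfer in `G`. -/
def Ctl (p : ℕ) (G : Type u) [Group G] : Prop :=
  ∀ S : Sylow p G, commutator G ⊓ (S : Subgroup G) ≤ Tj 𝓦 (S : Subgroup G)

variable {𝓦} {p : ℕ} {G : Type u} [Group G]

theorem le_Tj {W : ∀ (Q : Type u) [Group Q], Subgroup Q} (hW : W ∈ 𝓦) (S : Subgroup G) :
    S ⊓ ⁅normalizer ((inducedFunctor W S : Subgroup G) : Set G),
      normalizer ((inducedFunctor W S : Subgroup G) : Set G)⁆ ≤ Tj 𝓦 S :=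
  le_iSup₂ (f := fun (W : ∀ (Q : Type u) [Group Q], Subgroup Q) (_ : W ∈ 𝓦) =>
    S ⊓ ⁅normalizer ((inducedFunctor W S : Subgroup G) : Set G),
      normalizer ((inducedFunctor W S : Subgroup G) : Set G)⁆) W hW

theorem Tj_le (S : Subgroup G) : Tj 𝓦 S ≤ S :=
  iSup₂_le fun _ _ => inf_le_left

theorem Tj_le_commutator (S : Subgroup G) : Tj 𝓦 S ≤ commutator G :=
  iSup₂_le fun _ _ => inf_le_right.trans (commutator_mono le_top le_top)

theorem map_Tj_le {H : Type u} [Group H] (f : G →* H) (hf : Function.Injective f)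
    (h𝓦 : ∀ W ∈ 𝓦, IsCharPFunctor.{u} p W) {S : Subgroup G} [Finite S] (hS : IsPGroup p S) :
    (Tj 𝓦 S).map f ≤ Tj 𝓦 (S.map f) := by
  simp only [Tj, Subgroup.map_iSup]
  refine iSup₂_mono fun W hW => ?_
  rw [map_inf_eq _ _ _ hf, map_commutator, inducedFunctor_map (h𝓦 W hW) f hf hS]
  exact inf_le_inf_left _ (commutator_mono (le_normalizer_map f) (le_normalizer_map f))

theorem normalizer_le_normalizer_Tj [Finite G] (h𝓦 : ∀ W ∈ 𝓦, IsCharPFunctor.{u} p W)
    {S : Subgroup G} (hS : IsPGroup p S) :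
    normalizer (S : Set G) ≤ normalizer ((Tj 𝓦 S : Subgroup G) : Set G) := by
  intro g hg
  rw [mem_normalizer_iff_map_conj_eq] at hg ⊢
  have h := map_Tj_le (MulAut.conj g).toMonoidHom (MulAut.conj g).injective h𝓦 hS
  rw [show S.map (MulAut.conj g).toMonoidHom = S from hg] at h
  exact eq_of_le_of_card_ge h (card_map_of_injective (MulAut.conj g).injective).ge

theorem sylow_map_equiv {H : Type u} [Group H] [Finite G] [Fact p.Prime] (e : G ≃* H)
    (S : Sylow p H) : ∃ R : Sylow p G, (R : Subgroup G).map e.toMonoidHom = (S : Subgroup H) := by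
  obtain ⟨R, hR⟩ := Sylow.mapSurjective_surjective (f := e.toMonoidHom) e.surjective p S
  exact ⟨R, by rw [← hR]; rfl⟩

theorem Ctl.congr {H : Type u} [Group H] [Finite G] [Fact p.Prime] (e : G ≃* H)
    (h𝓦 : ∀ W ∈ 𝓦, IsCharPFunctor.{u} p W) (h : Ctl 𝓦 p G) : Ctl 𝓦 p H := by
  intro S
  obtain ⟨R, hR⟩ := sylow_map_equiv e S
  rw [← hR]
  refine le_trans (le_of_eq ?_) ((Subgroup.map_mono (h R)).trans
    (map_Tj_le e.toMonoidHom e.injective h𝓦 R.isPGroup'))
  rw [map_inf_eq _ _ _ e.injective, commutator_def G, map_commutator,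
    map_top_of_surjective e.toMonoidHom e.surjective, ← commutator_def H]

theorem ctl_iff [Finite G] [Fact p.Prime] (h𝓦 : ∀ W ∈ 𝓦, IsCharPFunctor.{u} p W) :
    FamilyControlsTransferIn p ((fun W => inducedFunctor (G := G) W) '' 𝓦) ⊤ ↔ Ctl 𝓦 p G := by
  have e : ∀ T : Subgroup G, (⨆ W ∈ ((fun W => inducedFunctor (G := G) W) '' 𝓦),
      T ⊓ ⁅⊤ ⊓ normalizer ((W T : Subgroup G) : Set G), ⊤ ⊓ normalizer ((W T : Subgroup G) : Set G)⁆) =
      Tj 𝓦 T := fun T => by
    simp only [top_inf_eq, iSup_image, Tj]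
  constructor
  · rintro ⟨T, -, hTp, hTi, hT⟩ S
    rw [e, ← commutator_def] at hT
    rw [relIndex_top_right] at hTi
    let T' : Sylow p G := hTp.toSylow hTi
    obtain ⟨g, hg⟩ := MulAction.exists_smul_eq G T' S
    rw [← hg, sylow_smul_coe]
    refine le_trans (le_of_eq ?_) ((Subgroup.map_mono
      (show commutator G ⊓ (T' : Subgroup G) ≤ Tj 𝓦 (T' : Subgroup G) by
        rw [inf_comm]; exact hT.le)).trans
      (map_Tj_le (MulAut.conj g).toMonoidHom (MulAut.conj g).injective h𝓦 T'.isPGroup'))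
    rw [map_inf_eq _ _ _ (MulAut.conj g).injective, commutator_def, map_commutator,
      map_top_of_surjective (MulAut.conj g).toMonoidHom (MulAut.conj g).surjective]
  · intro h
    let S : Sylow p G := default
    refine ⟨S, le_top, S.isPGroup', by rw [relIndex_top_right]; exact S.not_dvd_index, ?_⟩
    rw [e, ← commutator_def, inf_comm]
    exact le_antisymm (h S) (le_inf (Tj_le_commutator _) (Tj_le _))

theorem ctl_singleton_iff [Finite G] [Fact p.Prime] {W : ∀ (Q : Type u) [Group Q], Subgroup Q}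
    (hW : IsCharPFunctor.{u} p W) :
    ControlsTransferIn p (inducedFunctor (G := G) W) ⊤ ↔ Ctl {W} p G := by
  rw [← ctl_iff (by rintro _ rfl; exact hW)]
  unfold ControlsTransferIn FamilyControlsTransferIn
  simp only [Set.image_singleton, iSup_singleton]

end Cfsg.Agent.Fusion
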