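import Cfsg.Prelude.Def_Balance
import Cfsg.Agent.Cores.PCore
import Cfsg.Agent.Coprime.Generation
import Cfsg.Agent.H40.BalanceConstrained
import Cfsg.Agent.H47.Delta
import Cfsg.Agent.Components.PLocal

/-!
An equivariant solvable signalizer functor is trivial when the rank graph is connected and there is
no normal subgroup of order prime to `p`; the completeness theorem enters as a hypothesis.
-/

set_option autoImplicit false
set_option linter.unusedSectionVars false

namespace Cfsg.Agent.Fusion.Signalizer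

open Subgroup

universe u

variable {G : Type u} [Group G] [Finite G] {p : ℕ} [hp : Fact p.Prime]

/-- The statement of the completeness theorem, on `G`. -/
def CompleteHyp (p : ℕ) (G : Type u) [Group G] : Prop :=
  ∀ (A : Subgroup G) (θ : G → Subgroup G), Cfsg.IsElementaryAbelian p A → p ^ 3 ≤ Nat.card A →
    Cfsg.IsSolvableSignalizerFunctor p A θ → Cfsg.IsCompleteSignalizerFunctor p A θ

/-- `a` has order `p` and `m_p(C(a)) ≥ 3`. -/
abbrev Good (p : ℕ) (a : G) : Prop :=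
  orderOf a = p ∧ ¬ Cfsg.PRankLE p 2 ↥(centralizer ({a} : Set G))

/-- `W(E)`: generated by the `θ a`, `a ∈ E` nontrivial. -/
abbrev gen (θ : G → Subgroup G) (E : Subgroup G) : Subgroup G := Cfsg.signalizerClosure E θ

theorem orderOf_eq_of_mem {E : Subgroup G} (hE : Cfsg.IsElementaryAbelian p E) {a : G} (ha : a ∈ E)
    (h1 : a ≠ 1) : orderOf a = p :=
  orderOf_eq_prime (hE.2 a ha) h1

theorem not_pRankLE_of_le {C : Subgroup G} {A : Subgroup G} (hAC : A ≤ C)
    (hA : Cfsg.IsElementaryAbelian p A) (h3 : p ^ 3 ≤ Nat.card A) : ¬ Cfsg.PRankLE p 2 ↥C := by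
  intro h
  have hc : IsMulCommutative ↥(A.subgroupOf C) := ⟨⟨fun x y => Subtype.ext (Subtype.ext
    (congrArg Subtype.val (hA.1.1.comm ⟨((x : ↥C) : G), x.2⟩ ⟨((y : ↥C) : G), y.2⟩) :
      ((x : ↥C) : G) * ((y : ↥C) : G) = ((y : ↥C) : G) * ((x : ↥C) : G)))⟩⟩
  have h1 := h (A.subgroupOf C) hc (fun a ha => Subtype.ext (by simpa using hA.2 a ha))
  rw [Nat.card_congr (subgroupOfEquivOfLe hAC).toEquiv] at h1
  have : p ^ 2 < p ^ 3 := Nat.pow_lt_pow_right hp.out.one_lt (by norm_num)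
  omega

theorem exists_elementary_of_not_pRankLE {C : Subgroup G} (h : ¬ Cfsg.PRankLE p 2 ↥C) :
    ∃ A : Subgroup G, A ≤ C ∧ Cfsg.IsElementaryAbelian p A ∧ p ^ 3 ≤ Nat.card A := by
  obtain ⟨A, hA⟩ := not_forall.mp h
  simp only [Classical.not_imp, not_le] at hA
  obtain ⟨hc, he, hlt⟩ := hA
  refine ⟨A.map C.subtype, map_subtype_le A, ⟨⟨⟨?_⟩⟩, ?_⟩, ?_⟩
  · rintro ⟨_, x, hx, rfl⟩ ⟨_, y, hy, rfl⟩
    exact Subtype.ext (congrArg (fun z : ↥A => ((z : ↥C) : G)) (hc.1.comm ⟨x, hx⟩ ⟨y, hy⟩))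
  · rintro _ ⟨x, hx, rfl⟩
    rw [← map_pow, he x hx, map_one]
  · rw [card_map_of_injective C.subtype_injective]
    have hAp : IsPGroup p A := fun x => ⟨1, Subtype.ext (by simpa using he x x.2)⟩
    obtain ⟨n, hn⟩ := IsPGroup.iff_card.mp hAp
    rw [hn] at hlt ⊢
    exact Nat.pow_le_pow_right hp.out.pos ((Nat.pow_lt_pow_iff_right hp.out.one_lt).mp hlt)

/-- The join of two commuting elementary abelian subgroups. -/
theorem elementary_sup {E F : Subgroup G} (hE : Cfsg.IsElementaryAbelian p E)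
    (hF : Cfsg.IsElementaryAbelian p F) (hEF : ∀ a ∈ E, ∀ b ∈ F, a * b = b * a) :
    Cfsg.IsElementaryAbelian p (E ⊔ F : Subgroup G) := by
  have hEc : ∀ a ∈ E, ∀ b ∈ E, a * b = b * a := fun a ha b hb =>
    congrArg Subtype.val (hE.1.1.comm ⟨a, ha⟩ ⟨b, hb⟩)
  have hFc : ∀ a ∈ F, ∀ b ∈ F, a * b = b * a := fun a ha b hb =>
    congrArg Subtype.val (hF.1.1.comm ⟨a, ha⟩ ⟨b, hb⟩)
  have hc : E ⊔ F ≤ centralizer ((E ⊔ F : Subgroup G) : Set G) := by
    refine sup_le ?_ ?_ <;> rw [le_centralizer_iff] <;> refine sup_le ?_ ?_ <;> intro x hx <;>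
      refine mem_centralizer_iff.mpr fun y hy => ?_
    exacts [hEc y hy x hx, hEF y hy x hx, (hEF x hx y hy).symm, hFc y hy x hx]
  refine ⟨le_centralizer_iff_isMulCommutative.mp hc, fun a ha => ?_⟩
  have hEn : E ≤ normalizer (F : Set G) := fun e he =>
    centralizer_le_normalizer _ (mem_centralizer_iff.mpr fun f hf => (hEF e he f hf).symm)
  rw [← SetLike.mem_coe, coe_mul_of_left_le_normalizer_right E F hEn] at ha
  obtain ⟨e, he, f, hf, rfl⟩ := ha
  rw [(show Commute e f from hEF e he f hf).mul_pow, hE.2 e he, hF.2 f hf, one_mul]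

theorem not_isCyclic_of_elementary {E : Subgroup G} (hE : Cfsg.IsElementaryAbelian p E)
    (h2 : p ^ 2 ≤ Nat.card E) : ¬ IsCyclic E := by
  intro hc
  obtain ⟨g, hg⟩ := hc.exists_generator
  have h1 : Nat.card E = orderOf g := by
    rw [← Nat.card_zpowers, (eq_top_iff' (zpowers g)).mpr hg, card_top]
  have h3 : orderOf g ≤ p := Nat.le_of_dvd hp.out.pos (orderOf_dvd_of_pow_eq_one
    (Subtype.ext (by simpa using hE.2 g g.2)))
  have : p ^ 1 < p ^ 2 := Nat.pow_lt_pow_right hp.out.one_lt (by norm_num)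
  rw [pow_one] at this
  omega

variable {θ : G → Subgroup G}

theorem isSolvableSignalizerFunctor
    (hC : ∀ a : G, Good p a → θ a ≤ centralizer ({a} : Set G) ∧ ¬ p ∣ Nat.card ↥(θ a) ∧
      Group.IsSolvable ↥(θ a))
    (heq : ∀ a g : G, Good p a → θ (g * a * g⁻¹) = (θ a).map (MulAut.conj g).toMonoidHom)
    (hbal : ∀ a b : G, Good p a → Good p b → a * b = b * a → θ a ⊓ centralizer {b} ≤ θ b)
    {A : Subgroup G} (hA : Cfsg.IsElementaryAbelian p A) (h3 : p ^ 3 ≤ Nat.card A) :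
    Cfsg.IsSolvableSignalizerFunctor p A θ := by
  have hAc : ∀ a ∈ A, ∀ b ∈ A, a * b = b * a := fun a ha b hb =>
    congrArg Subtype.val (hA.1.1.comm ⟨a, ha⟩ ⟨b, hb⟩)
  have hgood : ∀ a ∈ A, a ≠ 1 → Good p a := fun a ha h1 => ⟨orderOf_eq_of_mem hA ha h1,
    not_pRankLE_of_le (fun b hb => mem_centralizer_singleton_iff.mpr (hAc b hb a ha)) hA h3⟩
  refine ⟨⟨fun a ha h1 => (hC a (hgood a ha h1)).1, fun a ha h1 => (hC a (hgood a ha h1)).2.1,
    fun a ha h1 b hb x hx => ?_, fun a ha h1 b hb hb1 =>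
      hbal a b (hgood a ha h1) (hgood b hb hb1) (hAc a ha b hb)⟩,
    fun a ha h1 => (hC a (hgood a ha h1)).2.2⟩
  have h := heq a b (hgood a ha h1)
  rw [show b * a * b⁻¹ = a by rw [hAc b hb a ha, mul_inv_cancel_right]] at h
  rw [h]
  exact ⟨x, hx, rfl⟩

/-- On a noncyclic subgroup of `A` the closure is that of `A`, and it has order prime to `p`. -/
theorem gen_eq {A : Subgroup G} (_hA : Cfsg.IsElementaryAbelian p A)
    (hθ : Cfsg.IsCompleteSignalizerFunctor p A θ) {E : Subgroup G} (hE : Cfsg.IsElementaryAbelian p E)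
    (hEA : E ≤ A) (h2 : p ^ 2 ≤ Nat.card E) :
    gen θ E = gen θ A ∧ ¬ p ∣ Nat.card (gen θ E) := by
  obtain ⟨-, X, hXA, hXp, hXc⟩ := hθ
  have hXn : A ≤ normalizer (X : Set G) := fun b hb => mem_normalizer_iff.mpr fun x =>
    ⟨hXA b hb x, fun h => by simpa [mul_assoc] using hXA b⁻¹ (inv_mem hb) _ h⟩
  have := hE.1
  have hcop : (Nat.card E).Coprime (Nat.card X) := by
    obtain ⟨n, hn⟩ := IsPGroup.iff_card.mp
      (show IsPGroup p E from fun x => ⟨1, Subtype.ext (by simpa using hE.2 x x.2)⟩)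
    rw [hn]
    exact (hp.out.coprime_iff_not_dvd.mpr hXp).pow_left n
  have hgen : ∀ B : Subgroup G, B ≤ A → gen θ B ≤ X := fun B hB => iSup_le fun a =>
    (hXc a.1 (hB a.2.1) a.2.2).ge.trans inf_le_left
  have hXle : X ≤ gen θ E := Coprime.le_of_centralizer_noncyclic_le
    (not_isCyclic_of_elementary hE h2) (hEA.trans hXn) hcop fun a ha h1 =>
      (hXc a (hEA ha) h1).le.trans (le_iSup (fun x : {x : G // x ∈ E ∧ x ≠ 1} => θ x.1) ⟨a, ha, h1⟩)
  have h1 : gen θ E = X := le_antisymm (hgen E hEA) hXle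
  have h2' : gen θ A = X := le_antisymm (hgen A le_rfl) (hXle.trans (iSup_le fun a =>
    le_iSup (fun x : {x : G // x ∈ A ∧ x ≠ 1} => θ x.1) ⟨a.1, hEA a.2.1, a.2.2⟩))
  exact ⟨h1.trans h2'.symm, h1 ▸ hXp⟩

theorem eq_bot_of_complete (hcomp : CompleteHyp p G) (hO : Cfsg.pPrimeCore p G = ⊥)
    (hconn : Cfsg.IsRankGraphConnected p 2 G)
    (hC : ∀ a : G, Good p a → θ a ≤ centralizer ({a} : Set G) ∧ ¬ p ∣ Nat.card ↥(θ a) ∧
      Group.IsSolvable ↥(θ a))
    (heq : ∀ a g : G, Good p a → θ (g * a * g⁻¹) = (θ a).map (MulAut.conj g).toMonoidHom)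
    (hbal : ∀ a b : G, Good p a → Good p b → a * b = b * a → θ a ⊓ centralizer {b} ≤ θ b)
    (a : G) (ha : Good p a) : θ a = ⊥ := by
  have key : ∀ A : Subgroup G, Cfsg.IsElementaryAbelian p A → p ^ 3 ≤ Nat.card A →
      Cfsg.IsCompleteSignalizerFunctor p A θ := fun A hA h3 =>
    hcomp A θ hA h3 (isSolvableSignalizerFunctor hC heq hbal hA h3)
  have step : ∀ E F : Subgroup G, Cfsg.IsRankGraphVertex p 2 E → Cfsg.IsRankGraphVertex p 2 F →
      (∀ x ∈ E, ∀ y ∈ F, x * y = y * x) → gen θ E = gen θ F := by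
    intro E F hE hF hEF
    have hS := elementary_sup hE.1 hF.1 hEF
    by_cases h3 : p ^ 3 ≤ Nat.card ↥(E ⊔ F)
    · rw [(gen_eq hS (key _ hS h3) hE.1 le_sup_left hE.2.1).1,
        (gen_eq hS (key _ hS h3) hF.1 le_sup_right hF.2.1).1]
    · have hSp : IsPGroup p ↥(E ⊔ F) := fun x => ⟨1, Subtype.ext (by simpa using hS.2 x x.2)⟩
      obtain ⟨n, hn⟩ := IsPGroup.iff_card.mp hSp
      have hn2 : n ≤ 2 := by
        by_contra h
        exact h3 (hn ▸ Nat.pow_le_pow_right hp.out.pos (by omega))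
      have hle : Nat.card ↥(E ⊔ F) ≤ p ^ 2 := hn ▸ Nat.pow_le_pow_right hp.out.pos hn2
      exact congrArg (gen θ) ((eq_of_le_of_card_ge (le_sup_left : E ≤ E ⊔ F) (hle.trans hE.2.1)).trans
        (eq_of_le_of_card_ge (le_sup_right : F ≤ E ⊔ F) (hle.trans hF.2.1)).symm)
  obtain ⟨B, hBC, hB, hB3⟩ := exists_elementary_of_not_pRankLE ha.2
  set A := zpowers a ⊔ B with hAdef
  have hza : Cfsg.IsElementaryAbelian p (zpowers a) := by
    refine ⟨inferInstance, fun x hx => ?_⟩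
    obtain ⟨k, rfl⟩ := mem_zpowers_iff.mp hx
    rw [← zpow_natCast, ← zpow_mul, mul_comm, zpow_mul, zpow_natCast, ← ha.1, pow_orderOf_eq_one,
      one_zpow]
  have hA : Cfsg.IsElementaryAbelian p A := elementary_sup hza hB fun x hx y hy => by
    obtain ⟨k, rfl⟩ := mem_zpowers_iff.mp hx
    have hc : Commute y a := mem_centralizer_singleton_iff.mp (hBC hy)
    exact (hc.symm.zpow_left k).eq
  have hA3 : p ^ 3 ≤ Nat.card A := hB3.trans (card_le_of_le le_sup_right)
  have hAv : Cfsg.IsRankGraphVertex p 2 A := by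
    refine ⟨hA, (Nat.pow_le_pow_right hp.out.pos (by norm_num)).trans hA3,
      not_pRankLE_of_le ?_ hA hA3⟩
    have := hA.1
    exact le_centralizer A
  have hgoodA : ∀ x ∈ A, x ≠ 1 → Good p x := fun x hx h1 => ⟨orderOf_eq_of_mem hA hx h1,
    not_pRankLE_of_le (fun y hy => mem_centralizer_singleton_iff.mpr
      (congrArg Subtype.val (hA.1.1.comm ⟨y, hy⟩ ⟨x, hx⟩))) hA hA3⟩
  have hchain : ∀ E, Cfsg.IsRankGraphVertex p 2 E → gen θ E = gen θ A := by
    intro E hE
    have h := hconn A E hAv hE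
    clear hE
    induction h with
    | refl => rfl
    | tail _ h ih => rw [← step _ _ h.1 h.2.1 h.2.2, ih]
  set W := gen θ A with hW
  have hle : ∀ g : G, W.map (MulAut.conj g).toMonoidHom ≤ W := by
    intro g
    set c := (MulAut.conj g).toMonoidHom
    have hcinj : Function.Injective c := (MulAut.conj g).injective
    have hAg : Cfsg.IsElementaryAbelian p (A.map c) := by
      refine ⟨⟨⟨?_⟩⟩, ?_⟩
      · rintro ⟨_, x, hx, rfl⟩ ⟨_, y, hy, rfl⟩
        refine Subtype.ext ?_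
        show c x * c y = c y * c x
        rw [← map_mul, ← map_mul, show x * y = y * x from
          congrArg Subtype.val (hA.1.1.comm ⟨x, hx⟩ ⟨y, hy⟩)]
      · rintro _ ⟨x, hx, rfl⟩
        rw [← map_pow, hA.2 x hx, map_one]
    have hAg3 : p ^ 3 ≤ Nat.card ↥(A.map c) := by rwa [card_map_of_injective hcinj]
    have hv : Cfsg.IsRankGraphVertex p 2 (A.map c) := by
      refine ⟨hAg, (Nat.pow_le_pow_right hp.out.pos (by norm_num)).trans hAg3,
        not_pRankLE_of_le ?_ hAg hAg3⟩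
      have := hAg.1
      exact le_centralizer _
    rw [map_le_iff_le_comap]
    refine iSup_le fun x => ?_
    rw [← map_le_iff_le_comap, ← heq x.1 g (hgoodA x.1 x.2.1 x.2.2)]
    conv_rhs => rw [← hchain _ hv]
    exact le_iSup (fun y : {y : G // y ∈ A.map c ∧ y ≠ 1} => θ y.1)
      ⟨g * x.1 * g⁻¹, ⟨x.1, x.2.1, rfl⟩, fun h => x.2.2 (hcinj (h.trans (map_one c).symm))⟩
  have : W.Normal := ⟨fun w hw g => hle g ⟨w, hw, rfl⟩⟩
  have hWp : ¬ p ∣ Nat.card W :=
    (gen_eq hA (key A hA hA3) hA le_rfl ((Nat.pow_le_pow_right hp.out.pos (by norm_num)).trans hA3)).2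
  have hW1 : W ≤ Cfsg.pPrimeCore p G :=
    Cores.le_pPrimeCore (hp.out.coprime_iff_not_dvd.mpr hWp).symm
  refine le_bot_iff.mp ((?_ : θ a ≤ W).trans (hW1.trans hO.le))
  exact le_iSup (fun y : {y : G // y ∈ A ∧ y ≠ 1} => θ y.1)
    ⟨a, (le_sup_left : zpowers a ≤ A) (mem_zpowers a), fun h => by
      have h1 := ha.1
      rw [h, orderOf_one] at h1
      exact hp.out.one_lt.ne h1⟩

/-! ### The functor `a ↦ O_{p'}(C(a))` -/

theorem centralizerPPrimeCore_conj (a g : G) :
    Cfsg.centralizerPPrimeCore p (g * a * g⁻¹) =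
      (Cfsg.centralizerPPrimeCore p a).map (MulAut.conj g).toMonoidHom := by
  set c := MulAut.conj g
  have hC : (centralizer ({a} : Set G)).map c.toMonoidHom = centralizer ({g * a * g⁻¹} : Set G) := by
    refine le_antisymm ?_ fun x hx => ?_
    · rintro _ ⟨x, hx, rfl⟩
      rw [mem_centralizer_singleton_iff]
      show c x * c a = c a * c x
      rw [← map_mul, ← map_mul, mem_centralizer_singleton_iff.mp hx]
    · refine ⟨c.symm x, mem_centralizer_singleton_iff.mpr (c.injective ?_), c.apply_symm_apply x⟩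
      rw [map_mul, map_mul, c.apply_symm_apply]
      exact mem_centralizer_singleton_iff.mp hx
  let e : ↥(centralizer ({a} : Set G)) ≃* ↥(centralizer ({g * a * g⁻¹} : Set G)) :=
    (MulEquiv.subgroupMap c _).trans (MulEquiv.subgroupCongr hC)
  show (Cfsg.pPrimeCore p _).map _ = ((Cfsg.pPrimeCore p _).map _).map _
  rw [← Cores.pPrimeCore_map_mulEquiv e, Subgroup.map_map, Subgroup.map_map]
  congr 1

theorem genFitting_eq_pCore_of_trivial {H : Type u} [Group H] [Finite H]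
    (hL : Cfsg.pLayer p H = ⊥) (hO : Cfsg.pPrimeCore p H = ⊥) :
    Cfsg.generalizedFittingSubgroup H = Cfsg.pCore p H := by
  refine Components.genFitting_eq_pCore_iff.mpr ?_
  have h := Components.isPConstrained_iff_pLayer.mpr hL
  rw [Cores.isPConstrained_iff] at h
  let e : H ⧸ Cfsg.pPrimeCore p H ≃* H :=
    (QuotientGroup.quotientMulEquivOfEq hO).trans QuotientGroup.quotientBot
  exact Components.genFitting_eq_pCore_iff.mp ((Components.genFitting_eq_pCore_congr e).mp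
    (Components.genFitting_eq_pCore_iff.mpr h))

/-- `S1295` from the completeness theorem. -/
theorem genFitting_centralizer (hcomp : CompleteHyp p G) (hO : Cfsg.pPrimeCore p G = ⊥)
    (hconn : Cfsg.IsRankGraphConnected p 2 G)
    (hL : ∀ a : G, Good p a → Cfsg.pLayer p ↥(centralizer ({a} : Set G)) = ⊥ ∧
      Group.IsSolvable ↥(Cfsg.centralizerPPrimeCore p a))
    (a : G) (ha : Good p a) :
    Cfsg.generalizedFittingSubgroup ↥(centralizer ({a} : Set G)) =
      Cfsg.pCore p ↥(centralizer ({a} : Set G)) := by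
  have h := eq_bot_of_complete (θ := fun x => Cfsg.centralizerPPrimeCore p x) hcomp hO hconn
    (fun x hx => ⟨H47.centralizerPPrimeCore_le x, H47.not_dvd_centralizerPPrimeCore x, (hL x hx).2⟩)
    (fun x g _ => centralizerPPrimeCore_conj x g)
    (fun x y hx hy hxy => H40.balance_of_constrained ⟨1, by rw [pow_one, ← hx.1, pow_orderOf_eq_one]⟩
      hxy (Components.isPConstrained_iff_pLayer.mpr (hL y hy).1)) a ha
  refine genFitting_eq_pCore_of_trivial (hL a ha).1 ?_
  rw [Cfsg.centralizerPPrimeCore, map_eq_bot_iff_of_injective _ (subtype_injective _)] at h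
  exact h

end Cfsg.Agent.Fusion.Signalizer
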