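import Cfsg.Agent.Fusion.Functor
import Cfsg.Agent.Fusion.CosetSum
import Cfsg.Agent.Cores.PCore
import Cfsg.Agent.H41.Basic

/-!
# Structure of a minimal failure of control of transfer

The reduction theorem of Glauberman: if functors on `p`-groups control transfer in every proper
section of `G` but not in `G`, then `G` is `p`-constrained with trivial `p'`-core, has a unique
maximal subgroup over a Sylow `p`-subgroup `S`, and every element of `S` outside `O_p(G)` fails the
Engel condition `[U, u, ..., u] ≤ V` (`p - 1` entries) on some chief factor below `O_p(G)`.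
-/

set_option autoImplicit false
set_option linter.unusedSectionVars false
set_option linter.style.haveILetI false

namespace Cfsg.Agent.Fusion

open Subgroup
open scoped commutatorElement

universe u

variable {𝓦 : Set (∀ (Q : Type u) [Group Q], Subgroup Q)} {p : ℕ} {G : Type u} [Group G]
  [Finite G] [Fact p.Prime]

theorem map_commutator_le {G H : Type u} [Group G] [Group H] (f : G →* H) :
    (commutator G).map f ≤ commutator H := by
  rw [commutator_def, map_commutator]
  exact commutator_mono le_top le_top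

/-- Control in a subgroup `K`, read in the ambient group. -/
theorem local_le_Tj (h𝓦 : ∀ W ∈ 𝓦, IsCharPFunctor.{u} p W) {K R : Subgroup G} (hRK : R ≤ K)
    (hR : IsPGroup p R) (hi : ¬ p ∣ R.relIndex K) (hK : Ctl 𝓦 p K) :
    ⁅K, K⁆ ⊓ R ≤ Tj 𝓦 R := by
  let R' : Sylow p K := (hR.comap_subtype (K := K)).toSylow hi
  have h1 : (R' : Subgroup K).map K.subtype = R := map_subgroupOf_eq_of_le hRK
  have h2 := (Subgroup.map_mono (hK R')).trans
    (map_Tj_le K.subtype K.subtype_injective h𝓦 R'.isPGroup')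
  rwa [map_inf_eq _ _ _ K.subtype_injective, map_subtype_commutator, h1] at h2

/-- Normalizers of `p`-subgroups map onto normalizers modulo a normal subgroup of order prime to
`p`. -/
theorem normalizer_map_mk'_of_coprime {E : Subgroup G} [E.Normal] (hE : ¬ p ∣ Nat.card E)
    {X : Subgroup G} (hXp : IsPGroup p X) :
    normalizer ((X.map (QuotientGroup.mk' E) : Subgroup (G ⧸ E)) : Set (G ⧸ E)) =
      (normalizer (X : Set G)).map (QuotientGroup.mk' E) := by
  set π := QuotientGroup.mk' E with hπdef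
  have hπ : Function.Surjective π := QuotientGroup.mk'_surjective E
  set N := normalizer (X : Set G) with hN
  refine le_antisymm ?_ (le_normalizer_map π)
  intro y hy
  obtain ⟨g, rfl⟩ := hπ y
  set Z := X ⊔ E with hZ
  have hXZ : X ≤ Z := le_sup_left
  obtain ⟨n, hn⟩ := IsPGroup.iff_card.mp hXp
  have hcardZ : ¬ p ∣ X.relIndex Z := by
    have e1 : Nat.card E * E.relIndex X = Nat.card Z := by
      rw [← relIndex_sup_right (H := X) (K := E), ← relIndex_bot_left (H := E),
        ← relIndex_bot_left (H := X ⊔ E), relIndex_mul_relIndex _ _ _ bot_le le_sup_right]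
    have e2 : Nat.card X * X.relIndex Z = Nat.card Z := by
      rw [← relIndex_bot_left (H := X), ← relIndex_bot_left (H := Z),
        relIndex_mul_relIndex _ _ _ bot_le hXZ]
    obtain ⟨c, hc⟩ := (relIndex_dvd_card E X)
    intro hd
    have h3 : E.relIndex X * (c * X.relIndex Z) = E.relIndex X * Nat.card E := by
      rw [← mul_assoc, ← hc, e2, ← e1, mul_comm]
    have h4 := Nat.eq_of_mul_eq_mul_left (Nat.pos_of_ne_zero (by
      intro h0; rw [h0, zero_mul] at hc; exact Nat.card_pos.ne' hc)) h3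
    exact hE (h4 ▸ hd.trans (dvd_mul_left _ c))
  have hgZ : X.map (MulAut.conj g).toMonoidHom ≤ Z := by
    rintro _ ⟨a, ha, rfl⟩
    have h4 : π g * π a * (π g)⁻¹ ∈ X.map π :=
      (mem_normalizer_iff.mp hy (π a)).mp ⟨a, ha, rfl⟩
    have h5 : g * a * g⁻¹ ∈ (X.map π).comap π := by simpa using h4
    rw [comap_map_eq, QuotientGroup.ker_mk'] at h5
    exact h5
  have hi2 : ¬ p ∣ (X.map (MulAut.conj g).toMonoidHom).relIndex Z := by
    have hc : Nat.card (X.map (MulAut.conj g).toMonoidHom) = Nat.card X :=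
      card_map_of_injective (MulAut.conj g).injective
    have e2 := relIndex_mul_relIndex ⊥ X Z bot_le hXZ
    rw [← relIndex_mul_relIndex ⊥ _ Z bot_le hgZ] at e2
    simp only [relIndex_bot_left, hc] at e2
    rwa [← Nat.eq_of_mul_eq_mul_left Nat.card_pos e2]
  let P₁ : Sylow p Z := (hXp.comap_subtype (K := Z)).toSylow hcardZ
  let P₂ : Sylow p Z := ((hXp.map (MulAut.conj g).toMonoidHom).comap_subtype (K := Z)).toSylow hi2
  obtain ⟨z, hz⟩ := MulAction.exists_smul_eq Z P₁ P₂
  have hzg : (z : G)⁻¹ * g ∈ N := by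
    rw [hN, mem_normalizer_iff_map_conj_eq]
    refine eq_of_le_of_card_ge ?_
      (card_map_of_injective (MulAut.conj ((z : G)⁻¹ * g)).injective).ge
    rintro _ ⟨a, ha, rfl⟩
    have h4 : (⟨g * a * g⁻¹, hgZ ⟨a, ha, rfl⟩⟩ : Z) ∈ (z • P₁ : Sylow p Z) := by
      rw [hz]; exact ⟨a, ha, rfl⟩
    rw [mem_sylow_smul] at h4
    have h5 : (z : G)⁻¹ * (g * a * g⁻¹) * z ∈ X := h4
    simpa [MulAut.conj_apply, mul_assoc] using h5
  have hg : g ∈ N ⊔ E := by
    have h4 : (z : G) ∈ N ⊔ E :=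
      (sup_le_sup_right (show X ≤ N from le_normalizer) E) z.2
    simpa using mul_mem h4 (mem_sup_left hzg)
  have h5 : π g ∈ (N ⊔ E).map π := ⟨g, hg, rfl⟩
  rwa [Subgroup.map_sup, QuotientGroup.map_mk'_self, sup_bot_eq] at h5

/-- A normal subgroup of order prime to `p` does not affect control of transfer. -/
theorem le_Tj_of_quotient_coprime (h𝓦 : ∀ W ∈ 𝓦, IsCharPFunctor.{u} p W) (S : Sylow p G)
    {E : Subgroup G} [E.Normal] (hE : ¬ p ∣ Nat.card E) (hq : Ctl 𝓦 p (G ⧸ E)) :
    commutator G ⊓ (S : Subgroup G) ≤ Tj 𝓦 (S : Subgroup G) := by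
  have hp : p.Prime := Fact.out
  set π := QuotientGroup.mk' E with hπdef
  have hπ : Function.Surjective π := QuotientGroup.mk'_surjective E
  have hone : ∀ {P : Subgroup G}, IsPGroup p P → ∀ x ∈ P, π x = 1 → x = 1 := by
    intro P hP x hx h1
    obtain ⟨k, hk⟩ := IsPGroup.iff_orderOf.mp hP ⟨x, hx⟩
    rw [Subgroup.orderOf_mk] at hk
    have h2 : orderOf x ∣ Nat.card E := E.orderOf_dvd_natCard ((QuotientGroup.eq_one_iff x).mp h1)
    exact orderOf_eq_one_iff.mp (Nat.eq_one_of_dvd_coprimes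
      ((hp.coprime_iff_not_dvd.mpr hE).pow_left k) (hk ▸ dvd_rfl) h2)
  let Sb : Sylow p (G ⧸ E) := S.mapSurjective hπ
  have hSb : (Sb : Subgroup (G ⧸ E)) = (S : Subgroup G).map π := rfl
  intro x hx
  obtain ⟨hx1, hx2⟩ := hx
  have h1 : π x ∈ Tj 𝓦 (Sb : Subgroup (G ⧸ E)) :=
    hq Sb ⟨map_commutator_le π ⟨x, hx1, rfl⟩, x, hx2, rfl⟩
  have h2 : Tj 𝓦 (Sb : Subgroup (G ⧸ E)) ≤ (Tj 𝓦 (S : Subgroup G)).map π := by
    refine iSup₂_le fun W hW => ?_
    rw [hSb, inducedFunctor_map_of_injOn (h𝓦 W hW) π S.isPGroup' (hone S.isPGroup')]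
    set X := inducedFunctor W (S : Subgroup G) with hX
    have hXp : IsPGroup p X := S.isPGroup'.to_le (inducedFunctor_le _)
    set N := normalizer (X : Set G) with hN
    have hNmap : normalizer ((X.map π : Subgroup (G ⧸ E)) : Set (G ⧸ E)) = N.map π :=
      normalizer_map_mk'_of_coprime hE hXp
    rw [hNmap, ← map_commutator]
    rintro y ⟨⟨s, hs, rfl⟩, n, hn, hns⟩
    refine ⟨s, le_Tj hW _ ⟨hs, ?_⟩, rfl⟩
    have hsN : s ∈ N := le_normalizer_inducedFunctor (h𝓦 W hW) S.isPGroup' hs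
    have hnN : n ∈ N := commutator_le_self N hn
    have he : n⁻¹ * s ∈ E := (QuotientGroup.eq (s := E)).mp hns
    let a := Abelianization.of (G := N)
    have h6 : a ⟨n, hnN⟩ = 1 := by
      have : (⟨n, hnN⟩ : N) ∈ commutator N := by
        rw [← map_subtype_commutator] at hn
        obtain ⟨n', hn', hnn⟩ := hn
        obtain rfl : n' = ⟨n, hnN⟩ := Subtype.ext hnn
        exact hn'
      exact Abelianization.commutator_subset_ker a this
    have h7 : a ⟨s, hsN⟩ = 1 := by
      have h8 : a ⟨s, hsN⟩ = a ⟨n⁻¹ * s, mul_mem (inv_mem hnN) hsN⟩ := by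
        rw [show (⟨n⁻¹ * s, mul_mem (inv_mem hnN) hsN⟩ : N) = (⟨n, hnN⟩ : N)⁻¹ * ⟨s, hsN⟩ from rfl,
          map_mul, map_inv, h6, inv_one, one_mul]
      refine orderOf_eq_one_iff.mp ?_
      obtain ⟨k, hk⟩ := IsPGroup.iff_orderOf.mp S.isPGroup' ⟨s, hs⟩
      rw [Subgroup.orderOf_mk] at hk
      refine Nat.eq_one_of_dvd_coprimes ((hp.coprime_iff_not_dvd.mpr hE).pow_left k)
        ((orderOf_map_dvd a _).trans (by rw [Subgroup.orderOf_mk, hk])) ?_
      rw [h8]
      refine (orderOf_map_dvd a _).trans ?_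
      rw [Subgroup.orderOf_mk]
      exact E.orderOf_dvd_natCard he
    have h9 : (⟨s, hsN⟩ : N) ∈ commutator N := (QuotientGroup.eq_one_iff _).mp h7
    rw [← map_subtype_commutator]
    exact ⟨_, h9, rfl⟩
  obtain ⟨t, ht, htx⟩ := h2 h1
  have hxt : t⁻¹ * x = 1 := hone S.isPGroup' _ (mul_mem (inv_mem (Tj_le _ ht)) hx2) (by
    rw [map_mul, map_inv, htx, inv_mul_cancel])
  rwa [← inv_mul_eq_one.mp hxt]

/-- `G` is a minimal failure of control of transfer by `𝓦`, seen at the Sylow subgroup `S`. -/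
structure MinimalFailure (𝓦 : Set (∀ (Q : Type u) [Group Q], Subgroup Q)) (S : Sylow p G) : Prop where
  functor : ∀ W ∈ 𝓦, IsCharPFunctor.{u} p W
  sub : ∀ K : Subgroup G, K ≠ ⊤ → Ctl 𝓦 p K
  quo : ∀ (R : Subgroup G) [R.Normal], R ≠ ⊥ → Ctl 𝓦 p (G ⧸ R)
  derived : ⁅(S : Subgroup G), (S : Subgroup G)⁆ ≤ Tj 𝓦 (S : Subgroup G)
  fails : ¬ commutator G ⊓ (S : Subgroup G) ≤ Tj 𝓦 (S : Subgroup G)

namespace MinimalFailure

variable {S : Sylow p G} (h : MinimalFailure 𝓦 S)

include h

theorem le_normalizer_Tj : (S : Subgroup G) ≤ normalizer ((Tj 𝓦 (S : Subgroup G) : Subgroup G) : Set G) :=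
  le_normalizer.trans (normalizer_le_normalizer_Tj h.functor S.isPGroup')

theorem proper_le {H : Subgroup G} (hH : H ≠ ⊤) (hSH : (S : Subgroup G) ≤ H) :
    ⁅H, H⁆ ⊓ (S : Subgroup G) ≤ Tj 𝓦 (S : Subgroup G) :=
  local_le_Tj h.functor hSH S.isPGroup'
    (fun hd => S.not_dvd_index (hd.trans (relIndex_dvd_index_of_le hSH))) (h.sub H hH)

theorem pCore_ne_bot : pCore p G ≠ ⊥ := by
  intro hQ
  refine h.fails (commutator_inf_le_of_local S (Tj_le _) h.le_normalizer_Tj ?_)
  intro U hUS hU hext hgood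
  have hK : normalizer (U : Set G) ≠ ⊤ := fun hn => by
    haveI := normalizer_eq_top_iff.mp hn
    exact hU (eq_bot_iff.mpr (hQ ▸ Cores.le_pCore (S.isPGroup'.to_le hUS)))
  set R := (S : Subgroup G) ⊓ normalizer (U : Set G) with hR
  have hRp : IsPGroup p R := S.isPGroup'.to_le inf_le_left
  intro a ha
  refine (iSup₂_le fun W hW => ?_ : Tj 𝓦 R ≤ Tj 𝓦 (S : Subgroup G))
    (local_le_Tj h.functor inf_le_right hRp hext (h.sub _ hK) ⟨ha.2, ha.1⟩)
  rcases lt_or_eq_of_le (inf_le_left : R ≤ (S : Subgroup G)) with hlt | heq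
  · have hRne : R ≠ ⊥ := fun hb => hU (eq_bot_iff.mpr (hb ▸ le_inf hUS le_normalizer))
    set U1 := inducedFunctor W R with hU1
    have h1 : LocallyIn (S : Subgroup G) (Tj 𝓦 (S : Subgroup G)) U1 := by
      refine hgood U1 ((inducedFunctor_le R).trans inf_le_left)
        (inducedFunctor_ne_bot (h.functor W hW) hRp hRne) ?_
      have h2 := ofSubgroupInfLt _ S.isPGroup' hlt
      refine lt_of_lt_of_le (Nat.lt_of_le_of_ne (card_le_of_le h2.le)
        fun he => h2.ne (eq_of_le_of_card_ge h2.le he.ge)) (card_le_of_le ?_)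
      exact inf_le_inf_left _ (normalizer_le_normalizer_inducedFunctor (h.functor W hW) hRp)
    exact fun y hy => h1 ⟨⟨(inf_le_left : R ≤ (S : Subgroup G)) hy.1,
      le_normalizer_inducedFunctor (h.functor W hW) hRp hy.1⟩, hy.2⟩
  · rw [show R = (S : Subgroup G) from heq]
    exact le_Tj hW _

section NotNormal

variable (hS : (S : Subgroup G) ≠ pCore p G)

include hS

theorem normalizer_ne_top : normalizer ((S : Subgroup G) : Set G) ≠ ⊤ := fun hn => by
  haveI := normalizer_eq_top_iff.mp hn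
  exact hS (le_antisymm (Cores.le_pCore S.isPGroup') (Cores.pCore_le_sylow S))

theorem commutator_inf_le_sup :
    commutator G ⊓ (S : Subgroup G) ≤ Tj 𝓦 (S : Subgroup G) ⊔ pCore p G := by
  set Q := pCore p G with hQ
  haveI : Q.Normal := normal_of_characteristic _
  have hQS : Q ≤ (S : Subgroup G) := Cores.pCore_le_sylow S
  set π := QuotientGroup.mk' Q with hπdef
  have hπ : Function.Surjective π := QuotientGroup.mk'_surjective Q
  let Sb : Sylow p (G ⧸ Q) := S.mapSurjective hπ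
  have hSb : (Sb : Subgroup (G ⧸ Q)) = (S : Subgroup G).map π := rfl
  have hSbne : (Sb : Subgroup (G ⧸ Q)) ≠ ⊥ := by
    rw [hSb]
    intro hb
    rw [Subgroup.map_eq_bot_iff, QuotientGroup.ker_mk'] at hb
    exact hS (le_antisymm hb hQS)
  have hTj : Tj 𝓦 (Sb : Subgroup (G ⧸ Q)) ≤ (Tj 𝓦 (S : Subgroup G)).map π := by
    refine iSup₂_le fun W hW => ?_
    set X := inducedFunctor W (Sb : Subgroup (G ⧸ Q)) with hX
    set L := (normalizer (X : Set (G ⧸ Q))).comap π with hL
    have hXS : X ≤ (S : Subgroup G).map π := (inducedFunctor_le _).trans hSb.le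
    have hLne : L ≠ ⊤ := by
      intro hLtop
      have hN : normalizer (X : Set (G ⧸ Q)) = ⊤ := by
        apply comap_injective hπ; rw [comap_top]; exact hLtop
      haveI : X.Normal := normalizer_eq_top_iff.mp hN
      haveI : (X.comap π).Normal := Subgroup.Normal.comap inferInstance π
      have h1 : X.comap π ≤ (S : Subgroup G) := by
        refine (comap_mono hXS).trans ?_
        rw [comap_map_eq, QuotientGroup.ker_mk']
        exact sup_le le_rfl hQS
      have h2 : X.comap π ≤ Q := Cores.le_pCore (S.isPGroup'.to_le h1)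
      refine inducedFunctor_ne_bot (h.functor W hW) Sb.isPGroup' hSbne ?_
      rw [← hX, ← map_comap_eq_self_of_surjective hπ X, Subgroup.map_eq_bot_iff, QuotientGroup.ker_mk']
      exact h2
    have hSL : (S : Subgroup G) ≤ L := by
      rw [hL, ← map_le_iff_le_comap, ← hSb]
      exact le_normalizer_inducedFunctor (h.functor W hW) Sb.isPGroup'
    rintro y ⟨hy1, hy2⟩
    obtain ⟨s, hs, rfl⟩ := hSb.le hy1
    rw [← map_comap_eq_self_of_surjective hπ (normalizer (X : Set (G ⧸ Q))), ← hL,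
      ← map_commutator] at hy2
    obtain ⟨l, hl, hls⟩ := hy2
    have hq : l⁻¹ * s ∈ (S : Subgroup G) := hQS ((QuotientGroup.eq (s := Q)).mp hls)
    have hlS : l ∈ (S : Subgroup G) := by simpa using mul_mem hs (inv_mem hq)
    exact ⟨l, h.proper_le hLne hSL ⟨hl, hlS⟩, hls⟩
  intro x hx
  have hQne : Q ≠ ⊥ := h.pCore_ne_bot
  have h1 := hTj (h.quo Q hQne Sb ⟨map_commutator_le π ⟨x, hx.1, rfl⟩, x, hx.2, rfl⟩)
  have h2 : x ∈ ((Tj 𝓦 (S : Subgroup G)).map π).comap π := h1
  rwa [comap_map_eq, QuotientGroup.ker_mk'] at h2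

theorem not_pCore_le : ¬ commutator G ⊓ pCore p G ≤ Tj 𝓦 (S : Subgroup G) := by
  intro hle
  refine h.fails fun x hx => ?_
  haveI : (pCore p G).Normal := normal_of_characteristic _
  have h1 : x ∈ ((Tj 𝓦 (S : Subgroup G) ⊔ pCore p G : Subgroup G) : Set G) :=
    h.commutator_inf_le_sup hS hx
  rw [mul_normal] at h1
  obtain ⟨t, ht, q, hq, rfl⟩ := Set.mem_mul.mp h1
  have hq' : q ∈ commutator G := by
    simpa using mul_mem (inv_mem (Tj_le_commutator _ ht)) hx.1
  exact mul_mem ht (hle ⟨hq', hq⟩)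

theorem commutator_le_Tj {H : Subgroup G} (hH : H ≠ ⊤) (hSH : (S : Subgroup G) ≤ H) :
    ⁅pCore p G, H⁆ ≤ pCore p G ⊓ Tj 𝓦 (S : Subgroup G) := by
  haveI : (pCore p G).Normal := normal_of_characteristic _
  have h1 : ⁅pCore p G, H⁆ ≤ pCore p G := commutator_le_left _ _
  refine le_inf h1 fun x hx => h.proper_le hH hSH ⟨?_, Cores.pCore_le_sylow S (h1 hx)⟩
  exact commutator_mono ((Cores.pCore_le_sylow S).trans hSH) le_rfl hx

theorem le_M {H : Subgroup G} (hH : H ≠ ⊤) (hSH : (S : Subgroup G) ≤ H) :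
    H ≤ normalizer ((Tj 𝓦 (S : Subgroup G) ⊓ pCore p G : Subgroup G) : Set G) := by
  haveI : (pCore p G).Normal := normal_of_characteristic _
  refine le_normalizer_iff.mpr fun g hg z hz => ?_
  have h1 : ⁅z, g⁆ ∈ pCore p G ⊓ Tj 𝓦 (S : Subgroup G) :=
    h.commutator_le_Tj hS hH hSH (commutator_mem_commutator hz.2 hg)
  have h2 : g * z * g⁻¹ = ⁅z, g⁆⁻¹ * z := by group
  rw [h2]
  exact ⟨Subgroup.mul_mem _ (Subgroup.inv_mem _ h1.2) hz.1,
    Subgroup.mul_mem _ (Subgroup.inv_mem _ h1.1) hz.2⟩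

/-- The homomorphism `S → S/T`. -/
theorem exists_theta : ∃ (A : Type u) (_ : CommGroup A) (θ : (S : Subgroup G) →* A), IsPGroup p A ∧
    ∀ z : (S : Subgroup G), θ z = 1 ↔ (z : G) ∈ Tj 𝓦 (S : Subgroup G) := by
  set T' := (Tj 𝓦 (S : Subgroup G)).subgroupOf (S : Subgroup G) with hT'
  haveI : T'.Normal := (normal_subgroupOf_iff_le_normalizer (Tj_le _)).mpr h.le_normalizer_Tj
  have hcomm : ∀ a b : (S : Subgroup G) ⧸ T', a * b = b * a := by
    intro a b
    obtain ⟨a, rfl⟩ := QuotientGroup.mk'_surjective T' a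
    obtain ⟨b, rfl⟩ := QuotientGroup.mk'_surjective T' b
    rw [← map_mul, ← map_mul]
    refine (QuotientGroup.eq (s := T')).mpr ?_
    have h1 := h.derived (commutator_mem_commutator (inv_mem b.2) (inv_mem a.2))
    rw [hT', mem_subgroupOf]
    convert h1 using 1
    simp only [commutatorElement_def, Subgroup.coe_mul, Subgroup.coe_inv]
    group
  exact ⟨(S : Subgroup G) ⧸ T',
    { (inferInstance : Group ((S : Subgroup G) ⧸ T')) with mul_comm := hcomm },
    QuotientGroup.mk' T', S.isPGroup'.to_quotient T', fun z => QuotientGroup.eq_one_iff (N := T') z⟩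

omit h hS in
theorem extendOne_invariant {A : Type u} [CommGroup A] {θ : (S : Subgroup G) →* A}
    (hθ : ∀ z : (S : Subgroup G), θ z = 1 ↔ (z : G) ∈ Tj 𝓦 (S : Subgroup G))
    {Q : Subgroup G} [Q.Normal] (hQS : Q ≤ (S : Subgroup G)) {M : Subgroup G}
    (hM : ⁅Q, M⁆ ≤ Tj 𝓦 (S : Subgroup G)) :
    ∀ m ∈ M, ∀ z ∈ Q, extendOne θ (m⁻¹ * z * m) = extendOne θ z := by
  intro m hm z hz
  have hz' : m⁻¹ * z * m ∈ Q := by
    simpa using Subgroup.Normal.conj_mem (inferInstance : Q.Normal) z hz m⁻¹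
  rw [extendOne_mem θ (hQS hz'), extendOne_mem θ (hQS hz), ← mul_inv_eq_one, ← map_inv, ← map_mul,
    hθ]
  have h1 : ⁅z, m⁻¹⁆ ∈ Tj 𝓦 (S : Subgroup G) := hM (commutator_mem_commutator hz (inv_mem hm))
  have h2 := inv_mem h1
  simpa [commutatorElement_def, mul_assoc] using h2

theorem M_ne_top : normalizer ((Tj 𝓦 (S : Subgroup G) ⊓ pCore p G : Subgroup G) : Set G) ≠ ⊤ := by
  intro htop
  set T := Tj 𝓦 (S : Subgroup G) with hT
  set Q := pCore p G with hQ
  haveI : Q.Normal := normal_of_characteristic _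
  haveI : (T ⊓ Q).Normal := normalizer_eq_top_iff.mp htop
  have hQS : Q ≤ (S : Subgroup G) := Cores.pCore_le_sylow S
  let π := QuotientGroup.mk' (T ⊓ Q)
  haveI : (Q.map π).Normal := Subgroup.Normal.map inferInstance π (QuotientGroup.mk'_surjective _)
  set K₀ := (centralizer ((Q.map π : Subgroup _) : Set (G ⧸ (T ⊓ Q)))).comap π with hK₀
  have hN : normalizer ((S : Subgroup G) : Set G) ≤ K₀ := by
    intro g hg
    refine mem_centralizer_iff.mpr ?_
    rintro _ ⟨z, hz, rfl⟩
    rw [← map_mul, ← map_mul]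
    refine (QuotientGroup.eq (s := T ⊓ Q)).mpr ?_
    have h1 : ⁅g⁻¹, z⁻¹⁆ ∈ Q ⊓ T := by
      have := h.commutator_le_Tj hS (h.normalizer_ne_top hS) le_normalizer
        (commutator_mem_commutator (inv_mem hz) (inv_mem hg))
      rw [← commutatorElement_inv]
      exact inv_mem this
    convert show ⁅g⁻¹, z⁻¹⁆ ∈ T ⊓ Q from ⟨h1.2, h1.1⟩ using 1
    simp only [commutatorElement_def]
    group
  have htop' : K₀ = ⊤ := by
    haveI : K₀.Normal := Subgroup.Normal.comap inferInstance π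
    rw [← Sylow.normalizer_sup_eq_top' S (le_normalizer.trans hN)]
    exact (sup_eq_right.mpr hN).symm
  have hcomm : ⁅Q, (⊤ : Subgroup G)⁆ ≤ T := commutator_le.mpr fun z hz g _ => by
    have hg : g⁻¹ ∈ K₀ := htop' ▸ mem_top _
    have h1 := mem_centralizer_iff.mp hg (π z⁻¹) ⟨z⁻¹, inv_mem hz, rfl⟩
    rw [← map_mul, ← map_mul] at h1
    have h2 := (QuotientGroup.eq (s := T ⊓ Q)).mp h1.symm
    have h5 : (g⁻¹ * z⁻¹)⁻¹ * (z⁻¹ * g⁻¹) ∈ T := h2.1
    have h6 : (g⁻¹ * z⁻¹)⁻¹ * (z⁻¹ * g⁻¹) = ⁅z, g⁆ := by group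
    rwa [h6] at h5
  obtain ⟨A, _, θ, hA, hθ⟩ := h.exists_theta hS
  refine h.not_pCore_le hS fun x hx => ?_
  letI : Fintype (G ⧸ (⊤ : Subgroup G)) := Fintype.ofFinite _
  have h1 := prod_coset_conj_eq_one S (M := ⊤) le_top hQS θ hA
    (extendOne_invariant hθ hQS hcomm) hx.2 hx.1
  haveI : Subsingleton (G ⧸ (⊤ : Subgroup G)) := QuotientGroup.subsingleton_quotient_top
  rw [Fintype.prod_subsingleton _ ((1 : G) : G ⧸ (⊤ : Subgroup G)),
    extendOne_invariant hθ hQS hcomm _ (mem_top _) x hx.2, extendOne_mem θ (hQS hx.2), hθ] at h1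
  exact h1

theorem le_M_self : (S : Subgroup G) ≤
    normalizer ((Tj 𝓦 (S : Subgroup G) ⊓ pCore p G : Subgroup G) : Set G) :=
  le_normalizer.trans (h.le_M hS (h.normalizer_ne_top hS) le_normalizer)

theorem engel {u : G} (hu : u ∈ (S : Subgroup G)) (huQ : u ∉ pCore p G) :
    ∃ U V : Subgroup G, IsChiefFactor U V ∧ U ≤ pCore p G ∧
      ¬ iterCommutator U (zpowers u) (p - 1) ≤ V := by
  by_contra hcon
  simp only [not_exists, not_and, not_not] at hcon
  set T := Tj 𝓦 (S : Subgroup G) with hT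
  set Q := pCore p G with hQ
  haveI hQn : Q.Normal := normal_of_characteristic _
  have hQS : Q ≤ (S : Subgroup G) := Cores.pCore_le_sylow S
  set M := normalizer ((T ⊓ Q : Subgroup G) : Set G) with hM
  have hMne : M ≠ ⊤ := h.M_ne_top hS
  have hSM : (S : Subgroup G) ≤ M := h.le_M_self hS
  obtain ⟨A, _, θ, hA, hθ⟩ := h.exists_theta hS
  have hinv := extendOne_invariant hθ hQS ((h.commutator_le_Tj hS hMne hSM).trans inf_le_right)
  set X := commutator G ⊓ Q with hX
  haveI : X.Normal := inferInstance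
  -- a maximal normal subgroup of `X` inside `T`
  obtain ⟨V, ⟨hVn, hVX, hVT⟩, hVmax⟩ := (Set.toFinite
    {N : Subgroup G | N.Normal ∧ N ≤ X ∧ N ≤ T}).exists_maximal ⟨⊥, inferInstance, bot_le, bot_le⟩
  have hVlt : V < X := lt_of_le_of_ne hVX fun he => h.not_pCore_le hS (le_trans he.ge hVT)
  obtain ⟨U, ⟨hUn, hVU, hUX⟩, hUmin⟩ := (Set.toFinite
    {N : Subgroup G | N.Normal ∧ V < N ∧ N ≤ X}).exists_minimal ⟨X, inferInstance, hVlt, le_rfl⟩
  haveI := hUn
  haveI := hVn
  have hUV : IsChiefFactor U V := ⟨hVU, hUn, hVn, fun N hN h1 h2 => by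
    rcases lt_or_eq_of_le h1 with h3 | h3
    · exact Or.inr (le_antisymm h2 (hUmin ⟨hN, h3, h2.trans hUX⟩ h2))
    · exact Or.inl h3.symm⟩
  have hUQ : U ≤ Q := hUX.trans inf_le_right
  have hUp : IsPGroup p U := (Cores.pCore_isPGroup (p := p) (G := G)).to_le hUQ
  have hu' : EngelProd p U V u := engelProd_of_iterCommutator hUV hUp (hcon U V hUV hUQ)
  set 𝒟 : Set G := {d | d ∈ (S : Subgroup G) ∧ EngelProd p U V d} with h𝒟
  set D := closure 𝒟 with hD
  have hDS : D ≤ (S : Subgroup G) := (closure_le _).mpr fun d hd => hd.1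
  have hSD : (S : Subgroup G) ≤ normalizer (D : Set G) := by
    intro s hs
    rw [mem_normalizer_iff_map_conj_eq]
    refine eq_of_le_of_card_ge ?_ (card_map_of_injective (MulAut.conj s).injective).ge
    rw [hD, MonoidHom.map_closure, closure_le]
    rintro _ ⟨d, ⟨hd1, hd2⟩, rfl⟩
    exact subset_closure ⟨mul_mem (mul_mem hs hd1) (inv_mem hs), hd2.conj s⟩
  have hNDne : normalizer (D : Set G) ≠ ⊤ := fun hn => by
    haveI := normalizer_eq_top_iff.mp hn
    exact huQ (Cores.le_pCore (S.isPGroup'.to_le hDS) (subset_closure ⟨hu, hu'⟩))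
  have hNDM : normalizer (D : Set G) ≤ M := h.le_M hS hNDne hSD
  refine hVU.not_ge (hVmax ⟨hUn, hUX, fun x hx => ?_⟩ hVU.le)
  letI : Fintype (G ⧸ M) := Fintype.ofFinite _
  have hxX := hUX hx
  have h1 := prod_coset_conj_eq_one S hSM hQS θ hA hinv hxX.2 hxX.1
  let F : G ⧸ M → G → A := fun b y => extendOne θ (b.out⁻¹ * y * b.out)
  have hconjU : ∀ (g y : G), y ∈ U → g⁻¹ * y * g ∈ U := fun g y hy => by
    simpa using hUn.conj_mem y hy g⁻¹
  have h2 := prod_eq_fixed (M := M) (U := U) (V := V) (𝒟 := 𝒟) (S.isPGroup'.to_le hDS)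
    (fun d hd => hd.2) F (b₀ := ((1 : G) : G ⧸ M)) ?hact ?hlin ?hV ?hfix ?hb₀ hx
  case hact =>
    intro g b y hy
    have hgb : g • b = ((g * b.out : G) : G ⧸ M) := by
      conv_lhs => rw [← QuotientGroup.out_eq' b]
      rfl
    obtain ⟨m, hm⟩ := QuotientGroup.mk_out_eq_mul M (g * b.out)
    change extendOne θ ((g • b).out⁻¹ * y * (g • b).out) =
      extendOne θ (b.out⁻¹ * (g⁻¹ * y * g) * b.out)
    rw [hgb, hm, ← hinv m m.2 (b.out⁻¹ * (g⁻¹ * y * g) * b.out)
      (hUQ (hconjU _ _ (hconjU g y hy)))]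
    congr 1
    group
  case hlin =>
    intro b l hl
    change extendOne θ (b.out⁻¹ * l.prod * b.out) = _
    have e1 : b.out⁻¹ * l.prod * b.out = MulAut.conj b.out⁻¹ l.prod := by simp [MulAut.conj_apply]
    rw [e1, map_list_prod, extendOne_list_prod θ _ (by
      intro z hz
      obtain ⟨y, hy, rfl⟩ := List.mem_map.mp hz
      simpa [MulAut.conj_apply] using hQS (hUQ (hconjU b.out y (hl y hy)))), List.map_map]
    congr 1
    exact List.map_congr_left fun y _ => by simp [F, MulAut.conj_apply]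
  case hV =>
    intro b y hy
    have hy' : b.out⁻¹ * y * b.out ∈ V := by simpa using hVn.conj_mem y hy b.out⁻¹
    change extendOne θ _ = 1
    rw [extendOne_mem θ (Tj_le _ (hVT hy')), hθ]
    exact hVT hy'
  case hb₀ =>
    intro d hd
    change ((d * 1 : G) : G ⧸ M) = ((1 : G) : G ⧸ M)
    rw [QuotientGroup.eq, mul_one, mul_one]
    exact inv_mem (hSM hd.1)
  case hfix =>
    intro b hb
    set g := b.out with hg
    have hgM : ∀ d ∈ D, g⁻¹ * d * g ∈ M := by
      intro d hd
      have hfixD : D ≤ MulAction.stabilizer G b := (closure_le _).mpr hb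
      have h3 : (d : G) • b = b := hfixD hd
      rw [← QuotientGroup.out_eq' b] at h3
      have h4 := (QuotientGroup.eq (s := M)).mp h3.symm
      simpa [mul_assoc, hg] using h4
    -- conjugate `g⁻¹ D g` back into `S` inside `M`
    have hDg : IsPGroup p (D.map (MulAut.conj g⁻¹).toMonoidHom) := (S.isPGroup'.to_le hDS).map _
    obtain ⟨R, hR⟩ := (hDg.comap_subtype (K := M)).exists_le_sylow
    obtain ⟨m, hm⟩ := MulAction.exists_smul_eq M R (S.subtype hSM)
    have hgm : (m : G) * g⁻¹ ∈ normalizer (D : Set G) := by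
      rw [mem_normalizer_iff_map_conj_eq]
      refine eq_of_le_of_card_ge ?_ (card_map_of_injective (MulAut.conj ((m : G) * g⁻¹)).injective).ge
      rw [hD, MonoidHom.map_closure, closure_le]
      rintro _ ⟨d, hd, rfl⟩
      refine subset_closure ⟨?_, hd.2.conj _⟩
      have hdM : g⁻¹ * d * g ∈ M := hgM d (subset_closure hd)
      have h3 : (⟨g⁻¹ * d * g, hdM⟩ : M) ∈ R :=
        hR ⟨d, subset_closure hd, by simp [MulAut.conj_apply]⟩
      have h4 : m * ⟨g⁻¹ * d * g, hdM⟩ * m⁻¹ ∈ (m • R : Sylow p M) := by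
        rw [mem_sylow_smul]
        simpa [mul_assoc] using h3
      rw [hm] at h4
      have h5 : (m : G) * (g⁻¹ * d * g) * (m : G)⁻¹ ∈ (S : Subgroup G) := h4
      simpa [MulAut.conj_apply, mul_assoc] using h5
    have hgM' : g ∈ M := by
      have h6 := mul_mem (inv_mem (hNDM hgm)) m.2
      simpa using h6
    rw [← QuotientGroup.out_eq' b, QuotientGroup.eq, mul_one]
    exact inv_mem hgM'
  rw [show (∏ b : G ⧸ M, F b x) = 1 from h1] at h2
  obtain ⟨m, hm⟩ := QuotientGroup.mk_out_eq_mul M (1 : G)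
  change 1 = extendOne θ (((1 : G) : G ⧸ M).out⁻¹ * x * ((1 : G) : G ⧸ M).out) at h2
  rw [hm, one_mul, hinv m m.2 x hxX.2, extendOne_mem θ (hQS hxX.2), eq_comm, hθ] at h2
  exact h2

end NotNormal

theorem centralizer_le : centralizer ((pCore p G : Subgroup G) : Set G) ≤ pCore p G := by
  have hp : p.Prime := Fact.out
  set Q := pCore p G with hQ
  haveI : Q.Normal := normal_of_characteristic _
  set C := centralizer (Q : Set G) with hC
  have hQS : Q ≤ (S : Subgroup G) := Cores.pCore_le_sylow S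
  have hSC : (S : Subgroup G) ⊓ C ≤ Q := by
    by_cases hS : (S : Subgroup G) = Q
    · exact inf_le_left.trans hS.le
    set T := Tj 𝓦 (S : Subgroup G) with hT
    set M := normalizer ((T ⊓ Q : Subgroup G) : Set G) with hM
    have hCS : (S : Subgroup G) ⊔ C ≠ ⊤ := by
      intro htop
      refine h.M_ne_top hS (eq_top_iff.mpr ?_)
      rw [← htop]
      refine sup_le (h.le_M_self hS) fun c hc => ?_
      rw [mem_normalizer_iff]
      intro z
      constructor
      · intro hz
        have := mem_centralizer_iff.mp hc z hz.2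
        rwa [← this, mul_inv_cancel_right]
      · intro hz
        have := mem_centralizer_iff.mp hc _ hz.2
        have h1 : c * z * c⁻¹ = z := by
          calc c * z * c⁻¹ = c⁻¹ * (c * (c * z * c⁻¹)) := by group
            _ = c⁻¹ * (c * z * c⁻¹ * c) := by rw [this]
            _ = z := by group
        rwa [h1] at hz
    obtain ⟨R, hR⟩ := Agent.H41.exists_sylow_map_eq_inf S C
    have htop := Sylow.normalizer_sup_eq_top R
    rw [hR] at htop
    by_contra hnot
    have hne : normalizer (((S : Subgroup G) ⊓ C : Subgroup G) : Set G) ≠ ⊤ := fun hn => by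
      haveI := normalizer_eq_top_iff.mp hn
      exact hnot (Cores.le_pCore (S.isPGroup'.to_le inf_le_left))
    have hSN : (S : Subgroup G) ≤ normalizer (((S : Subgroup G) ⊓ C : Subgroup G) : Set G) := by
      refine le_normalizer_iff.mpr fun s hs z hz => ⟨?_, ?_⟩
      · exact Subgroup.mul_mem _ (Subgroup.mul_mem _ hs hz.1) (Subgroup.inv_mem _ hs)
      · exact Subgroup.Normal.conj_mem (inferInstance : C.Normal) z hz.2 s
    apply h.M_ne_top hS
    rw [eq_top_iff, ← htop]
    exact sup_le (h.le_M hS hne hSN) (le_sup_right.trans (h.le_M hS hCS le_sup_left))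
  have hcc : normalizer (((S : Subgroup G) ⊓ C : Subgroup G).subgroupOf C : Set C) ≤
      centralizer (((S : Subgroup G) ⊓ C : Subgroup G).subgroupOf C : Set C) := fun c _ =>
    mem_centralizer_iff.mpr fun z hz => Subtype.ext (mem_centralizer_iff.mp c.2 (z : G) (hSC hz))
  have hSylow : ¬ p ∣ (((S : Subgroup G) ⊓ C).subgroupOf C).index := by
    change ¬ p ∣ ((S : Subgroup G) ⊓ C).relIndex C
    rw [inf_relIndex_right]
    exact Agent.H41.not_dvd_relIndex_sylow S C
  let R : Sylow p C := ((S.isPGroup'.to_le (inf_le_left :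
    (S : Subgroup G) ⊓ C ≤ S)).comap_subtype (K := C)).toSylow hSylow
  have hcompl : HasNormalPComplement p C := hasNormalPComplement_of_normalizer_le_centralizer R hcc
  set E := (pResidual p C).map C.subtype with hE
  have hEcard : ¬ p ∣ Nat.card E := by
    rw [hE, card_map_of_injective C.subtype_injective]
    exact hasNormalPComplement_iff_pResidual.mp hcompl
  haveI : E.Normal := ConjAct.normal_of_characteristic_of_normal
  have hEbot : E = ⊥ := by
    by_contra hEne
    exact h.fails (le_Tj_of_quotient_coprime h.functor S hEcard (h.quo E hEne))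
  have hCp : IsPGroup p C := by
    have h1 : pResidual p C = ⊥ := (map_eq_bot_iff_of_injective _ C.subtype_injective).mp hEbot
    have h2 := isPGroup_quotient_pResidual (p := p) (G := C)
    exact h2.of_equiv ((QuotientGroup.quotientMulEquivOfEq h1).trans QuotientGroup.quotientBot)
  exact Cores.le_pCore hCp

end MinimalFailure

end Cfsg.Agent.Fusion
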