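import Cfsg.Prelude.Def_LocalEven
import Cfsg.Agent.Cores.PCore
import Cfsg.Agent.Fusion.PResidual
import Cfsg.Agent.Fusion.TransferControl
import Cfsg.Agent.Thompson.PStable
import Cfsg.Agent.Thompson.Forms
import Cfsg.Agent.H58.QdSylow
import Cfsg.Agent.H49.PStableFusion

/-!
Quotients of groups that are `p`-stable in the normalizer form: by normal subgroups of order prime
to `p`, and, for `p` odd, by normal `p`-subgroups centralised by all elements of order prime to `p`.
-/

set_option autoImplicit false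
set_option linter.style.haveILetI false
set_option linter.unusedSectionVars false

namespace Cfsg.Agent.Fusion.Stable

open Subgroup Matrix
open scoped commutatorElement

universe u

local notation "SL" => Matrix.SpecialLinearGroup (Fin 2)

variable {p : ℕ} {G : Type u} [Group G]

/-! ### Elements of order prime to `p` -/

theorem mem_of_pow_mem {H : Subgroup G} {x : G} (hx : (orderOf x).Coprime p) {k : ℕ}
    (h : x ^ p ^ k ∈ H) : x ∈ H := by
  have h1 : (orderOf x).Coprime (p ^ k) := hx.pow_right k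
  obtain ⟨m, hm⟩ := exists_pow_eq_self_of_coprime h1.symm
  exact hm ▸ pow_mem h m

theorem orderOf_map_coprime {H : Type*} [Group H] (f : G →* H) {x : G}
    (hx : (orderOf x).Coprime p) : (orderOf (f x)).Coprime p :=
  hx.coprime_dvd_left (orderOf_map_dvd f x)

/-- An element of order prime to `p` centralising `Q` and acting trivially on `b` modulo `Q`
centralises `b`. -/
theorem commute_of_coprime_series {Q : Subgroup G} (hQ : IsPGroup p Q) {d b : G}
    (hd : (orderOf d).Coprime p) (hdQ : d ∈ centralizer (Q : Set G))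
    (hc : b⁻¹ * (d * b * d⁻¹) ∈ Q) : Commute b d := by
  set c := b⁻¹ * (d * b * d⁻¹) with hcdef
  have hdc : Commute d c := (mem_centralizer_iff.mp hdQ c hc).symm
  have hdb : d * b = b * (c * d) := by rw [hcdef]; group
  have hn : ∀ m : ℕ, d ^ m * b = b * (c ^ m * d ^ m) := by
    intro m
    induction m with
    | zero => simp
    | succ m ih =>
      calc d ^ (m + 1) * b = d * (d ^ m * b) := by rw [pow_succ', mul_assoc]
        _ = (d * b) * (c ^ m * d ^ m) := by rw [ih, mul_assoc]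
        _ = b * (c * ((d * c ^ m) * d ^ m)) := by rw [hdb]; simp only [mul_assoc]
        _ = _ := by
          rw [(hdc.pow_right m).eq, pow_succ' c, pow_succ' d]
          simp only [mul_assoc]
  have h := hn (orderOf d)
  rw [pow_orderOf_eq_one, one_mul, mul_one] at h
  obtain ⟨j, hj⟩ := hQ ⟨c, hc⟩
  have hj' : c ^ p ^ j = 1 := congrArg Subtype.val hj
  have hc1 : c = 1 := orderOf_eq_one_iff.mp (Nat.eq_one_of_dvd_coprimes (hd.pow_right j)
    (orderOf_dvd_of_pow_eq_one (left_eq_mul.mp h)) (orderOf_dvd_of_pow_eq_one hj'))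
  show b * d = d * b
  rw [hdb, hc1, one_mul]

/-! ### The preimage of `O_p (G / C(B))` -/

theorem exists_pow_mem_of_mem_stabPre {B : Subgroup G} [B.Normal] {d : G}
    (hd : d ∈ Thompson.stabPre p B) : ∃ k : ℕ, d ^ p ^ k ∈ centralizer (B : Set G) := by
  obtain ⟨k, hk⟩ := Cores.pCore_isPGroup (p := p) ⟨_, hd⟩
  exact ⟨k, (QuotientGroup.eq_one_iff _).mp (congrArg Subtype.val hk)⟩

theorem le_stabPre_of_pow {B : Subgroup G} [B.Normal] (D : Subgroup G) [D.Normal]
    (h : ∀ d ∈ D, ∃ k : ℕ, d ^ p ^ k ∈ centralizer (B : Set G)) : D ≤ Thompson.stabPre p B := by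
  rw [Thompson.stabPre, ← map_le_iff_le_comap]
  haveI := Normal.map (H := D) inferInstance (QuotientGroup.mk' (centralizer (B : Set G)))
    (QuotientGroup.mk'_surjective _)
  refine Cores.le_pCore ?_
  rintro ⟨_, d, hd, rfl⟩
  obtain ⟨k, hk⟩ := h d hd
  exact ⟨k, Subtype.ext ((QuotientGroup.eq_one_iff _).mpr hk)⟩

/-- The stability applied to one `p`-subgroup. -/
theorem exists_local (hst : IsNormalizerPStable p G) {P : Subgroup G} (hP : IsPGroup p P) {a : G}
    (ha : a ∈ normalizer (P : Set G)) (hq : ⁅⁅P, zpowers a⁆, zpowers a⁆ = ⊥) :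
    ∃ D : Subgroup G, D ≤ normalizer (P : Set G) ∧ normalizer (P : Set G) ≤ normalizer (D : Set G) ∧
      a ∈ D ∧ ∀ d ∈ D, ∃ k : ℕ, d ^ p ^ k ∈ centralizer (P : Set G) := by
  set N := normalizer (P : Set G) with hN
  set D0 := (pCore p (N ⧸ (centralizer (P : Set G)).subgroupOf N)).comap (QuotientGroup.mk' _)
    with hD0
  haveI : D0.Normal := Normal.comap inferInstance _
  refine ⟨D0.map N.subtype, map_subtype_le _, fun n hn => mem_normalizer_iff.mpr fun d => ?_,
    ⟨⟨a, ha⟩, hst P hP a ha hq, rfl⟩, ?_⟩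
  · constructor
    · rintro ⟨e, he, rfl⟩
      exact ⟨⟨n, hn⟩ * e * ⟨n, hn⟩⁻¹, Normal.conj_mem ‹D0.Normal› e he _, by simp⟩
    · rintro ⟨e, he, hed⟩
      refine ⟨⟨n, hn⟩⁻¹ * e * ⟨n, hn⟩, by simpa using Normal.conj_mem ‹D0.Normal› e he ⟨n, hn⟩⁻¹, ?_⟩
      change (e : G) = n * d * n⁻¹ at hed
      simp [hed]; group
  · rintro _ ⟨d, hd, rfl⟩
    obtain ⟨k, hk⟩ := Cores.pCore_isPGroup (p := p) ⟨_, hd⟩
    have h1 := (QuotientGroup.eq_one_iff _).mp (congrArg Subtype.val hk)
    refine ⟨k, ?_⟩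
    rw [mem_subgroupOf] at h1
    simpa using h1

theorem stableOnNormal_of_isNormalizerPStable (hst : IsNormalizerPStable p G) :
    Thompson.StableOnNormal p G := by
  intro B hBn hB a hq
  obtain ⟨D, -, hDn, haD, hD⟩ := exists_local hst hB (a := a)
    (by rw [normalizer_eq_top_iff.mpr hBn]; exact mem_top a) hq
  haveI : D.Normal := normalizer_eq_top_iff.mp
    (top_le_iff.mp (by rw [normalizer_eq_top_iff.mpr hBn] at hDn; exact hDn))
  exact le_stabPre_of_pow D hD haD

/-! ### Quotient by a subgroup of order prime to `p` -/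

theorem stableOnNormal_of_coprime_ker [Finite G] [Fact p.Prime] (hst : IsNormalizerPStable p G)
    {H : Type u} [Group H] [Finite H] (q : G →* H) (hq : Function.Surjective q)
    (hk : ¬ p ∣ Nat.card q.ker) : Thompson.StableOnNormal p H := by
  intro B hBn hB a hqa
  set K := B.comap q with hK
  haveI : K.Normal := hBn.comap q
  obtain ⟨T⟩ : Nonempty (Sylow p K) := inferInstance
  set P : Subgroup G := (T : Subgroup K).map K.subtype with hPdef
  have hP : IsPGroup p P := T.isPGroup'.map _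
  have hPK : P ≤ K := map_subtype_le _
  have hfr : normalizer (P : Set G) ⊔ K = ⊤ := Sylow.normalizer_sup_eq_top T
  have hPB : P.map q = B := by
    refine le_antisymm (map_le_iff_le_comap.mpr hPK) ?_
    intro b hb
    let σ : K →* B := q.subgroupComap B
    have hσ : Function.Surjective σ := q.subgroupComap_surjective_of_surjective B hq
    have h1 : ((T.mapSurjective hσ : Sylow p B) : Subgroup B) = ⊤ :=
      ((T.mapSurjective hσ).is_maximal' (hB.of_equiv topEquiv.symm) le_top).symm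
    rw [Sylow.coe_mapSurjective] at h1
    obtain ⟨t, ht, hte⟩ := h1.ge (mem_top (⟨b, hb⟩ : B))
    exact ⟨t, ⟨t, ht, rfl⟩, congrArg Subtype.val hte⟩
  have hsurj : ∀ y : H, ∃ n ∈ normalizer (P : Set G), q n = y := by
    intro y
    obtain ⟨g, rfl⟩ := hq y
    obtain ⟨n, hn, c, hc, rfl⟩ := mem_sup_of_normal_right.mp (hfr.ge (mem_top g))
    obtain ⟨t, ht, hte⟩ := hPB.ge (show q c ∈ B from hc)
    exact ⟨n * t, mul_mem hn (le_normalizer ht), by rw [map_mul, map_mul, hte]⟩
  obtain ⟨a, ha, rfl⟩ := hsurj a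
  have hle : ⁅P, zpowers a⁆ ≤ P := commutator_le.mpr fun x hx y hy => by
    have hy' : y ∈ normalizer (P : Set G) := zpowers_le.mpr ha hy
    rw [commutatorElement_def, mul_assoc x, mul_assoc x]
    exact mul_mem hx ((mem_normalizer_iff.mp hy' _).mp (inv_mem hx))
  have hinj : ∀ x ∈ P, q x = 1 → x = 1 := by
    intro x hx hx1
    obtain ⟨k, hk'⟩ := hP ⟨x, hx⟩
    exact orderOf_eq_one_iff.mp (Nat.eq_one_of_dvd_coprimes
      (((Fact.out : p.Prime).coprime_iff_not_dvd.mpr hk).pow_left k)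
      (orderOf_dvd_of_pow_eq_one (congrArg Subtype.val hk'))
      (q.ker.orderOf_dvd_natCard hx1))
  have hq0 : ⁅⁅P, zpowers a⁆, zpowers a⁆ = ⊥ := by
    refine (eq_bot_iff_forall _).mpr fun x hx => hinj x ?_ ?_
    · exact hle (commutator_mono hle le_rfl hx)
    · have h1 : q x ∈ (⁅⁅P, zpowers a⁆, zpowers a⁆).map q := mem_map_of_mem q hx
      rw [map_commutator, map_commutator, MonoidHom.map_zpowers, hPB, hqa] at h1
      exact h1
  obtain ⟨D, hDN, hND, haD, hD⟩ := exists_local hst hP ha hq0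
  haveI : (D.map q).Normal := ⟨fun d hd y => by
    obtain ⟨n, hn, rfl⟩ := hsurj y
    obtain ⟨e, he, rfl⟩ := hd
    exact ⟨n * e * n⁻¹, (mem_normalizer_iff.mp (hND hn) e).mp he, by simp⟩⟩
  refine le_stabPre_of_pow (D.map q) ?_ ⟨a, haD, rfl⟩
  rintro _ ⟨d, hd, rfl⟩
  obtain ⟨k, hk'⟩ := hD d hd
  refine ⟨k, mem_centralizer_iff.mpr ?_⟩
  rw [← hPB]
  rintro _ ⟨x, hx, rfl⟩
  rw [← map_pow, ← map_mul, mem_centralizer_iff.mp hk' x hx, map_mul]

/-! ### The natural module step -/

/-- No natural `SL₂ (p)`-module in the quotient by `Q`. -/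
theorem no_natural [Finite G] [Fact p.Prime] (hp : p ≠ 2) (hst : IsNormalizerPStable p G)
    (Q : Subgroup G) [Q.Normal] (hQp : IsPGroup p Q)
    (hcq : ∀ x : G, (orderOf x).Coprime p → x ∈ centralizer (Q : Set G))
    (M : Subgroup (G ⧸ Q)) (φ : M →* SL (ZMod p)) (hφ : Function.Surjective φ)
    (f : Multiplicative (Fin 2 → ZMod p) →* G ⧸ Q) (hf : Function.Injective f)
    (hconj : ∀ (m : M) (v : Fin 2 → ZMod p),
      (m : G ⧸ Q) * f (Multiplicative.ofAdd v) * (m : G ⧸ Q)⁻¹ =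
        f (Multiplicative.ofAdd ((φ m : Matrix (Fin 2) (Fin 2) (ZMod p)) *ᵥ v))) : False := by
  have hodd : Odd p := (Fact.out : p.Prime).odd_of_ne_two hp
  have h2 : (2 : ZMod p) ≠ 0 := by
    intro h
    have h' : ((2 : ℕ) : ZMod p) = 0 := by exact_mod_cast h
    rw [ZMod.natCast_eq_zero_iff] at h'
    exact hp ((Nat.prime_dvd_prime_iff_eq Fact.out Nat.prime_two).mp h')
  set q := QuotientGroup.mk' Q with hq
  set M0 := M.comap q with hM0
  set ψ : M0 →* SL (ZMod p) := φ.comp (q.subgroupComap M) with hψdef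
  have hψ : Function.Surjective ψ :=
    hφ.comp (q.subgroupComap_surjective_of_surjective M (QuotientGroup.mk'_surjective Q))
  have hact : ∀ (m : M0) (y : G) (v : Fin 2 → ZMod p), q y = f (Multiplicative.ofAdd v) →
      q ((m : G) * y * (m : G)⁻¹) =
        f (Multiplicative.ofAdd ((ψ m : Matrix (Fin 2) (Fin 2) (ZMod p)) *ᵥ v)) := by
    intro m y v hy
    rw [map_mul, map_mul, map_inv, hy]
    exact hconj (q.subgroupComap M m) v
  set C := centralizer (Q : Set G) with hC
  have hneg : ((-1 : SL (ZMod p)) : Matrix (Fin 2) (Fin 2) (ZMod p)) = -1 := by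
    rw [Matrix.SpecialLinearGroup.coe_neg, Matrix.SpecialLinearGroup.coe_one]
  -- a `2`-subgroup over `-1` and its normalizer
  set Z2 : Subgroup (SL (ZMod p)) := zpowers (-1) with hZ2
  haveI hZ2n : Z2.Normal := ⟨fun z hz g => by
    obtain ⟨k, rfl⟩ := hz
    have hc : Commute g (-1 : SL (ZMod p)) := (Commute.one_right g).neg_right
    show g * (-1 : SL (ZMod p)) ^ k * g⁻¹ ∈ Z2
    rw [(hc.zpow_right k).eq, mul_inv_cancel_right]
    exact ⟨k, rfl⟩⟩
  haveI : (Z2.comap ψ).Normal := hZ2n.comap ψ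
  haveI : Fact (Nat.Prime 2) := ⟨Nat.prime_two⟩
  obtain ⟨T⟩ : Nonempty (Sylow 2 (Z2.comap ψ)) := inferInstance
  set T2 : Subgroup M0 := (T : Subgroup (Z2.comap ψ)).map (Z2.comap ψ).subtype with hT2
  set N := normalizer (T2 : Set M0) with hN
  have hfr : N ⊔ Z2.comap ψ = ⊤ := Sylow.normalizer_sup_eq_top T
  have hT2Z : Z2 ≤ T2.map ψ := by
    have hσ : Function.Surjective (ψ.subgroupComap Z2) :=
      ψ.subgroupComap_surjective_of_surjective Z2 hψ
    have hZp : IsPGroup 2 Z2 := by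
      rintro ⟨z, k, rfl⟩
      refine ⟨1, Subtype.ext ?_⟩
      show ((-1 : SL (ZMod p)) ^ k) ^ (2 ^ 1) = 1
      rw [← zpow_natCast, ← _root_.zpow_mul, pow_one, mul_comm, _root_.zpow_mul, Nat.cast_ofNat, zpow_two,
        neg_mul_neg, one_mul, _root_.one_zpow]
    have h1 : ((T.mapSurjective hσ : Sylow 2 Z2) : Subgroup Z2) = ⊤ :=
      ((T.mapSurjective hσ).is_maximal' (hZp.of_equiv topEquiv.symm) le_top).symm
    rw [Sylow.coe_mapSurjective] at h1
    intro z hz
    obtain ⟨τ, hτ, hτe⟩ := h1.ge (mem_top (⟨z, hz⟩ : Z2))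
    exact ⟨τ, ⟨τ, hτ, rfl⟩, congrArg Subtype.val hτe⟩
  set ψN : N →* SL (ZMod p) := ψ.comp N.subtype with hψN
  have hψNs : Function.Surjective ψN := fun s => by
    obtain ⟨m, rfl⟩ := hψ s
    obtain ⟨n, hn, z, hz, rfl⟩ := mem_sup_of_normal_right.mp (hfr.ge (mem_top m))
    obtain ⟨τ, hτ, hτe⟩ := hT2Z (show ψ z ∈ Z2 from hz)
    exact ⟨⟨n * τ, mul_mem hn (le_normalizer hτ)⟩, by simp [hψN, hτe]⟩
  have hTC : ∀ τ ∈ T2, ((τ : M0) : G) ∈ C ∧ (orderOf ((τ : M0) : G)).Coprime p := by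
    intro τ hτ
    obtain ⟨j, hj⟩ := T.isPGroup'.map (Z2.comap ψ).subtype ⟨τ, hτ⟩
    have hd : orderOf ((τ : M0) : G) ∣ 2 ^ j := orderOf_dvd_of_pow_eq_one
      (congrArg (fun z : T2 => ((z : M0) : G)) hj)
    have hco : (orderOf ((τ : M0) : G)).Coprime p := (Nat.Coprime.pow_left j
      ((Nat.coprime_primes Nat.prime_two Fact.out).mpr (Ne.symm hp))).coprime_dvd_left hd
    exact ⟨hcq _ hco, hco⟩
  set E := f.range.comap q ⊓ C with hE
  have hEp : IsPGroup p E := by
    rintro ⟨e, ⟨w, hw⟩, heC⟩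
    have h1 : e ^ p ∈ Q := by
      refine (QuotientGroup.eq_one_iff _).mp ?_
      show q (e ^ p) = 1
      rw [map_pow, ← hw, ← map_pow]
      have : w ^ p = 1 := by
        refine Multiplicative.toAdd.injective ?_
        rw [toAdd_pow, toAdd_one]
        funext i; simp
      rw [this, map_one]
    obtain ⟨k, hk⟩ := hQp ⟨e ^ p, h1⟩
    refine ⟨k + 1, Subtype.ext ?_⟩
    show e ^ p ^ (k + 1) = 1
    rw [pow_succ', pow_mul]
    exact congrArg Subtype.val hk
  have hME : ∀ m : M0, ∀ e ∈ E, (m : G) * e * (m : G)⁻¹ ∈ E := by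
    rintro m e ⟨⟨w, hw⟩, heC⟩
    refine ⟨⟨_, (hact m e (Multiplicative.toAdd w) hw.symm).symm⟩, ?_⟩
    exact Normal.conj_mem (inferInstance : C.Normal) e heC _
  obtain ⟨t, htT, ht⟩ := hT2Z (mem_zpowers (-1 : SL (ZMod p)))
  have htC : ((t : M0) : G) ∈ C := (hTC t htT).1
  have hcomm : ∀ c ∈ Q, ∀ m ∈ C, m * c = c * m := fun c hc m hm =>
    (mem_centralizer_iff.mp hm c hc).symm
  -- all elements of `T2` over `-1` act on `E` as `t`
  have hsame : ∀ τ ∈ T2, ψ τ = -1 → ∀ e ∈ E,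
      ((τ : M0) : G) * e * ((τ : M0) : G)⁻¹ = (t : G) * e * (t : G)⁻¹ := by
    intro τ hτ hτ1 e he
    set σ := t⁻¹ * τ with hσdef
    have hσ : σ ∈ T2 := mul_mem (inv_mem htT) hτ
    have hσ1 : ψ σ = 1 := by rw [hσdef, map_mul, map_inv, ht, hτ1, inv_mul_cancel]
    obtain ⟨w, hw⟩ := he.1
    have h1 := hact σ e (Multiplicative.toAdd w) hw.symm
    rw [hσ1, Matrix.SpecialLinearGroup.coe_one, Matrix.one_mulVec, ofAdd_toAdd] at h1
    have h2 : Commute e ((σ : M0) : G) := commute_of_coprime_series hQp (hTC σ hσ).2 (hTC σ hσ).1 (by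
      refine (QuotientGroup.eq_one_iff _).mp ?_
      show q _ = 1
      rw [map_mul, map_inv, h1, ← hw, inv_mul_cancel])
    rw [show (τ : G) = (t : G) * (σ : G) by simp [hσdef]]
    calc (t : G) * (σ : G) * e * ((t : G) * (σ : G))⁻¹
        = (t : G) * ((σ : G) * e) * ((σ : G)⁻¹ * (t : G)⁻¹) := by group
      _ = _ := by rw [← h2.eq]; group
  have hodd' : ∀ k ∈ Q, k * k = 1 → k = 1 := fun k hk hk2 => by
    obtain ⟨j, hj⟩ := hQp ⟨k, hk⟩
    exact orderOf_eq_one_iff.mp (Nat.eq_one_of_dvd_coprimes (Nat.Coprime.pow_right j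
      ((Nat.coprime_primes Nat.prime_two Fact.out).mpr (Ne.symm hp)))
      (orderOf_dvd_of_pow_eq_one (show k ^ 2 = 1 by rw [pow_two, hk2]))
      (orderOf_dvd_of_pow_eq_one (congrArg Subtype.val hj : k ^ p ^ j = 1)))
  have htQ : ∀ k ∈ Q, (t : G) * k * (t : G)⁻¹ = k := fun k hk => by
    rw [hcomm k hk t htC, mul_inv_cancel_right]
  -- inverted elements are determined by their images
  have huniq : ∀ y ∈ E, ∀ y' ∈ E, (t : G) * y * (t : G)⁻¹ = y⁻¹ → (t : G) * y' * (t : G)⁻¹ = y'⁻¹ →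
      q y = q y' → y = y' := by
    intro y hy y' _ hyt hyt' hqe
    obtain ⟨k, hk, rfl⟩ : ∃ k ∈ Q, y' = y * k :=
      ⟨y⁻¹ * y', QuotientGroup.eq.mp hqe, (mul_inv_cancel_left _ _).symm⟩
    have h1 : (y * k)⁻¹ = y⁻¹ * k := by
      rw [← hyt', ← hyt]
      calc (t : G) * (y * k) * (t : G)⁻¹ = (t : G) * y * (t : G)⁻¹ * ((t : G) * k * (t : G)⁻¹) := by group
        _ = _ := by rw [htQ k hk]
    have hyi : y⁻¹ ∈ C := inv_mem hy.2
    rw [_root_.mul_inv_rev, hcomm k hk _ hyi] at h1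
    have h2 := mul_right_cancel h1
    rw [hodd' k hk (inv_eq_iff_mul_eq_one.mp h2), mul_one]
  -- the inverted element of a coset
  have hfix : ∀ y ∈ E, ∃ z ∈ zpowers ((t : G) * y * (t : G)⁻¹ * y), z ∈ Q ∧ y * z ∈ E ∧
      (t : G) * (y * z) * (t : G)⁻¹ = (y * z)⁻¹ ∧ q (y * z) = q y := by
    intro y hy
    set c := (t : G) * y * (t : G)⁻¹ * y with hcdef
    obtain ⟨w, hw⟩ := hy.1
    have hcE : c ∈ E := mul_mem (hME t y hy) hy
    have hcQ : c ∈ Q := (QuotientGroup.eq_one_iff _).mp (by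
      show q c = 1
      rw [hcdef, map_mul, hact t y (Multiplicative.toAdd w) hw.symm, ← hw, ← ofAdd_toAdd w, ← map_mul,
        ht, hneg, Matrix.neg_mulVec, Matrix.one_mulVec, ← ofAdd_add, toAdd_ofAdd, neg_add_cancel,
        ofAdd_zero, map_one])
    obtain ⟨j, hj⟩ : Odd (orderOf c) := by
      obtain ⟨k, hk⟩ := hQp ⟨c, hcQ⟩
      exact hodd.pow.of_dvd_nat (orderOf_dvd_of_pow_eq_one (congrArg Subtype.val hk : c ^ p ^ k = 1))
    set z := (c⁻¹) ^ (j + 1) with hzdef
    have hz2 : z * z = c⁻¹ := by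
      rw [hzdef, ← pow_add, show j + 1 + (j + 1) = orderOf c + 1 by omega, pow_succ, inv_pow,
        pow_orderOf_eq_one, inv_one, one_mul]
    have hzQ : z ∈ Q := pow_mem (inv_mem hcQ) _
    refine ⟨z, pow_mem (inv_mem (mem_zpowers c)) _, hzQ, mul_mem hy (pow_mem (inv_mem hcE) _), ?_, ?_⟩
    · refine eq_inv_of_mul_eq_one_left ?_
      calc (t : G) * (y * z) * (t : G)⁻¹ * (y * z)
          = (t : G) * y * (t : G)⁻¹ * ((t : G) * z * (t : G)⁻¹) * y * z := by group
        _ = (t : G) * y * (t : G)⁻¹ * (z * y) * z := by rw [htQ z hzQ]; group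
        _ = (t : G) * y * (t : G)⁻¹ * (y * z) * z := by rw [hcomm z hzQ y hy.2]
        _ = c * (z * z) := by rw [hcdef]; group
        _ = 1 := by rw [hz2, mul_inv_cancel]
    · rw [map_mul, show q z = 1 from (QuotientGroup.eq_one_iff _).mpr hzQ, mul_one]
  have hinv : ∀ v : Fin 2 → ZMod p, ∃ e ∈ E, (t : G) * e * (t : G)⁻¹ = e⁻¹ ∧
      q e = f (Multiplicative.ofAdd v) := by
    intro v
    obtain ⟨y, hy⟩ := QuotientGroup.mk'_surjective Q
      (f (Multiplicative.ofAdd ((-(2 : ZMod p)⁻¹) • v)))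
    have hqe : q (y⁻¹ * ((t : G) * y * (t : G)⁻¹)) = f (Multiplicative.ofAdd v) := by
      rw [map_mul, map_inv, hact t y _ hy, hy, ← map_inv, ← map_mul, ht, hneg, ← ofAdd_neg,
        ← ofAdd_add, Matrix.neg_mulVec, Matrix.one_mulVec]
      congr 2
      rw [← neg_smul, ← add_smul]
      refine (congrArg (· • v) ?_).trans (one_smul _ v)
      field_simp
      ring
    have heE : y⁻¹ * ((t : G) * y * (t : G)⁻¹) ∈ E := ⟨⟨_, hqe.symm⟩, by
      have h := mul_mem (Normal.conj_mem (inferInstance : C.Normal) _ htC y⁻¹) (inv_mem htC)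
      simpa [mul_assoc] using h⟩
    obtain ⟨z, -, -, he, het, hez⟩ := hfix _ heE
    exact ⟨_, he, het, hez.trans hqe⟩
  set e1 : Fin 2 → ZMod p := ![1, 0] with he1
  set e2 : Fin 2 → ZMod p := ![0, 1] with he2
  obtain ⟨w, hwE, hwt, hwq⟩ := hinv e1
  obtain ⟨w', hwE', hwt', hwq'⟩ := hinv e2
  set d := w * w' * w⁻¹ * w'⁻¹ with hddef
  have hdQ : d ∈ Q := (QuotientGroup.eq_one_iff _).mp (by
    show q d = 1
    rw [hddef, map_mul, map_mul, map_mul, map_inv, map_inv, hwq, hwq', ← map_mul, ← ofAdd_add,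
      add_comm, ofAdd_add, map_mul, mul_inv_cancel_right, mul_inv_cancel])
  set E0 := closure ({w, w'} : Set G) with hE0
  have hE0E : E0 ≤ E := (closure_le _).mpr (Set.insert_subset hwE (Set.singleton_subset_iff.mpr hwE'))
  have hw0 : w ∈ E0 := subset_closure (Set.mem_insert _ _)
  have hw0' : w' ∈ E0 := subset_closure (Set.mem_insert_of_mem _ rfl)
  have hcover : ∀ v : Fin 2 → ZMod p, ∃ e ∈ E0, (t : G) * e * (t : G)⁻¹ = e⁻¹ ∧
      q e = f (Multiplicative.ofAdd v) := by
    intro v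
    obtain ⟨a, ha⟩ := ZMod.intCast_surjective (v 0)
    obtain ⟨b, hb⟩ := ZMod.intCast_surjective (v 1)
    have hy : w ^ a * w' ^ b ∈ E0 := mul_mem (zpow_mem hw0 a) (zpow_mem hw0' b)
    obtain ⟨z, hz, -, -, het, hez⟩ := hfix _ (hE0E hy)
    have htE : ∀ e ∈ E0, (t : G) * e * (t : G)⁻¹ ∈ E0 := by
      have hle : E0 ≤ E0.comap (MulAut.conj (t : G)).toMonoidHom :=
        (closure_le _).mpr (Set.insert_subset (show (t : G) * w * (t : G)⁻¹ ∈ E0 from hwt.symm ▸ inv_mem hw0)
          (Set.singleton_subset_iff.mpr (show (t : G) * w' * (t : G)⁻¹ ∈ E0 from hwt'.symm ▸ inv_mem hw0')))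
      exact fun e he => hle he
    refine ⟨_, mul_mem hy (zpowers_le.mpr (mul_mem (htE _ hy) hy) hz), het, hez.trans ?_⟩
    rw [map_mul, map_zpow, map_zpow, hwq, hwq', ← map_zpow f, ← map_zpow f, ← map_mul f, ← ofAdd_zsmul,
      ← ofAdd_zsmul, ← ofAdd_add]
    congr 2
    funext i
    fin_cases i <;> simp [he1, he2, ha, hb]
  -- the normalizer of `T2` stabilises `E0`
  have hNE : ∀ n ∈ N, ∀ y ∈ E, (t : G) * y * (t : G)⁻¹ = y⁻¹ →
      (n : G) * y * (n : G)⁻¹ ∈ E ∧
        (t : G) * ((n : G) * y * (n : G)⁻¹) * (t : G)⁻¹ = ((n : G) * y * (n : G)⁻¹)⁻¹ := by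
    intro n hn y hy hyt
    refine ⟨hME n y hy, ?_⟩
    have hτ : n⁻¹ * t * n ∈ T2 := by
      have h := (mem_normalizer_iff.mp (inv_mem hn) t).mp htT
      rwa [inv_inv] at h
    have hτ1 : ψ (n⁻¹ * t * n) = -1 := by
      have hc : Commute (ψ n)⁻¹ (-1 : SL (ZMod p)) := (Commute.one_right _).neg_right
      rw [map_mul, map_mul, map_inv, ht, hc.eq, mul_assoc, inv_mul_cancel, mul_one]
    have h := hsame _ hτ hτ1 y hy
    rw [hyt] at h
    calc (t : G) * ((n : G) * y * (n : G)⁻¹) * (t : G)⁻¹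
        = (n : G) * (((n⁻¹ * t * n : M0) : G) * y * ((n⁻¹ * t * n : M0) : G)⁻¹) * (n : G)⁻¹ := by
          simp only [Subgroup.coe_mul, Subgroup.coe_inv]; group
      _ = _ := by rw [h]; group
  have hN0 : ∀ n ∈ N, ∀ e ∈ E0, (n : G) * e * (n : G)⁻¹ ∈ E0 := by
    intro n hn
    have hgen : ∀ y ∈ E, (t : G) * y * (t : G)⁻¹ = y⁻¹ → (n : G) * y * (n : G)⁻¹ ∈ E0 := by
      intro y hy hyt
      obtain ⟨h1, h2⟩ := hNE n hn y hy hyt
      obtain ⟨v, hv⟩ := h1.1
      obtain ⟨e, he, het, heq⟩ := hcover (Multiplicative.toAdd v)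
      rw [huniq _ h1 e (hE0E he) h2 het (by rw [heq, ofAdd_toAdd, hv])]
      exact he
    have hle : E0 ≤ E0.comap (MulAut.conj (n : G)).toMonoidHom :=
      (closure_le _).mpr (Set.insert_subset (hgen w hwE hwt)
        (Set.singleton_subset_iff.mpr (hgen w' hwE' hwt')))
    exact fun e he => hle he
  have hMN : ∀ n : N, ((n : M0) : G) ∈ normalizer (E0 : Set G) := fun n => mem_normalizer_iff.mpr
    fun e => ⟨hN0 n n.2 e, fun he => by simpa [mul_assoc] using hN0 (n : M0)⁻¹ (inv_mem n.2) _ he⟩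
  obtain ⟨xn, hxn⟩ := hψNs (H58.Qd.upper 1)
  set x : G := ((xn : M0) : G) with hxdef
  have hψx : ψ (xn : M0) = H58.Qd.upper 1 := hxn
  have hupper1 : (H58.Qd.upper (1 : ZMod p) : Matrix (Fin 2) (Fin 2) (ZMod p)) *ᵥ e1 = e1 := by
    funext i; fin_cases i <;> simp [he1, H58.Qd.upper_coe, dotProduct, Fin.sum_univ_two]
  have hupper2 : (H58.Qd.upper (1 : ZMod p) : Matrix (Fin 2) (Fin 2) (ZMod p)) *ᵥ e2 = e1 + e2 := by
    funext i; fin_cases i <;> simp [he1, he2, H58.Qd.upper_coe, dotProduct, Fin.sum_univ_two]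
  have hxw : x * w * x⁻¹ = w := by
    obtain ⟨h1, h2⟩ := hNE _ xn.2 w hwE hwt
    exact huniq _ h1 w hwE h2 hwt (by rw [hact _ w e1 hwq, hψx, hupper1, hwq])
  have hww : w * w' = d * (w' * w) := by rw [hddef]; group
  have hcd : ∀ e ∈ E, Commute e d := fun e he => hcomm d hdQ e he.2
  have hcw : w * w' * w⁻¹ = d * w' := by rw [hww]; group
  obtain ⟨r, hr, hxw'⟩ : ∃ r ∈ zpowers d, x * w' * x⁻¹ = w * w' * r := by
    obtain ⟨h1, h2⟩ := hNE _ xn.2 w' hwE' hwt'
    obtain ⟨z, hz, -, hzE, hzt, hzq⟩ := hfix _ (mul_mem hwE hwE')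
    refine ⟨z, ?_, huniq _ h1 _ hzE h2 hzt ?_⟩
    · have hc : (t : G) * (w * w') * (t : G)⁻¹ * (w * w') = d := by
        calc (t : G) * (w * w') * (t : G)⁻¹ * (w * w')
            = (t : G) * w * (t : G)⁻¹ * ((t : G) * w' * (t : G)⁻¹) * (w * w') := by group
          _ = w⁻¹ * w'⁻¹ * (d * (w' * w)) := by rw [hwt, hwt', hww]
          _ = (w' * w)⁻¹ * ((w' * w) * d) := by
              rw [(hcd _ (mul_mem hwE' hwE)).eq]; group
          _ = d := inv_mul_cancel_left _ _
      rwa [hc] at hz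
    · rw [hzq, hact _ w' e2 hwq', hψx, hupper2, map_mul, hwq, hwq', ← map_mul, ← ofAdd_add]
  have hrQ : r ∈ Q := zpowers_le.mpr hdQ hr
  have hxd : x * d * x⁻¹ = d := by
    calc x * d * x⁻¹ = (x * w * x⁻¹) * (x * w' * x⁻¹) * (x * w * x⁻¹)⁻¹ * (x * w' * x⁻¹)⁻¹ := by
          rw [hddef]; group
      _ = w * (w * w') * (r * w⁻¹) * r⁻¹ * w'⁻¹ * w⁻¹ := by rw [hxw, hxw']; group
      _ = w * (w * w') * (w⁻¹ * r) * r⁻¹ * w'⁻¹ * w⁻¹ := by
          rw [← hcomm r hrQ _ (inv_mem hwE.2)]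
      _ = w * d * w⁻¹ := by rw [hddef]; group
      _ = d := by rw [(hcd w hwE).eq, mul_inv_cancel_right]
  set A := closure ({w, d} : Set G) with hA
  have hwA : w ∈ A := subset_closure (Set.mem_insert _ _)
  have hdA : d ∈ A := subset_closure (Set.mem_insert_of_mem _ rfl)
  have hxA : ∀ a ∈ A, x * a * x⁻¹ = a := by
    have hle : A ≤ centralizer ({x} : Set G) := (closure_le _).mpr (Set.insert_subset
      (mem_centralizer_singleton_iff.mpr (mul_inv_eq_iff_eq_mul.mp hxw).symm)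
      (Set.singleton_subset_iff.mpr (mem_centralizer_singleton_iff.mpr (mul_inv_eq_iff_eq_mul.mp hxd).symm)))
    intro a ha
    rw [← mem_centralizer_singleton_iff.mp (hle ha), mul_inv_cancel_right]
  have hE0A : ∀ e ∈ E0, ∀ a ∈ A, e * a * e⁻¹ ∈ A := by
    have hde : ∀ e ∈ E, e * d * e⁻¹ ∈ A := fun e he => by
      rw [(hcd e he).eq, mul_inv_cancel_right]; exact hdA
    have h1 : ∀ e, e ∈ E → e * w * e⁻¹ ∈ A → ∀ a ∈ A, e * a * e⁻¹ ∈ A := by
      intro e he hew
      have hle : A ≤ A.comap (MulAut.conj e).toMonoidHom :=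
        (closure_le _).mpr (Set.insert_subset hew (Set.singleton_subset_iff.mpr (hde e he)))
      exact fun a ha => hle ha
    have hgen : ∀ g ∈ ({w, w'} : Set G), (∀ a ∈ A, g * a * g⁻¹ ∈ A) ∧ ∀ a ∈ A, g⁻¹ * a * g ∈ A := by
      intro g hg
      obtain h | h : g = w ∨ g = w' := hg <;> rw [h]
      · exact ⟨h1 _ hwE (by simpa using hwA), fun a ha => by
          simpa using h1 _ (inv_mem hwE) (by simpa using hwA) a ha⟩
      · have hw1 : w' * w * w'⁻¹ ∈ A := by
          rw [show w' * w * w'⁻¹ = d⁻¹ * w by rw [hddef]; group]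
          exact mul_mem (inv_mem hdA) hwA
        have hw2 : w'⁻¹ * w * w'⁻¹⁻¹ ∈ A := by
          rw [inv_inv]
          have : w'⁻¹ * w * w' = d * w := by
            calc w'⁻¹ * w * w' = w'⁻¹ * (w * w' * w⁻¹) * w := by group
              _ = (w'⁻¹ * d) * (w' * w) := by rw [hcw]; group
              _ = _ := by rw [(hcd _ (inv_mem hwE')).eq]; group
          rw [this]
          exact mul_mem hdA hwA
        exact ⟨h1 _ hwE' hw1, fun a ha => by simpa using h1 _ (inv_mem hwE') hw2 a ha⟩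
    intro e he
    induction he using closure_induction'' with
    | mem g hg => exact (hgen g hg).1
    | inv_mem g hg => intro a ha; simpa using (hgen g hg).2 a ha
    | one => intro a ha; simpa using ha
    | mul g g' _ _ ih ih' =>
      intro a ha
      rw [show g * g' * a * (g * g')⁻¹ = g * (g' * a * g'⁻¹) * g⁻¹ by group]
      exact ih _ (ih' a ha)
  have hxE : ∀ e ∈ E0, x * e * x⁻¹ * e⁻¹ ∈ A := by
    intro e he
    induction he using closure_induction with
    | mem g hg =>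
      obtain h | h : g = w ∨ g = w' := hg <;> rw [h]
      · rw [hxw, mul_inv_cancel]; exact one_mem A
      · rw [hxw', mul_assoc (w * _) r, ← hcomm r hrQ _ (inv_mem hwE'.2), ← mul_assoc, mul_inv_cancel_right]
        exact mul_mem hwA (zpowers_le.mpr hdA hr)
    | one => simp
    | mul g g' hg _ ih ih' =>
      rw [show x * (g * g') * x⁻¹ * (g * g')⁻¹ =
        (x * g * x⁻¹ * g⁻¹) * (g * (x * g' * x⁻¹ * g'⁻¹) * g⁻¹) by group]
      exact mul_mem ih (hE0A g hg _ ih')
    | inv g hg ih =>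
      rw [show x * g⁻¹ * x⁻¹ * g⁻¹⁻¹ = g⁻¹ * (x * g * x⁻¹ * g⁻¹)⁻¹ * g by group]
      simpa using hE0A g⁻¹ (inv_mem hg) _ (inv_mem ih)
  have hquad : ⁅⁅E0, zpowers x⁆, zpowers x⁆ = ⊥ := by
    rw [commutator_eq_bot_iff_le_centralizer]
    have hle : ⁅E0, zpowers x⁆ ≤ A := by
      refine commutator_le.mpr fun e he y hy => ?_
      obtain ⟨n, rfl⟩ := (mem_powers_iff_mem_zpowers (x := x)).mpr hy
      have hn : ∀ n : ℕ, x ^ n * e * (x ^ n)⁻¹ * e⁻¹ ∈ A := by
        intro n
        induction n with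
        | zero => simp
        | succ n ihn =>
          rw [show x ^ (n + 1) * e * (x ^ (n + 1))⁻¹ * e⁻¹ =
            x * (x ^ n * e * (x ^ n)⁻¹ * e⁻¹) * x⁻¹ * (x * e * x⁻¹ * e⁻¹) by rw [pow_succ']; group]
          rw [hxA _ ihn]
          exact mul_mem ihn (hxE e he)
      rw [← commutatorElement_inv]
      exact inv_mem (hn n)
    refine hle.trans fun a ha => mem_centralizer_iff.mpr ?_
    rintro _ ⟨n, rfl⟩
    exact (Commute.zpow_left (show Commute x a from mul_inv_eq_iff_eq_mul.mp (hxA a ha)) n).eq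
  have hE0p : IsPGroup p E0 := hEp.to_le hE0E
  obtain ⟨D, hDN, hND, hxD, hD⟩ := exists_local hst hE0p (hMN xn) hquad
  set D1 := (D.subgroupOf M0).subgroupOf N with hD1
  set J := D1.map ψN with hJ
  haveI : D1.Normal := ⟨fun d hd m => by
    simp only [hD1, mem_subgroupOf] at hd ⊢
    simpa using (mem_normalizer_iff.mp (hND (hMN m)) _).mp hd⟩
  haveI hJn : J.Normal := Normal.map inferInstance ψN hψNs
  have hJp : IsPGroup p J := by
    rintro ⟨_, d, hd, rfl⟩
    obtain ⟨k, hk⟩ := hD ((d : M0) : G) hd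
    refine ⟨k, Subtype.ext ?_⟩
    show ψN d ^ p ^ k = 1
    rw [← map_pow]
    have hfix2 : ∀ v, (ψN (d ^ p ^ k) : Matrix (Fin 2) (Fin 2) (ZMod p)) *ᵥ v = v := by
      intro v
      obtain ⟨e, he, -, heq⟩ := hcover v
      have h1 := hact ((d ^ p ^ k : N) : M0) e v heq
      have h2 : (((d ^ p ^ k : N) : M0) : G) * e = e * (((d ^ p ^ k : N) : M0) : G) := by
        simp only [SubgroupClass.coe_pow]
        exact (mem_centralizer_iff.mp hk e he).symm
      rw [h2, mul_inv_cancel_right, heq] at h1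
      exact (Multiplicative.ofAdd.injective (hf h1)).symm
    apply Matrix.SpecialLinearGroup.ext
    intro i l
    have h := congrFun (hfix2 (Pi.single l 1)) i
    simp only [Matrix.mulVec_single_one, Matrix.col_apply] at h
    rw [h, Matrix.SpecialLinearGroup.coe_one, Matrix.one_apply, Pi.single_apply]
  have hJ1 := H58.Qd.toSL2_eq_one_of_normal hJn hJp
  have hmem : ψ (xn : M0) ∈ J := ⟨xn, hxD, rfl⟩
  rw [hJ1, mem_bot, hψx] at hmem
  exact one_ne_zero (α := ZMod p) (by
    have := congrArg (fun A : SL (ZMod p) => (A : Matrix (Fin 2) (Fin 2) (ZMod p)) 0 1) hmem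
    simpa [H58.Qd.upper_coe] using this)

theorem omegaCenterOf_ne_bot [Finite G] [Fact p.Prime] {B : Subgroup G} (hB : IsPGroup p B)
    (hB0 : B ≠ ⊥) : Thompson.omegaCenterOf p B ≠ ⊥ := by
  have : Nontrivial B := B.nontrivial_iff_ne_bot.mpr hB0
  have hc : Nontrivial (Subgroup.center B) := hB.center_nontrivial
  obtain ⟨m, hm0, hm⟩ := (hB.to_subgroup (Subgroup.center B)).nontrivial_iff_card.mp hc
  obtain ⟨y, hy⟩ := exists_prime_orderOf_dvd_card' p (G := Subgroup.center B)
    (hm ▸ dvd_pow_self p hm0.ne')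
  intro hV
  have hyV : ((y : B) : G) ∈ Thompson.omegaCenterOf p B :=
    ⟨(y : B).2, mem_centralizer_iff.mpr fun z hz =>
      congrArg Subtype.val (mem_center_iff.mp y.2 ⟨z, hz⟩), by
        rw [← SubgroupClass.coe_pow, ← SubgroupClass.coe_pow, ← hy, pow_orderOf_eq_one]; rfl⟩
  rw [hV, mem_bot] at hyV
  rw [show y = 1 from Subtype.ext (Subtype.ext hyV), orderOf_one] at hy
  exact (Fact.out : p.Prime).one_lt.ne hy

/-- A normal elementary abelian subgroup of the quotient is acted on `p`-stably. -/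
theorem mem_stabPre_elementary [Finite G] [Fact p.Prime] (hp : p ≠ 2)
    (hst : IsNormalizerPStable p G) (Q : Subgroup G) [Q.Normal] (hQp : IsPGroup p Q)
    (hcq : ∀ x : G, (orderOf x).Coprime p → x ∈ centralizer (Q : Set G))
    (V : Subgroup (G ⧸ Q)) [V.Normal] (hVc : IsMulCommutative V) (hVp : ∀ v ∈ V, v ^ p = 1)
    {a : G ⧸ Q} (hq : ⁅⁅V, zpowers a⁆, zpowers a⁆ = ⊥) : a ∈ Thompson.stabPre p V := by
  have hN : ∀ g : G ⧸ Q, g ∈ normalizer (V : Set (G ⧸ Q)) := fun g =>
    (normalizer_eq_top (H := V)).ge (mem_top g)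
  set π := QuotientGroup.mk' (centralizer (V : Set (G ⧸ Q))) with hπ
  by_cases hall : ∀ g : G ⧸ Q, IsPGroup p
      (closure ({π a, π g * π a * (π g)⁻¹} : Set ((G ⧸ Q) ⧸ centralizer (V : Set (G ⧸ Q)))))
  · obtain ⟨N, hN1, hN2, haN⟩ := Thompson.baer_suzuki (x := π a) (p := p) (fun y => by
      obtain ⟨g, rfl⟩ := QuotientGroup.mk'_surjective _ y; exact hall g)
    exact Cores.le_pCore (hN := hN1) hN2 haN
  push Not at hall
  obtain ⟨g, hg⟩ := hall
  have hqb : ⁅⁅V, zpowers (g * a * g⁻¹)⁆, zpowers (g * a * g⁻¹)⁆ = ⊥ := by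
    have h := congrArg (Subgroup.map (MulAut.conj g).toMonoidHom) hq
    rw [map_commutator, map_commutator, MonoidHom.map_zpowers,
      Thompson.map_conj_of_mem_normalizer (hN g), Subgroup.map_bot] at h
    exact h
  obtain ⟨M, φ, f, -, hφ, hf, -, hconj⟩ := Thompson.exists_natural_section hp hVc hVp
    (hN a) (hN _) hq hqb (by
    intro h
    apply hg
    rintro ⟨y, hy⟩
    have hy' : y ∈ (closure ({a, g * a * g⁻¹} : Set (G ⧸ Q))).map π := by
      rw [MonoidHom.map_closure, Set.image_pair, map_mul, map_mul, map_inv]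
      exact hy
    obtain ⟨z, hz, rfl⟩ := hy'
    obtain ⟨n, hn⟩ := h z hz
    exact ⟨n, Subtype.ext ((map_pow π z _).symm.trans ((QuotientGroup.eq_one_iff _).mpr hn))⟩)
  exact (no_natural hp hst Q hQp hcq M φ hφ f hf hconj).elim

/-- Elements of order prime to `p` in the stabiliser of the series `1 ≤ Q ≤ V`. -/
theorem mem_centralizer_of_stabPre_quotient {Q : Subgroup G} [Q.Normal] (hQ : IsPGroup p Q)
    {V : Subgroup (G ⧸ Q)} [V.Normal] {d : G}
    (hd : QuotientGroup.mk' Q d ∈ Thompson.stabPre p V) (hd1 : (orderOf d).Coprime p)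
    (hdQ : d ∈ centralizer (Q : Set G)) :
    d ∈ centralizer ((V.comap (QuotientGroup.mk' Q) : Subgroup G) : Set G) := by
  obtain ⟨k, hk⟩ := exists_pow_mem_of_mem_stabPre hd
  have hdV := mem_of_pow_mem (orderOf_map_coprime _ hd1) hk
  refine mem_centralizer_iff.mpr fun b hb => commute_of_coprime_series hQ hd1 hdQ ?_
  refine (QuotientGroup.eq_one_iff _).mp ?_
  show QuotientGroup.mk' Q _ = 1
  rw [map_mul, map_mul, map_mul, map_inv, map_inv,
    ← mem_centralizer_iff.mp hdV (QuotientGroup.mk' Q b) hb,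
    mul_inv_cancel_right, inv_mul_cancel]

/-- Stability of the action on a normal `p`-subgroup modulo a centralised `p`-subgroup. -/
theorem mem_stabPre_mod [Fact p.Prime] (hp : p ≠ 2) (n : ℕ) :
    ∀ (G : Type u) [Group G] [Finite G], IsNormalizerPStable p G → ∀ (Q : Subgroup G) [Q.Normal],
      IsPGroup p Q → (∀ x : G, (orderOf x).Coprime p → x ∈ centralizer (Q : Set G)) →
      ∀ (B : Subgroup G) [B.Normal], IsPGroup p B → Q ≤ B → Nat.card B - Nat.card Q ≤ n →
      ∀ a : G, ⁅⁅B, zpowers a⁆, zpowers a⁆ ≤ Q → a ∈ Thompson.stabPre p B := by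
  induction n using Nat.strong_induction_on with
  | _ n ih =>
  intro G _ _ hst Q _ hQ hcq B _ hB hQB hn a hqa
  by_cases hBQ : B = Q
  · subst hBQ
    refine le_stabPre_of_pow (⊤ : Subgroup G) (fun d _ => ?_) (mem_top a)
    obtain ⟨k, hk⟩ := exists_pow_coprime (p := p) d
    exact ⟨k, hcq _ hk⟩
  set q := QuotientGroup.mk' Q with hq
  haveI : (B.map q).Normal := Normal.map inferInstance q (QuotientGroup.mk'_surjective Q)
  set V := Thompson.omegaCenterOf p (B.map q) with hV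
  have hVB : V ≤ B.map q := fun x hx => hx.1
  have hVne : V ≠ ⊥ := omegaCenterOf_ne_bot (hB.map q) (by
    rw [Ne, Subgroup.map_eq_bot_iff, QuotientGroup.ker_mk']
    exact fun h => hBQ (le_antisymm h hQB))
  have hVc : IsMulCommutative V := Thompson.isMulCommutative_iff_forall.mpr fun x hx y hy =>
    (mem_centralizer_iff.mp hy.2.1 x hx.1)
  have hqV : ⁅⁅V, zpowers (q a)⁆, zpowers (q a)⁆ = ⊥ := by
    refine eq_bot_iff.mpr ((commutator_mono (commutator_mono hVB le_rfl) le_rfl).trans ?_)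
    rw [← MonoidHom.map_zpowers, ← map_commutator, ← map_commutator, map_le_iff_le_comap,
      MonoidHom.comap_bot, QuotientGroup.ker_mk']
    exact hqa
  have h1 : q a ∈ Thompson.stabPre p V :=
    mem_stabPre_elementary hp hst Q hQ hcq V hVc (fun v hv => hv.2.2) hqV
  set B1 := V.comap q with hB1
  have hB1B : B1 ≤ B := fun x hx => by
    have h := hVB hx
    rw [← mem_comap, comap_map_eq_self (by rwa [QuotientGroup.ker_mk'])] at h
    exact h
  have hQB1 : Q < B1 := by
    refine lt_of_le_of_ne (fun x hx => ?_) fun he => hVne ?_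
    · show q x ∈ V
      rw [show q x = 1 from (QuotientGroup.eq_one_iff x).mpr hx]
      exact one_mem _
    · have h := congrArg (Subgroup.map q) he
      rw [hB1, map_comap_eq_self_of_surjective (QuotientGroup.mk'_surjective Q)] at h
      rw [← h, Subgroup.map_eq_bot_iff, QuotientGroup.ker_mk']
  set D := (Thompson.stabPre p V).comap q with hD
  haveI : D.Normal := Normal.comap inferInstance q
  have hBD : B ≤ D := fun b hb => by
    refine Thompson.centralizer_le_stabPre V (mem_centralizer_iff.mpr fun v hv => ?_)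
    exact (mem_centralizer_iff.mp hv.2.1 (q b) ⟨b, hb, rfl⟩).symm
  have hcq1 : ∀ d ∈ D, (orderOf d).Coprime p → d ∈ centralizer (B1 : Set G) := fun d hd hd1 =>
    mem_centralizer_of_stabPre_quotient hQ (mem_comap.mp hd) hd1 (hcq d hd1)
  -- the smaller instance inside `D`
  have hlt : Nat.card ↥(B.subgroupOf D) - Nat.card ↥(B1.subgroupOf D) < n := by
    rw [Nat.card_congr (subgroupOfEquivOfLe hBD).toEquiv,
      Nat.card_congr (subgroupOfEquivOfLe (hB1B.trans hBD)).toEquiv]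
    have h2 : Nat.card Q < Nat.card B1 :=
      lt_of_le_of_ne (card_le_of_le hQB1.le) fun hc => hQB1.ne (eq_of_le_of_card_ge hQB1.le hc.ge)
    have h3 := card_le_of_le hB1B
    omega
  have hstD : IsNormalizerPStable p D :=
    H49.isNormalizerPStable_of_injective D.subtype D.subtype_injective hst
  have hB1p : IsPGroup p (B1.subgroupOf D) := (hB.to_le hB1B).comap_subtype
  have hBp : IsPGroup p (B.subgroupOf D) := hB.comap_subtype
  have hcqD : ∀ x : D, (orderOf x).Coprime p →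
      x ∈ centralizer ((B1.subgroupOf D : Subgroup D) : Set D) := fun x hx => by
    have hx' : (orderOf (x : G)).Coprime p := by rwa [Subgroup.orderOf_coe]
    exact mem_centralizer_iff.mpr fun y hy => Subtype.ext
      (mem_centralizer_iff.mp (hcq1 x x.2 hx') (y : G) hy)
  have hleD : B1.subgroupOf D ≤ B.subgroupOf D := comap_mono hB1B
  have hqD : ⁅⁅B.subgroupOf D, zpowers (⟨a, h1⟩ : D)⁆, zpowers (⟨a, h1⟩ : D)⁆ ≤ B1.subgroupOf D := by
    rw [← map_le_map_iff_of_injective D.subtype_injective, map_commutator, map_commutator,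
      MonoidHom.map_zpowers, map_subgroupOf_eq_of_le hBD,
      map_subgroupOf_eq_of_le (hB1B.trans hBD)]
    exact hqa.trans hQB1.le
  have h2 : (⟨a, h1⟩ : D) ∈ Thompson.stabPre p (B.subgroupOf D) :=
    ih _ hlt D hstD (B1.subgroupOf D) hB1p hcqD (B.subgroupOf D) hBp hleD le_rfl ⟨a, h1⟩ hqD
  -- back to the whole group
  set π := QuotientGroup.mk' (centralizer (B : Set G)) with hπ
  haveI hE : (D.map π).Normal := Normal.map inferInstance π (QuotientGroup.mk'_surjective _)
  set σ : D →* D.map π := π.subgroupMap D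
  set L := Thompson.stabPre p (B.subgroupOf D) with hL
  haveI : (L.map σ).Normal := Normal.map inferInstance σ (π.subgroupMap_surjective D)
  have hLp : IsPGroup p (L.map σ) := by
    rintro ⟨_, d, hd, rfl⟩
    obtain ⟨k, hk⟩ := exists_pow_mem_of_mem_stabPre hd
    refine ⟨k, Subtype.ext (Subtype.ext ?_)⟩
    show π (d : G) ^ p ^ k = 1
    rw [← map_pow]
    refine (QuotientGroup.eq_one_iff _).mpr (mem_centralizer_iff.mpr fun b hb => ?_)
    exact congrArg Subtype.val (mem_centralizer_iff.mp hk ⟨b, hBD hb⟩ hb)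
  exact Cores.map_pCore_le_of_normal (D.map π)
    ⟨σ ⟨a, h1⟩, Cores.le_pCore hLp ⟨⟨a, h1⟩, h2, rfl⟩, rfl⟩

/-- Stable action on the normal `p`-subgroups of a quotient. -/
theorem stableOnNormal_of_centralized_ker [Finite G] [Fact p.Prime] (hp : p ≠ 2)
    (hst : IsNormalizerPStable p G) {H : Type u} [Group H] [Finite H] (q : G →* H)
    (hq : Function.Surjective q) (hk : IsPGroup p q.ker)
    (hcq : ∀ x : G, (orderOf x).Coprime p → x ∈ centralizer (q.ker : Set G)) :
    Thompson.StableOnNormal p H := by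
  intro B hBn hB a hqa
  obtain ⟨a, rfl⟩ := hq a
  haveI : (B.comap q).Normal := hBn.comap q
  have hBp : IsPGroup p (B.comap q) := by
    rintro ⟨x, hx⟩
    obtain ⟨i, hi⟩ := hB ⟨q x, hx⟩
    have h1 : x ^ p ^ i ∈ q.ker := by
      rw [MonoidHom.mem_ker, map_pow]; exact congrArg Subtype.val hi
    obtain ⟨j, hj⟩ := hk ⟨x ^ p ^ i, h1⟩
    refine ⟨i + j, Subtype.ext ?_⟩
    show x ^ p ^ (i + j) = 1
    rw [pow_add, pow_mul]
    exact congrArg Subtype.val hj
  have h1 := mem_stabPre_mod hp (Nat.card ↥(B.comap q)) G hst q.ker hk hcq (B.comap q) hBp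
    (fun x hx => by rw [mem_comap, show q x = 1 from hx]; exact one_mem _) (Nat.sub_le _ _) a (by
      rw [← MonoidHom.comap_bot, ← map_le_iff_le_comap, map_commutator, map_commutator,
        MonoidHom.map_zpowers, map_comap_eq_self_of_surjective hq]
      exact hqa.le)
  haveI : ((Thompson.stabPre p (B.comap q)).map q).Normal := Normal.map inferInstance q hq
  refine le_stabPre_of_pow ((Thompson.stabPre p (B.comap q)).map q) ?_ ⟨a, h1, rfl⟩
  rintro _ ⟨d, hd, rfl⟩
  obtain ⟨k, hk'⟩ := exists_pow_mem_of_mem_stabPre hd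
  refine ⟨k, mem_centralizer_iff.mpr fun b hb => ?_⟩
  obtain ⟨b', rfl⟩ := hq b
  rw [← map_pow, ← map_mul, mem_centralizer_iff.mp hk' b' hb, map_mul]

/-- The quotient by a subgroup of order prime to `p` stays stable. -/
theorem isNormalizerPStable_quotient_coprime [Finite G] [Fact p.Prime]
    (hst : IsNormalizerPStable p G) (K : Subgroup G) [K.Normal] (hK : ¬ p ∣ Nat.card K) :
    IsNormalizerPStable p (G ⧸ K) := by
  intro P hP g hg hq
  refine Thompson.isNormalizerPStable_of_stable (fun N => ?_) P hP hg hq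
  set q := QuotientGroup.mk' K with hqdef
  refine stableOnNormal_of_coprime_ker
    (H49.isNormalizerPStable_of_injective (N.comap q).subtype (N.comap q).subtype_injective hst)
    (q.subgroupComap N)
    (q.subgroupComap_surjective_of_surjective N (QuotientGroup.mk'_surjective K)) fun hd => hK ?_
  have he : (q.subgroupComap N).ker = K.subgroupOf (N.comap q) := by
    ext x
    rw [MonoidHom.mem_ker, mem_subgroupOf, ← QuotientGroup.eq_one_iff (x : G)]
    exact ⟨fun h => congrArg Subtype.val h, fun h => Subtype.ext h⟩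
  rw [he, Nat.card_congr (subgroupOfEquivOfLe (fun x hx => by
    show q x ∈ N
    rw [show q x = 1 from (QuotientGroup.eq_one_iff x).mpr hx]
    exact one_mem N : K ≤ N.comap q)).toEquiv] at hd
  exact hd

/-- For `p` odd the quotient by a centralised normal `p`-subgroup stays stable. -/
theorem isNormalizerPStable_quotient_centralized [Finite G] [Fact p.Prime] (hp : p ≠ 2)
    (hst : IsNormalizerPStable p G) (Q : Subgroup G) [Q.Normal] (hQ : IsPGroup p Q)
    (hcq : ∀ x : G, (orderOf x).Coprime p → x ∈ centralizer (Q : Set G)) :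
    IsNormalizerPStable p (G ⧸ Q) := by
  intro P hP g hg hq
  refine Thompson.isNormalizerPStable_of_stable (fun N => ?_) P hP hg hq
  set q := QuotientGroup.mk' Q with hqdef
  have he : (q.subgroupComap N).ker = Q.subgroupOf (N.comap q) := by
    ext x
    rw [MonoidHom.mem_ker, mem_subgroupOf, ← QuotientGroup.eq_one_iff (x : G)]
    exact ⟨fun h => congrArg Subtype.val h, fun h => Subtype.ext h⟩
  refine stableOnNormal_of_centralized_ker hp
    (H49.isNormalizerPStable_of_injective (N.comap q).subtype (N.comap q).subtype_injective hst)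
    (q.subgroupComap N)
    (q.subgroupComap_surjective_of_surjective N (QuotientGroup.mk'_surjective Q))
    (he ▸ hQ.comap_subtype) fun x hx => ?_
  rw [he]
  exact mem_centralizer_iff.mpr fun y hy => Subtype.ext
    (mem_centralizer_iff.mp (hcq x (by rwa [Subgroup.orderOf_coe])) y hy)

end Cfsg.Agent.Fusion.Stable
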