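import Cfsg.Agent.Fusion.TransferControl
import Cfsg.Agent.Fusion.PResidual
import Cfsg.Agent.H41.Basic
import Cfsg.Agent.Coprime.Centralize
import Cfsg.Agent.S1959

/-!
# Control of strong fusion by functors: reduction to constrained groups

If a family of functors on `p`-groups controls strong fusion in all proper subgroups and all proper
quotients of `G`, and `G` is not `p`-constrained with trivial `p'`-core, it controls strong fusion
in `G`.
-/

set_option autoImplicit false
set_option linter.unusedSectionVars false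
set_option linter.style.haveILetI false

namespace Cfsg.Agent.Fusion

open Subgroup
open H48 (limg Steps Agree cj IsSylowIn)
open scoped commutatorElement

universe u

/-- Steps are carried along homomorphisms. -/
theorem steps_map {G H : Type*} [Group G] [Group H] (f : G →* H) {M T : Set G} {M' T' : Set H}
    (hM : Set.MapsTo f M M') (hT : Set.MapsTo f T T') {A : Set G} {g : G} (h : Steps M T A g) :
    Steps M' T' (f '' A) (f g) := by
  induction h with
  | nil A hA =>
    rw [map_one]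
    exact Steps.nil _ ((Set.image_mono hA).trans hT.image_subset)
  | cons A x g hA hx _ ih =>
    rw [map_mul]
    refine Steps.cons _ _ _ ((Set.image_mono hA).trans hT.image_subset) (hM hx) ?_
    convert ih using 1
    simp only [limg, Set.image_image, map_mul, map_inv]

/-- Agreement is carried along homomorphisms. -/
theorem agree_map {G H : Type*} [Group G] [Group H] (f : G →* H) {M T : Set G} {M' T' : Set H}
    (hM : Set.MapsTo f M M') (hT : Set.MapsTo f T T') {A : Set G} {g : G} (h : Agree M T A g) :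
    Agree M' T' (f '' A) (f g) := by
  obtain ⟨k, hk, he⟩ := h
  refine ⟨f k, steps_map f hM hT hk, ?_⟩
  rintro _ ⟨a, ha, rfl⟩
  rw [← map_inv, ← map_mul, ← map_mul, he a ha]
  simp

theorem agree_congr {G : Type*} [Group G] {M T A : Set G} {g g' : G} (h : Agree M T A g)
    (he : ∀ a ∈ A, g * a * g⁻¹ = g' * a * g'⁻¹) : Agree M T A g' := by
  obtain ⟨k, hk, hke⟩ := h
  exact ⟨k, hk, fun a ha => (hke a ha).trans (he a ha)⟩

variable (𝓦 : Set (∀ (Q : Type u) [Group Q], Subgroup Q))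

/-- The elements allowed as steps at the Sylow subgroup `S`. -/
def JW {G : Type u} [Group G] (S : Subgroup G) : Set G :=
  {x | ∃ W ∈ 𝓦, x ∈ normalizer ((inducedFunctor W S : Subgroup G) : Set G)}

/-- `𝓦` controls strong fusion in `G`. -/
def SCtl (p : ℕ) (G : Type u) [Group G] : Prop :=
  ∀ (S : Sylow p G) (A : Set G) (h : G), A ⊆ (S : Subgroup G) → limg A h ⊆ (S : Subgroup G) →
    Agree (JW 𝓦 (S : Subgroup G)) ((S : Subgroup G) : Set G) A h

variable {𝓦} {p : ℕ} {G : Type u} [Group G]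

theorem mapsTo_JW {H : Type u} [Group H] (f : G →* H) (hf : Function.Injective f)
    (h𝓦 : ∀ W ∈ 𝓦, IsCharPFunctor.{u} p W) {S : Subgroup G} [Finite S] (hS : IsPGroup p S) :
    Set.MapsTo f (JW 𝓦 S) (JW 𝓦 (S.map f)) := by
  rintro x ⟨W, hW, hx⟩
  refine ⟨W, hW, ?_⟩
  rw [inducedFunctor_map (h𝓦 W hW) f hf hS]
  exact le_normalizer_map f ⟨x, hx, rfl⟩

theorem mapsTo_coe_map {H : Type u} [Group H] (f : G →* H) (S : Subgroup G) :
    Set.MapsTo f (S : Set G) ((S.map f : Subgroup H) : Set H) := fun x hx => ⟨x, hx, rfl⟩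

theorem isConjugacyFunctor_inducedFunctor [Finite G] {W : ∀ (Q : Type u) [Group Q], Subgroup Q}
    (hW : IsCharPFunctor.{u} p W) : IsConjugacyFunctor p (inducedFunctor (G := G) W) :=
  fun P hP => ⟨inducedFunctor_le P, fun hne => inducedFunctor_ne_bot hW hP hne,
    fun g => inducedFunctor_map hW _ (MulAut.conj g).injective hP⟩

variable [Finite G] [Fact p.Prime]

theorem sctl_iff (h𝓦 : ∀ W ∈ 𝓦, IsCharPFunctor.{u} p W) :
    FamilyControlsStrongFusionIn p ((fun W => inducedFunctor (G := G) W) '' 𝓦) ⊤ ↔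
      SCtl 𝓦 p G := by
  constructor
  · rintro ⟨T, -, hTp, hTi, hT⟩ S A h hA hA'
    rw [relIndex_top_right] at hTi
    let T' : Sylow p G := hTp.toSylow hTi
    obtain ⟨g, hg⟩ := MulAction.exists_smul_eq G T' S
    have hgS : (S : Subgroup G) = T.map (MulAut.conj g).toMonoidHom := by rw [← hg]; rfl
    obtain ⟨n, c, h0, hs, hi, hl⟩ := hT (limg A g⁻¹) (g⁻¹ * h * g) (mem_top _) (by
        rintro _ ⟨a, ha, rfl⟩
        obtain ⟨t, ht, hta⟩ := hgS.le (hA ha)
        simpa [← hta, mul_assoc] using ht) (by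
        rintro _ ⟨_, ⟨a, ha, rfl⟩, rfl⟩
        obtain ⟨t, ht, hta⟩ := hgS.le (hA' ⟨a, ha, rfl⟩)
        have h2 : t = g⁻¹ * (h * a * h⁻¹) * g := by
          have h3 : g * t * g⁻¹ = h * a * h⁻¹ := hta
          rw [← h3]; group
        simpa [h2, mul_assoc] using ht)
    have h1 : Agree (JW 𝓦 T) (T : Set G) (limg A g⁻¹) (g⁻¹ * h * g) :=
      ⟨c (Fin.last n), Steps.of_def n _ c h0 (fun i => by
        obtain ⟨_, ⟨W, hW, rfl⟩, hx⟩ := hs i
        exact ⟨W, hW, hx.2⟩) hi, hl⟩
    have h2 := agree_map (MulAut.conj g).toMonoidHom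
      (mapsTo_JW _ (MulAut.conj g).injective h𝓦 hTp) (mapsTo_coe_map _ T) h1
    rw [← hgS] at h2
    convert h2 using 1
    · simp [limg, Set.image_image, MulAut.conj_apply, mul_assoc]
    · simp [MulAut.conj_apply, mul_assoc]
  · intro hc
    let S : Sylow p G := default
    refine ⟨S, le_top, S.isPGroup', by rw [relIndex_top_right]; exact S.not_dvd_index,
      fun A h _ hA hA' => ?_⟩
    obtain ⟨k, hk, he⟩ := hc S A h hA hA'
    obtain ⟨n, c, h0, hs, hi, hl⟩ := hk.to_def
    refine ⟨n, c, h0, fun i => ?_, hi, fun a ha => by rw [hl]; exact he a ha⟩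
    obtain ⟨W, hW, hx⟩ := hs i
    exact ⟨_, ⟨W, hW, rfl⟩, mem_top _, hx⟩

theorem SCtl.congr {H : Type u} [Group H] (e : G ≃* H)
    (h𝓦 : ∀ W ∈ 𝓦, IsCharPFunctor.{u} p W) (hc : SCtl 𝓦 p G) : SCtl 𝓦 p H := by
  intro S A h hA hA'
  obtain ⟨R, hR⟩ := sylow_map_equiv e S
  have hpre : ∀ y ∈ (S : Subgroup H), e.symm y ∈ (R : Subgroup G) := by
    intro y hy
    obtain ⟨r, hr, hre⟩ := hR.ge hy
    rw [← hre, show e.symm (e.toMonoidHom r) = r from e.symm_apply_apply r]
    exact hr
  have h1 := hc R (e.symm '' A) (e.symm h) (by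
      rintro _ ⟨a, ha, rfl⟩; exact hpre a (hA ha)) (by
      rintro _ ⟨_, ⟨a, ha, rfl⟩, rfl⟩
      have h0 := hpre _ (hA' ⟨a, ha, rfl⟩)
      rw [map_mul, map_mul, map_inv] at h0
      exact h0)
  have h2 := agree_map e.toMonoidHom (mapsTo_JW _ e.injective h𝓦 R.isPGroup')
    (mapsTo_coe_map _ (R : Subgroup G)) h1
  rw [hR] at h2
  simpa [Set.image_image] using h2

/-- Control in a subgroup `K` with Sylow subgroup `R`, read in the ambient group. -/
theorem agree_of_subgroup (h𝓦 : ∀ W ∈ 𝓦, IsCharPFunctor.{u} p W) {K R : Subgroup G}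
    (hR : IsSylowIn p R K) (hK : SCtl 𝓦 p K) {A : Set G} {h : G} (hA : A ⊆ R) (hh : h ∈ K)
    (hA' : limg A h ⊆ R) : Agree (JW 𝓦 R ∩ K) (R : Set G) A h := by
  have h1 := hK hR.toSylow (K.subtype ⁻¹' A) ⟨h, hh⟩ (fun a ha => hA ha)
    (by rintro _ ⟨a, ha, rfl⟩; exact hA' ⟨(a : G), ha, rfl⟩)
  have hmap : ((hR.toSylow : Subgroup K)).map K.subtype = R := map_subgroupOf_eq_of_le hR.le
  have hM : Set.MapsTo K.subtype (JW 𝓦 (hR.toSylow : Subgroup K)) (JW 𝓦 R ∩ K) := fun x hx =>
    ⟨hmap ▸ mapsTo_JW _ K.subtype_injective h𝓦 hR.toSylow.isPGroup' hx, x.2⟩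
  have h2 := agree_map K.subtype hM
    (T' := (R : Set G)) (fun x hx => hmap ▸ mapsTo_coe_map _ _ hx) h1
  rwa [Set.image_preimage_eq_of_subset (fun a ha => ⟨⟨a, hR.le (hA ha)⟩, rfl⟩)] at h2

theorem isSylowIn_of_le (S : Sylow p G) {K : Subgroup G} (hSK : (S : Subgroup G) ≤ K) :
    IsSylowIn p (S : Subgroup G) K :=
  ⟨hSK, S.isPGroup', fun hd => S.not_dvd_index (hd.trans (relIndex_dvd_index_of_le hSK))⟩

/-- Proper subgroups above `S` are harmless. -/
theorem agree_proper (h𝓦 : ∀ W ∈ 𝓦, IsCharPFunctor.{u} p W) (S : Sylow p G) {K : Subgroup G}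
    (hK : SCtl 𝓦 p K) (hSK : (S : Subgroup G) ≤ K) {A : Set G} {h : G}
    (hA : A ⊆ (S : Subgroup G)) (hh : h ∈ K) (hA' : limg A h ⊆ (S : Subgroup G)) :
    Agree (JW 𝓦 (S : Subgroup G)) ((S : Subgroup G) : Set G) A h := by
  have h1 := agree_map (MonoidHom.id G) (M' := JW 𝓦 (S : Subgroup G)) (fun x hx => hx.1)
    (Set.mapsTo_id _) (agree_of_subgroup h𝓦 (isSylowIn_of_le S hSK) hK hA hh hA')
  simpa using h1

/-- A normal subgroup of order prime to `p` does not affect control of strong fusion. -/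
theorem sctl_of_quotient_coprime (h𝓦 : ∀ W ∈ 𝓦, IsCharPFunctor.{u} p W) {E : Subgroup G}
    [E.Normal] (hE : ¬ p ∣ Nat.card E) (hq : SCtl 𝓦 p (G ⧸ E)) : SCtl 𝓦 p G := by
  have hp : p.Prime := Fact.out
  intro S A h hA hA'
  set π := QuotientGroup.mk' E with hπdef
  have hπ : Function.Surjective π := QuotientGroup.mk'_surjective E
  have hone : ∀ x ∈ (S : Subgroup G), π x = 1 → x = 1 := by
    intro x hx h1
    obtain ⟨k, hk⟩ := IsPGroup.iff_orderOf.mp S.isPGroup' ⟨x, hx⟩
    rw [Subgroup.orderOf_mk] at hk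
    exact orderOf_eq_one_iff.mp (Nat.eq_one_of_dvd_coprimes
      ((hp.coprime_iff_not_dvd.mpr hE).pow_left k) (hk ▸ dvd_rfl)
      (E.orderOf_dvd_natCard ((QuotientGroup.eq_one_iff x).mp h1)))
  let Sb : Sylow p (G ⧸ E) := S.mapSurjective hπ
  have hSb : (Sb : Subgroup (G ⧸ E)) = (S : Subgroup G).map π := rfl
  have lift : ∀ (Ab : Set (G ⧸ E)) (gb : G ⧸ E),
      Steps (JW 𝓦 (Sb : Subgroup (G ⧸ E))) ((Sb : Subgroup (G ⧸ E)) : Set (G ⧸ E)) Ab gb →
      ∀ B : Set G, B ⊆ (S : Subgroup G) → π '' B = Ab →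
        ∃ g, Steps (JW 𝓦 (S : Subgroup G)) ((S : Subgroup G) : Set G) B g ∧ π g = gb := by
    intro Ab gb hst
    induction hst with
    | nil Ab _ => exact fun B hB _ => ⟨1, Steps.nil B hB, map_one _⟩
    | cons Ab xb gb hAb hxb hst ih =>
      intro B hB hBA
      obtain ⟨W, hW, hx⟩ := hxb
      rw [hSb, inducedFunctor_map_of_injOn (h𝓦 W hW) π S.isPGroup' hone,
        normalizer_map_mk'_of_coprime hE (S.isPGroup'.to_le (inducedFunctor_le _))] at hx
      obtain ⟨n, hn, rfl⟩ := hx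
      set N := normalizer ((inducedFunctor W (S : Subgroup G) : Subgroup G) : Set G) with hN
      have hSN : (S : Subgroup G) ≤ N := le_normalizer_inducedFunctor (h𝓦 W hW) S.isPGroup'
      set L := N ⊓ ((S : Subgroup G) ⊔ E) with hL
      have hsub : limg B n ⊆ L := by
        rintro _ ⟨b, hb, rfl⟩
        refine mem_inf.mpr ⟨mul_mem (mul_mem hn (hSN (hB hb))) (inv_mem hn), ?_⟩
        have h1 : π n * π b * (π n)⁻¹ ∈ (Sb : Subgroup (G ⧸ E)) :=
          hst.subset ⟨π b, hBA ▸ ⟨b, hb, rfl⟩, rfl⟩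
        rw [hSb] at h1
        have h2 : n * b * n⁻¹ ∈ ((S : Subgroup G).map π).comap π := by simpa using h1
        rwa [comap_map_eq, QuotientGroup.ker_mk'] at h2
      have hPp : IsPGroup p (closure (limg B n)) := by
        refine (S.isPGroup'.map (MulAut.conj n).toMonoidHom).to_le ((closure_le _).mpr ?_)
        rintro _ ⟨b, hb, rfl⟩
        exact ⟨b, hB hb, rfl⟩
      obtain ⟨m, ⟨hmN, hmSE⟩, hm⟩ := (isSylowIn_of_le S (le_inf hSN le_sup_left)).exists_cj_le
        hPp ((closure_le _).mpr hsub)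
      obtain ⟨s, hs, e, he, rfl⟩ := mem_sup_of_normal_right.mp hmSE
      have heN : e ∈ N := by simpa using mul_mem (inv_mem (hSN hs)) hmN
      have hB' : limg B (e * n) ⊆ (S : Subgroup G) := by
        rintro _ ⟨b, hb, rfl⟩
        have h1 : s * e * (n * b * n⁻¹) * (s * e)⁻¹ ∈ (S : Subgroup G) :=
          hm ⟨_, subset_closure ⟨b, hb, rfl⟩, rfl⟩
        have h2 := mul_mem (mul_mem (inv_mem hs) h1) hs
        rw [show s⁻¹ * (s * e * (n * b * n⁻¹) * (s * e)⁻¹) * s = e * n * b * (e * n)⁻¹ by group] at h2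
        exact h2
      have hen : π (e * n) = π n := by
        rw [map_mul, show π e = 1 from (QuotientGroup.eq_one_iff e).mpr he, one_mul]
      obtain ⟨g, hg, hgb⟩ := ih (limg B (e * n)) hB' (by
        rw [← hBA]
        simp only [limg, Set.image_image, map_mul, map_inv]
        refine Set.image_congr fun b _ => ?_
        rw [show π e = 1 from (QuotientGroup.eq_one_iff e).mpr he, one_mul])
      exact ⟨g * (e * n), Steps.cons B _ g hB ⟨W, hW, mul_mem heN hn⟩ hg, by
        rw [map_mul, hgb, hen]⟩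
  obtain ⟨gb, hgb, he⟩ := hq Sb (π '' A) (π h) (by
      rintro _ ⟨a, ha, rfl⟩; exact ⟨a, hA ha, rfl⟩) (by
      rintro _ ⟨_, ⟨a, ha, rfl⟩, rfl⟩
      exact ⟨_, hA' ⟨a, ha, rfl⟩, by simp⟩)
  obtain ⟨g, hg, rfl⟩ := lift _ _ hgb A hA rfl
  refine ⟨g, hg, fun a ha => ?_⟩
  have h1 := he (π a) ⟨a, ha, rfl⟩
  refine (inv_mul_eq_one.mp (hone _ (mul_mem (inv_mem (hA' ⟨a, ha, rfl⟩))
    (hg.subset_limg ⟨a, ha, rfl⟩)) ?_)).symm
  simp only [map_mul, map_inv]
  rw [h1]
  group

/-- The case `G = S C(Q)`, where `Q = O_p(G)`: control in `G ⧸ Q` and in proper subgroups is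
enough. -/
theorem sctl_of_central_core (h𝓦 : ∀ W ∈ 𝓦, IsCharPFunctor.{u} p W) (S : Sylow p G)
    (hsub : ∀ K : Subgroup G, K ≠ ⊤ → SCtl 𝓦 p K) (hq : SCtl 𝓦 p (G ⧸ pCore p G))
    (hS : (S : Subgroup G) ≠ pCore p G)
    (hSC : (S : Subgroup G) ⊔ centralizer ((pCore p G : Subgroup G) : Set G) = ⊤) :
    ∀ (A : Set G) (h : G), (pCore p G : Set G) ⊆ A → A ⊆ (S : Subgroup G) →
      limg A h ⊆ (S : Subgroup G) → Agree (JW 𝓦 (S : Subgroup G)) ((S : Subgroup G) : Set G) A h := by
  have hp : p.Prime := Fact.out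
  set Q := pCore p G with hQdef
  haveI : Q.Normal := normal_of_characteristic _
  have hQS : Q ≤ (S : Subgroup G) := Cores.pCore_le_sylow S
  have hSne : (S : Subgroup G) ≠ ⊤ := fun ht => hS (le_antisymm
    (by haveI : (S : Subgroup G).Normal := ht ▸ inferInstance
        exact Cores.le_pCore S.isPGroup') hQS)
  set C := centralizer (Q : Set G) with hC
  have hstepS : ∀ (A : Set G) (s : G), A ⊆ (S : Subgroup G) → s ∈ (S : Subgroup G) →
      Agree (JW 𝓦 (S : Subgroup G)) ((S : Subgroup G) : Set G) A s := by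
    intro A s hA hs
    refine agree_proper h𝓦 S (hsub _ hSne) le_rfl hA hs ?_
    rintro _ ⟨a, ha, rfl⟩
    exact mul_mem (mul_mem hs (hA ha)) (inv_mem hs)
  set π := QuotientGroup.mk' Q with hπdef
  have hπ : Function.Surjective π := QuotientGroup.mk'_surjective Q
  let Sb : Sylow p (G ⧸ Q) := S.mapSurjective hπ
  have hSb : (Sb : Subgroup (G ⧸ Q)) = (S : Subgroup G).map π := rfl
  have hcomapS : ((S : Subgroup G).map π).comap π = (S : Subgroup G) := by
    rw [comap_map_eq, QuotientGroup.ker_mk', sup_eq_left.mpr hQS]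
  -- the steps of `G ⧸ Q` lie in proper subgroups above `S`
  have lift : ∀ (Ab : Set (G ⧸ Q)) (gb : G ⧸ Q),
      Steps (JW 𝓦 (Sb : Subgroup (G ⧸ Q))) ((Sb : Subgroup (G ⧸ Q)) : Set (G ⧸ Q)) Ab gb →
      ∀ B : Set G, B ⊆ (S : Subgroup G) → π '' B = Ab →
        ∃ g, Agree (JW 𝓦 (S : Subgroup G)) ((S : Subgroup G) : Set G) B g ∧ π g = gb := by
    intro Ab gb hst
    induction hst with
    | nil Ab _ => exact fun B hB _ => ⟨1, ⟨1, Steps.nil B hB, fun _ _ => rfl⟩, map_one _⟩
    | cons Ab xb gb hAb hxb hst ih =>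
      intro B hB hBA
      obtain ⟨W, hW, hx⟩ := hxb
      set X := inducedFunctor W (Sb : Subgroup (G ⧸ Q)) with hX
      set K := (normalizer (X : Set (G ⧸ Q))).comap π with hK
      have hSK : (S : Subgroup G) ≤ K := by
        rw [hK, ← map_le_iff_le_comap, ← hSb]
        exact le_normalizer_inducedFunctor (h𝓦 W hW) Sb.isPGroup'
      have hSbne : (Sb : Subgroup (G ⧸ Q)) ≠ ⊥ := by
        rw [hSb]
        intro hb
        rw [Subgroup.map_eq_bot_iff, QuotientGroup.ker_mk'] at hb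
        exact hS (le_antisymm hb hQS)
      have hKne : K ≠ ⊤ := by
        intro hKtop
        have hN : normalizer (X : Set (G ⧸ Q)) = ⊤ := by
          apply comap_injective hπ; rw [comap_top]; exact hKtop
        haveI : X.Normal := normalizer_eq_top_iff.mp hN
        haveI : (X.comap π).Normal := Subgroup.Normal.comap inferInstance π
        have h1 : X.comap π ≤ (S : Subgroup G) := by
          refine (comap_mono ((inducedFunctor_le _).trans hSb.le)).trans hcomapS.le
        refine inducedFunctor_ne_bot (h𝓦 W hW) Sb.isPGroup' hSbne ?_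
        rw [← hX, ← map_comap_eq_self_of_surjective hπ X, Subgroup.map_eq_bot_iff,
          QuotientGroup.ker_mk']
        exact Cores.le_pCore (S.isPGroup'.to_le h1)
      obtain ⟨x, rfl⟩ := hπ xb
      have hB' : limg B x ⊆ (S : Subgroup G) := by
        rintro _ ⟨b, hb, rfl⟩
        rw [SetLike.mem_coe, ← hcomapS, mem_comap, ← hSb, map_mul, map_mul, map_inv]
        exact hst.subset ⟨π b, hBA ▸ ⟨b, hb, rfl⟩, rfl⟩
      obtain ⟨g, hg, hgb⟩ := ih (limg B x) hB' (by
        rw [← hBA]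
        simp only [limg, Set.image_image, map_mul, map_inv])
      exact ⟨g * x, (agree_proper h𝓦 S (hsub K hKne) hSK hB hx hB').trans hg, by
        rw [map_mul, hgb]⟩
  -- downward induction on subgroups containing `Q`
  suffices key : ∀ (d : ℕ) (V : Subgroup G), Nat.card (S : Subgroup G) - Nat.card V = d →
      Q ≤ V → V ≤ (S : Subgroup G) → ∀ g : G, cj g V ≤ (S : Subgroup G) →
      Agree (JW 𝓦 (S : Subgroup G)) ((S : Subgroup G) : Set G) (V : Set G) g by
    intro A h hQA hA hA'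
    refine (key _ (closure A) rfl (fun x hx => subset_closure (hQA hx)) ((closure_le _).mpr hA)
      h ?_).mono subset_closure
    rw [show cj h (closure A) = _ from MonoidHom.map_closure _ A, closure_le]
    exact hA'
  intro d
  induction d using Nat.strong_induction_on with
  | _ d ih =>
  intro V hd hQV hVS g hg
  have hbig : ∀ V' : Subgroup G, Nat.card V < Nat.card V' → Q ≤ V' → V' ≤ (S : Subgroup G) →
      ∀ g : G, cj g V' ≤ (S : Subgroup G) →
      Agree (JW 𝓦 (S : Subgroup G)) ((S : Subgroup G) : Set G) (V' : Set G) g := by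
    intro V' hlt h1 h2
    refine ih _ ?_ V' rfl h1 h2
    have := card_le_of_le h2
    omega
  by_cases hVeq : V = (S : Subgroup G)
  · subst hVeq
    have hgN : g ∈ normalizer ((S : Subgroup G) : Set G) :=
      H48.mem_normalizer_of_cj_eq (H48.cj_eq_self_of_le hg)
    refine agree_proper h𝓦 S (hsub _ ?_) le_normalizer subset_rfl hgN
      (by rw [H48.limg_coe]; exact hg)
    intro hn
    haveI := normalizer_eq_top_iff.mp hn
    exact hS (le_antisymm (Cores.le_pCore S.isPGroup') hQS)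
  -- move `V` to an extremal position
  obtain ⟨k, hk1, hk2, hk3⟩ := exists_extremal S hVS
  set U := cj k V with hU
  have hQU : Q ≤ U := fun q hq => by
    refine H48.mem_cj.mpr (hQV ?_)
    simpa using (inferInstance : Q.Normal).conj_mem q hq k⁻¹
  set R := (S : Subgroup G) ⊓ normalizer (U : Set G) with hR
  have hRsyl : IsSylowIn p R (normalizer (U : Set G)) :=
    ⟨inf_le_right, S.isPGroup'.to_le inf_le_left, hk3⟩
  have hQN : ∀ T : Subgroup G, T ≤ (S : Subgroup G) → Q ≤ T →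
      Q ≤ (S : Subgroup G) ⊓ normalizer (T : Set G) :=
    fun T _ hQT => le_inf hQS (hQT.trans le_normalizer)
  have r₁ : Agree (JW 𝓦 (S : Subgroup G)) ((S : Subgroup G) : Set G) (V : Set G) k := by
    have hlt := H48.card_lt_card_inf_normalizer S.isPGroup' hVS hVeq
    exact (hbig _ hlt (hQN V hVS hQV) inf_le_left k hk2).mono (le_inf hVS le_normalizer : V ≤ _)
  set T := cj g V with hT
  have hTne : T ≠ (S : Subgroup G) := fun he => hVeq
    (H48.eq_of_le_of_card_le hVS (by rw [← he, hT, H48.card_cj]))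
  have hQT : Q ≤ T := fun q hq => by
    refine H48.mem_cj.mpr (hQV ?_)
    simpa using (inferInstance : Q.Normal).conj_mem q hq g⁻¹
  have hTU : cj (k * g⁻¹) T = U := by rw [hT, H48.cj_cj, inv_mul_cancel_right]
  obtain ⟨m, hm, hmR⟩ := hRsyl.exists_cj_le
    (H48.isPGroup_cj (g := k * g⁻¹) (S.isPGroup'.to_le (inf_le_left :
      (S : Subgroup G) ⊓ normalizer (T : Set G) ≤ S)))
    (show cj (k * g⁻¹) ((S : Subgroup G) ⊓ (normalizer (T : Set G) : Subgroup G)) ≤ (normalizer (U : Set G) : Subgroup G) by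
      rw [← hTU, ← H48.cj_normalizer (k * g⁻¹) T]; exact Subgroup.map_mono inf_le_right)
  set h₂ := m * (k * g⁻¹) with hh₂
  rw [H48.cj_cj] at hmR
  have hTU' : cj h₂ T = U := by rw [← H48.cj_cj, hTU, H48.cj_eq_of_mem_normalizer hm]
  have r₂ : Agree (JW 𝓦 (S : Subgroup G)) ((S : Subgroup G) : Set G) (U : Set G) h₂⁻¹ := by
    have hlt := H48.card_lt_card_inf_normalizer S.isPGroup' hg hTne
    refine (hbig (cj h₂ ((S : Subgroup G) ⊓ normalizer (T : Set G))) ?_ ?_
      (hmR.trans inf_le_left) h₂⁻¹ (by rw [H48.cj_inv_cj]; exact inf_le_left)).mono ?_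
    · rw [H48.card_cj]; rw [hT, H48.card_cj] at hlt; exact hlt
    · exact hQU.trans (hTU' ▸ H48.cj_mono (le_inf hg le_normalizer))
    · exact hTU' ▸ H48.cj_mono (le_inf hg le_normalizer)
  set y := h₂ * g * k⁻¹ with hy
  have hyN : y ∈ normalizer (U : Set G) := by
    refine H48.mem_normalizer_of_cj_eq ?_
    rw [hy, hU, H48.cj_cj, inv_mul_cancel_right, ← H48.cj_cj, ← hT, hTU']
  have r₃ : Agree (JW 𝓦 (S : Subgroup G)) ((S : Subgroup G) : Set G) (U : Set G) y := by
    by_cases hUQ : normalizer (U : Set G) = ⊤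
    · haveI := normalizer_eq_top_iff.mp hUQ
      have hUeq : U = Q := le_antisymm (Cores.le_pCore (S.isPGroup'.to_le hk1)) hQU
      have hy' : y ∈ (S : Subgroup G) ⊔ C := hSC ▸ mem_top y
      obtain ⟨s, hs, c, hc, hsc⟩ := mem_sup_of_normal_right.mp hy'
      refine agree_congr (hstepS _ s hk1 hs) fun a ha => ?_
      have h1 : c * a = a * c := (mem_centralizer_iff.mp hc a (hUeq ▸ ha)).symm
      rw [← hsc]
      calc s * a * s⁻¹ = s * (c * a * c⁻¹) * s⁻¹ := by rw [h1, mul_inv_cancel_right]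
        _ = s * c * a * (s * c)⁻¹ := by group
    -- the quotient by `Q`
    obtain ⟨gb, hgb, hgbe⟩ := hq Sb (π '' (U : Set G)) (π y) (by
        rintro _ ⟨a, ha, rfl⟩; exact ⟨a, hk1 ha, rfl⟩) (by
        rintro _ ⟨_, ⟨a, ha, rfl⟩, rfl⟩
        exact ⟨y * a * y⁻¹, hk1 ((mem_normalizer_iff.mp hyN a).mp ha), by simp⟩)
    obtain ⟨g₀, hg₀, hg₀π⟩ := lift _ _ hgb (U : Set G) hk1 rfl
    have hcong : ∀ a ∈ U, π (g₀ * a * g₀⁻¹) = π (y * a * y⁻¹) := by
      intro a ha
      rw [← hg₀π] at hgbe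
      simpa using hgbe (π a) ⟨a, ha, rfl⟩
    have hg₀N : g₀ ∈ normalizer (U : Set G) := by
      refine H48.mem_normalizer_of_cj_eq (H48.cj_eq_self_of_le (H48.cj_le.mpr fun a ha => ?_))
      have h1 := (QuotientGroup.eq (s := Q)).mp (hcong a ha).symm
      have h2 := mul_mem ((mem_normalizer_iff.mp hyN a).mp ha) (hQU h1)
      simpa [mul_assoc] using h2
    set N := normalizer (U : Set G) with hN
    set L := N ⊓ (centralizer ((U.map π : Subgroup (G ⧸ Q)) : Set (G ⧸ Q))).comap π with hL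
    have hl : g₀⁻¹ * y ∈ L := by
      refine mem_inf.mpr ⟨mul_mem (inv_mem hg₀N) hyN, mem_centralizer_iff.mpr ?_⟩
      rintro _ ⟨a, ha, rfl⟩
      have h1 := hcong a ha
      simp only [map_mul, map_inv] at h1 ⊢
      calc π a * ((π g₀)⁻¹ * π y) = (π g₀)⁻¹ * (π g₀ * π a * (π g₀)⁻¹) * π y := by group
        _ = (π g₀)⁻¹ * (π y * π a * (π y)⁻¹) * π y := by rw [h1]
        _ = (π g₀)⁻¹ * π y * π a := by group
    haveI : (L.subgroupOf N).Normal := by
      refine ⟨fun x hx n => ⟨(n * x * n⁻¹).2, mem_centralizer_iff.mpr ?_⟩⟩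
      rintro _ ⟨a, ha, rfl⟩
      have ha' : (n : G)⁻¹ * a * n ∈ U := (mem_normalizer_iff''.mp n.2 a).mp ha
      have h1 := mem_centralizer_iff.mp hx.2 _ ⟨_, ha', rfl⟩
      simp only [Subgroup.subtype_apply, Subgroup.coe_mul, Subgroup.coe_inv, map_mul, map_inv] at h1 ⊢
      calc π a * (π n * π x * (π n)⁻¹)
          = π n * ((π n)⁻¹ * π a * π n * π x) * (π n)⁻¹ := by group
        _ = π n * (π x * ((π n)⁻¹ * π a * π n)) * (π n)⁻¹ := by rw [h1]
        _ = π n * π x * (π n)⁻¹ * π a := by group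
    -- elements of `L` act on `U` as elements of `S`
    obtain ⟨s, hs, hsa⟩ : ∃ s ∈ R, ∀ a ∈ U,
        s * a * s⁻¹ = (g₀⁻¹ * y) * a * (g₀⁻¹ * y)⁻¹ := by
      let Rn : Sylow p N := hRsyl.toSylow
      obtain ⟨RL, hRL⟩ := Agent.H41.exists_sylow_map_eq_inf Rn (L.subgroupOf N)
      set M := ((centralizer (U : Set G)).subgroupOf N).subgroupOf (L.subgroupOf N) with hMdef
      haveI : ((centralizer (U : Set G)).subgroupOf N).Normal := by
        rw [hN]
        infer_instance
      have hpc : pResidual p (L.subgroupOf N) ≤ M := by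
        refine pResidual_le.mpr fun x hx => ?_
        set b : G := ((x : N) : G) with hb
        have hxb : (orderOf b).Coprime p := by
          rw [hb, Subgroup.orderOf_coe, Subgroup.orderOf_coe]; exact hx
        have hbC : b ∈ C := by
          have h1 : pResidual p G ≤ C := by
            refine pResidual_le_of_quotient (IsPGroup.of_surjective S.isPGroup'
              ((QuotientGroup.mk' C).comp (S : Subgroup G).subtype) fun z => ?_)
            obtain ⟨z, rfl⟩ := QuotientGroup.mk'_surjective C z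
            obtain ⟨t, ht, c, hc, rfl⟩ := mem_sup_of_normal_right.mp
              (hSC ▸ mem_top z : z ∈ (S : Subgroup G) ⊔ C)
            refine ⟨⟨t, ht⟩, ?_⟩
            rw [map_mul, show QuotientGroup.mk' C c = 1 from (QuotientGroup.eq_one_iff c).mpr hc,
              mul_one]
            rfl
          exact h1 (mem_pResidual hxb)
        refine (zpowers_le (g := b) (H := centralizer (U : Set G))).mp ?_
        refine Coprime.le_centralizer_of_commutator_le (N := Q) (zpowers_le.mpr (x : N).2) ?_ ?_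
          (zpowers_le.mpr hbC)
        · obtain ⟨j, hj⟩ := IsPGroup.iff_card.mp (S.isPGroup'.to_le hk1)
          rw [Nat.card_zpowers, hj]
          exact hxb.pow_right j
        · rw [commutator_le]
          intro a ha z hz
          have hz' : π z * π a = π a * π z := by
            obtain ⟨i, rfl⟩ := hz
            have h1 : Commute (π a) (π b) := mem_centralizer_iff.mp x.2.2 _ ⟨a, ha, rfl⟩
            simpa [Commute, SemiconjBy, eq_comm] using (h1.zpow_right i)
          refine (QuotientGroup.eq_one_iff _).mp ?_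
          change π ⁅a, z⁆ = 1
          rw [map_commutatorElement, commutatorElement_eq_one_iff_mul_comm]
          exact hz'.symm
      haveI : M.Normal := by rw [hMdef]; infer_instance
      have htop := sylow_sup_eq_top RL hpc
      obtain ⟨r, hr, c, hc, hrc⟩ := mem_sup_of_normal_right.mp
        (htop ▸ mem_top (⟨⟨g₀⁻¹ * y, hl.1⟩, hl⟩ : L.subgroupOf N) :
          (⟨⟨g₀⁻¹ * y, hl.1⟩, hl⟩ : L.subgroupOf N) ∈ (RL : Subgroup (L.subgroupOf N)) ⊔ M)
      refine ⟨((r : N) : G), (hRL.le ⟨r, hr, rfl⟩).1, fun a ha => ?_⟩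
      have hrc' : ((r : N) : G) * ((c : N) : G) = g₀⁻¹ * y :=
        congrArg (fun z : L.subgroupOf N => ((z : N) : G)) hrc
      have hca : ((c : N) : G) * a = a * ((c : N) : G) := (mem_centralizer_iff.mp hc a ha).symm
      rw [← hrc']
      calc ((r : N) : G) * a * ((r : N) : G)⁻¹
          = ((r : N) : G) * (((c : N) : G) * a * ((c : N) : G)⁻¹) * ((r : N) : G)⁻¹ := by
            rw [hca, mul_inv_cancel_right]
        _ = _ := by group
    have hlU : limg (U : Set G) (g₀⁻¹ * y) = U := by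
      rw [H48.limg_coe, H48.cj_eq_of_mem_normalizer (mul_mem (inv_mem hg₀N) hyN)]
    have h4 : Agree (JW 𝓦 (S : Subgroup G)) ((S : Subgroup G) : Set G) (U : Set G) (g₀⁻¹ * y) :=
      agree_congr (hstepS _ s hk1 hs.1) hsa
    have h5 := h4.trans (hlU.symm ▸ hg₀)
    rwa [mul_inv_cancel_left] at h5
  have r := r₁.trans (show Agree _ _ (limg (V : Set G) k) (h₂⁻¹ * y) by
    rw [H48.limg_coe, ← hU]
    exact r₃.trans (by rw [H48.limg_coe, H48.cj_eq_of_mem_normalizer hyN]; exact r₂))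
  convert r using 1
  rw [hy]
  group

/-- The reduction step: proper subgroups, proper quotients and constrained groups suffice. -/
theorem sctl_step (h𝓦 : ∀ W ∈ 𝓦, IsCharPFunctor.{u} p W)
    (hsub : ∀ K : Subgroup G, K ≠ ⊤ → SCtl 𝓦 p K)
    (hquo : ∀ (R : Subgroup G) [R.Normal], R ≠ ⊥ → SCtl 𝓦 p (G ⧸ R))
    (hcon : centralizer ((pCore p G : Subgroup G) : Set G) ≤ pCore p G → SCtl 𝓦 p G) :
    SCtl 𝓦 p G := by
  by_cases hcon' : centralizer ((pCore p G : Subgroup G) : Set G) ≤ pCore p G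
  · exact hcon hcon'
  by_cases hE : ∃ E : Subgroup G, E.Normal ∧ E ≠ ⊥ ∧ ¬ p ∣ Nat.card E
  · obtain ⟨E, hEn, hEne, hEc⟩ := hE
    exact sctl_of_quotient_coprime h𝓦 hEc (hquo E hEne)
  set Q := pCore p G with hQdef
  haveI : Q.Normal := normal_of_characteristic _
  by_cases hQ : Q = ⊥
  · refine (sctl_iff h𝓦).mp ?_
    refine S1959.result (default : Sylow p G) _ (by
      rintro _ ⟨W, hW, rfl⟩; exact isConjugacyFunctor_inducedFunctor (h𝓦 W hW)) fun T hT hTne _ => ?_
    have hK : normalizer (T : Set G) ≠ ⊤ := fun hn => by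
      haveI := normalizer_eq_top_iff.mp hn
      exact hTne (eq_bot_iff.mpr (hQ ▸ Cores.le_pCore ((default : Sylow p G).isPGroup'.to_le hT)))
    set K := normalizer (T : Set G) with hKdef
    obtain ⟨R, hR, -⟩ := H48.exists_isSylowIn_ge (p := p) (IsPGroup.of_bot (G := G)) (bot_le (a := K))
    refine ⟨R, hR.le, hR.isPGroup, hR.ndvd, fun A h hh hA hA' => ?_⟩
    obtain ⟨k, hk, he⟩ := agree_of_subgroup h𝓦 hR (hsub K hK) hA hh hA'
    obtain ⟨n, c, h0, hs, hi, hl⟩ := hk.to_def
    refine ⟨n, c, h0, fun i => ?_, hi, fun a ha => by rw [hl]; exact he a ha⟩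
    obtain ⟨⟨W, hW, hx⟩, hxK⟩ := hs i
    exact ⟨_, ⟨W, hW, rfl⟩, hxK, hx⟩
  intro S A h hA hA'
  have hQS : Q ≤ (S : Subgroup G) := Cores.pCore_le_sylow S
  set C := centralizer (Q : Set G) with hC
  set D := (S : Subgroup G) ⊓ C with hD
  have hDQ : ¬ D ≤ Q := by
    intro hSC
    have hcc : normalizer ((D.subgroupOf C) : Set C) ≤ centralizer ((D.subgroupOf C) : Set C) :=
      fun c _ => mem_centralizer_iff.mpr fun z hz =>
        Subtype.ext (mem_centralizer_iff.mp c.2 (z : G) (hSC hz))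
    have hsyl : ¬ p ∣ (D.subgroupOf C).index := by
      change ¬ p ∣ D.relIndex C
      rw [hD, inf_relIndex_right]
      exact Agent.H41.not_dvd_relIndex_sylow S C
    let R : Sylow p C :=
      ((S.isPGroup'.to_le (inf_le_left : D ≤ S)).comap_subtype (K := C)).toSylow hsyl
    have hcompl : HasNormalPComplement p C :=
      hasNormalPComplement_of_normalizer_le_centralizer R hcc
    set E := (pResidual p C).map C.subtype with hEdef
    haveI : E.Normal := ConjAct.normal_of_characteristic_of_normal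
    have hEbot : E = ⊥ := by
      by_contra hEne
      refine hE ⟨E, inferInstance, hEne, ?_⟩
      rw [hEdef, card_map_of_injective C.subtype_injective]
      exact hasNormalPComplement_iff_pResidual.mp hcompl
    refine hcon' (Cores.le_pCore ?_)
    have h1 : pResidual p C = ⊥ := (map_eq_bot_iff_of_injective _ C.subtype_injective).mp hEbot
    exact (isPGroup_quotient_pResidual (p := p) (G := C)).of_equiv
      ((QuotientGroup.quotientMulEquivOfEq h1).trans QuotientGroup.quotientBot)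
  have hSQ : (S : Subgroup G) ≠ Q := fun he => hDQ (inf_le_left.trans he.le)
  set N := normalizer (D : Set G) with hN
  have hNne : N ≠ ⊤ := fun hn => by
    haveI := normalizer_eq_top_iff.mp hn
    exact hDQ (Cores.le_pCore (S.isPGroup'.to_le inf_le_left))
  have hSN : (S : Subgroup G) ≤ N := le_normalizer_iff.mpr fun s hs z hz =>
    mem_inf.mpr ⟨mul_mem (mul_mem hs hz.1) (inv_mem hs),
      Subgroup.Normal.conj_mem (inferInstance : C.Normal) z hz.2 s⟩
  by_cases hH : (S : Subgroup G) ⊔ C = ⊤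
  · -- `G = S C`: enlarge the tuple by `Q`
    refine (sctl_of_central_core h𝓦 S hsub (hquo Q hQ) hSQ hH (A ∪ (Q : Set G)) h
      Set.subset_union_right (Set.union_subset hA hQS) ?_).mono Set.subset_union_left
    rintro _ ⟨a, ha | ha, rfl⟩
    · exact hA' ⟨a, ha, rfl⟩
    · exact hQS (Subgroup.Normal.conj_mem (inferInstance : Q.Normal) a ha h)
  -- `G = N C` with both `N` and `S C` proper
  obtain ⟨R, hR⟩ := Agent.H41.exists_sylow_map_eq_inf S C
  have htop := Sylow.normalizer_sup_eq_top R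
  rw [hR, ← hD] at htop
  obtain ⟨n, hn, c, hc, rfl⟩ := mem_sup_of_normal_right.mp
    (htop ▸ mem_top h : h ∈ N ⊔ C)
  set H := (S : Subgroup G) ⊔ C with hHdef
  have hsub1 : limg A c ⊆ ((N ⊓ H : Subgroup G) : Set G) := by
    rintro _ ⟨a, ha, rfl⟩
    refine mem_inf.mpr ⟨?_, mul_mem (mul_mem (mem_sup_right hc) (mem_sup_left (hA ha)))
      (inv_mem (mem_sup_right hc))⟩
    have h1 : n * c * a * (n * c)⁻¹ ∈ (S : Subgroup G) := hA' ⟨a, ha, rfl⟩
    have h2 := mul_mem (mul_mem (inv_mem hn) (hSN h1)) hn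
    simpa [mul_assoc] using h2
  have hPp : IsPGroup p (closure (limg A c)) := by
    refine (S.isPGroup'.map (MulAut.conj c).toMonoidHom).to_le ((closure_le _).mpr ?_)
    rintro _ ⟨a, ha, rfl⟩
    exact ⟨a, hA ha, rfl⟩
  obtain ⟨m, ⟨hmN, hmH⟩, hm⟩ := (isSylowIn_of_le S (le_inf hSN le_sup_left)).exists_cj_le hPp
    ((closure_le _).mpr hsub1)
  have h1 : limg A (m * c) ⊆ (S : Subgroup G) := by
    rintro _ ⟨a, ha, rfl⟩
    have h2 : m * (c * a * c⁻¹) * m⁻¹ ∈ (S : Subgroup G) :=
      hm ⟨_, subset_closure ⟨a, ha, rfl⟩, rfl⟩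
    rw [show m * (c * a * c⁻¹) * m⁻¹ = m * c * a * (m * c)⁻¹ by group] at h2
    exact h2
  have e1 : limg (limg A (m * c)) (n * m⁻¹) = limg A (n * c) := by
    rw [H48.limg_limg]; congr 1; group
  have := (agree_proper h𝓦 S (hsub H hH) le_sup_left hA (mul_mem hmH (mem_sup_right hc)) h1).trans
    (agree_proper h𝓦 S (hsub N hNne) hSN h1 (mul_mem hn (inv_mem hmN)) (e1 ▸ hA'))
  rwa [show n * m⁻¹ * (m * c) = n * c by group] at this

end Cfsg.Agent.Fusion
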