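import Cfsg.Agent.Fusion.TransferControl

/-!
# Induction over the sections `K ⧸ R` of a finite group for control of transfer
-/

set_option autoImplicit false
set_option linter.unusedSectionVars false
set_option linter.style.haveILetI false

namespace Cfsg.Agent.Fusion

open Subgroup

universe u

/-- `H` is isomorphic to a section of `G`. -/
def IsSec (G H : Type u) [Group G] [Group H] : Prop :=
  ∃ (K : Subgroup G) (f : K →* H), Function.Surjective f

variable {𝓦 : Set (∀ (Q : Type u) [Group Q], Subgroup Q)} {p : ℕ} {G : Type u} [Group G]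
  [Finite G] [Fact p.Prime]

theorem isSec_model (K R : Subgroup G) [(R.subgroupOf K).Normal] :
    IsSec G (↥K ⧸ R.subgroupOf K) :=
  ⟨K, QuotientGroup.mk' _, QuotientGroup.mk'_surjective _⟩

theorem IsSec.subgroup {H : Type u} [Group H] (h : IsSec G H) (L : Subgroup H) : IsSec G L := by
  obtain ⟨K, f, hf⟩ := h
  refine ⟨(L.comap f).map K.subtype, (f.subgroupComap L).comp
    ((L.comap f).equivMapOfInjective K.subtype K.subtype_injective).symm.toMonoidHom, ?_⟩
  exact (f.subgroupComap_surjective_of_surjective L hf).comp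
    ((L.comap f).equivMapOfInjective K.subtype K.subtype_injective).symm.surjective

theorem IsSec.quotient {H : Type u} [Group H] (h : IsSec G H) (N : Subgroup H) [N.Normal] :
    IsSec G (H ⧸ N) := by
  obtain ⟨K, f, hf⟩ := h
  exact ⟨K, (QuotientGroup.mk' N).comp f, (QuotientGroup.mk'_surjective N).comp hf⟩

theorem IsSec.exists_model {H : Type u} [Group H] (h : IsSec G H) :
    ∃ (K R : Subgroup G) (_ : (R.subgroupOf K).Normal),
      Nonempty ((↥K ⧸ R.subgroupOf K) ≃* H) := by
  obtain ⟨K, f, hf⟩ := h
  have h1 : (f.ker.map K.subtype).subgroupOf K = f.ker :=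
    comap_map_eq_self_of_injective K.subtype_injective _
  haveI : ((f.ker.map K.subtype).subgroupOf K).Normal := h1.symm ▸ MonoidHom.normal_ker f
  exact ⟨K, f.ker.map K.subtype, inferInstance,
    ⟨(QuotientGroup.quotientMulEquivOfEq h1).trans
      (QuotientGroup.quotientKerEquivOfSurjective f hf)⟩⟩

/-- A nonempty family controls transfer in a `p`-group. -/
theorem ctl_of_isPGroup {H : Type u} [Group H] [Finite H]
    (h𝓦 : ∀ W ∈ 𝓦, IsCharPFunctor.{u} p W) (hne : 𝓦.Nonempty) (hH : IsPGroup p H) :
    Ctl 𝓦 p H := by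
  intro S
  obtain ⟨W, hW⟩ := hne
  have hS : (S : Subgroup H) = ⊤ := by
    have h1 : IsPGroup p (⊤ : Subgroup H) := hH.to_subgroup _
    exact (S.is_maximal' h1 le_top).symm
  refine le_trans ?_ (le_Tj hW _)
  refine le_inf inf_le_right (inf_le_left.trans ?_)
  have h2 := le_normalizer_inducedFunctor (h𝓦 W hW) S.isPGroup'
  rw [hS] at h2 ⊢
  exact commutator_mono h2 h2

/-- If no section is a minimal failure, control of transfer holds in every section. -/
theorem ctl_sections (h𝓦 : ∀ W ∈ 𝓦, IsCharPFunctor.{u} p W)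
    (hp : ∀ (K R : Subgroup G) [(R.subgroupOf K).Normal],
      IsPGroup p (↥K ⧸ R.subgroupOf K) → Ctl 𝓦 p (↥K ⧸ R.subgroupOf K))
    (key : ∀ (K R : Subgroup G) [(R.subgroupOf K).Normal], ∀ S : Sylow p (↥K ⧸ R.subgroupOf K),
      ¬ MinimalFailure 𝓦 S)
    (K R : Subgroup G) [(R.subgroupOf K).Normal] : Ctl 𝓦 p (↥K ⧸ R.subgroupOf K) := by
  suffices h : ∀ n : ℕ, ∀ (K R : Subgroup G) [(R.subgroupOf K).Normal],
      Nat.card (↥K ⧸ R.subgroupOf K) = n → Ctl 𝓦 p (↥K ⧸ R.subgroupOf K) from h _ K R rfl
  intro n
  induction n using Nat.strong_induction_on with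
  | h n IH =>
    intro K R _ hn
    subst hn
    have hsmall : ∀ (H : Type u) [Group H], IsSec G H →
        Nat.card H < Nat.card (↥K ⧸ R.subgroupOf K) → Ctl 𝓦 p H := by
      intro H _ hH hc
      obtain ⟨K', R', hn', ⟨e⟩⟩ := hH.exists_model
      exact (IH _ hc K' R' (Nat.card_congr e.toEquiv)).congr e h𝓦
    set M := ↥K ⧸ R.subgroupOf K with hMdef
    have hM : IsSec G M := isSec_model K R
    intro S
    by_contra hS
    refine key K R S ⟨h𝓦, fun L hL => hsmall _ (hM.subgroup L) ?_,
      fun N _ hN => hsmall _ (hM.quotient N) ?_, ?_, hS⟩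
    · refine lt_of_le_of_ne L.card_le_card_group fun hc => hL ?_
      exact eq_top_of_card_eq L hc
    · have h1 := card_eq_card_quotient_mul_card_subgroup N
      have h2 : 2 ≤ Nat.card N := by
        have := (one_lt_card_iff_ne_bot N).mpr hN
        omega
      have h3 : 0 < Nat.card (M ⧸ N) := Nat.card_pos
      rw [h1]
      exact lt_mul_of_one_lt_right h3 (by omega)
    · by_cases hSt : (S : Subgroup M) = ⊤
      · have hMp : IsPGroup p M := S.isPGroup'.of_equiv
          ((MulEquiv.subgroupCongr hSt).trans Subgroup.topEquiv)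
        have h1 := hp K R hMp S
        refine le_trans ?_ h1
        exact le_inf (commutator_mono le_top le_top) (commutator_le_self _)
      · refine le_trans ?_ (local_le_Tj h𝓦 (le_refl (S : Subgroup M)) S.isPGroup' ?_
          (hsmall _ (hM.subgroup _) ?_))
        · exact le_inf le_rfl (commutator_le_self _)
        · rw [relIndex_self]
          exact (Fact.out : p.Prime).not_dvd_one
        · refine lt_of_le_of_ne (S : Subgroup M).card_le_card_group
            fun hc => hSt ?_
          exact eq_top_of_card_eq _ hc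

namespace MinimalFailure

variable {S : Sylow p G} (h : MinimalFailure 𝓦 S)

include h

theorem not_normal {W : ∀ (Q : Type u) [Group Q], Subgroup Q} (hW : W ∈ 𝓦) :
    ¬ (inducedFunctor (G := G) W (S : Subgroup G)).Normal := fun hn => by
  haveI := hn
  refine h.fails (le_trans ?_ (le_Tj hW _))
  rw [normalizer_eq_top_iff.mpr hn, inf_comm, commutator_def]

theorem ne_pCore (hne : 𝓦.Nonempty) : (S : Subgroup G) ≠ pCore p G := by
  obtain ⟨W, hW⟩ := hne
  intro he
  haveI : (pCore p G).Normal := normal_of_characteristic _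
  refine h.not_normal hW (normalizer_eq_top_iff.mp (eq_top_iff.mpr ?_))
  refine le_trans ?_ (normalizer_le_normalizer_inducedFunctor (h.functor W hW) S.isPGroup')
  rw [he, normalizer_eq_top]

end MinimalFailure

end Cfsg.Agent.Fusion
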