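import Cfsg.Agent.Fusion.StrongControl
import Cfsg.Agent.Fusion.TransferInduction

/-!
# Control of strong fusion from the constrained sections
-/

set_option autoImplicit false
set_option linter.unusedSectionVars false
set_option linter.style.haveILetI false

namespace Cfsg.Agent.Fusion

open Subgroup

universe u

variable {𝓦 : Set (∀ (Q : Type u) [Group Q], Subgroup Q)} {p : ℕ} {G : Type u} [Group G]
  [Finite G] [Fact p.Prime]

/-- Control of strong fusion in all constrained sections gives it in all sections. -/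
theorem sctl_sections (h𝓦 : ∀ W ∈ 𝓦, IsCharPFunctor.{u} p W)
    (hcon : ∀ (K R : Subgroup G) [(R.subgroupOf K).Normal],
      centralizer ((pCore p (↥K ⧸ R.subgroupOf K) : Subgroup (↥K ⧸ R.subgroupOf K)) :
        Set (↥K ⧸ R.subgroupOf K)) ≤ pCore p (↥K ⧸ R.subgroupOf K) →
      SCtl 𝓦 p (↥K ⧸ R.subgroupOf K))
    (K R : Subgroup G) [(R.subgroupOf K).Normal] : SCtl 𝓦 p (↥K ⧸ R.subgroupOf K) := by
  suffices h : ∀ n : ℕ, ∀ (K R : Subgroup G) [(R.subgroupOf K).Normal],
      Nat.card (↥K ⧸ R.subgroupOf K) = n → SCtl 𝓦 p (↥K ⧸ R.subgroupOf K) from h _ K R rfl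
  intro n
  induction n using Nat.strong_induction_on with
  | h n IH =>
    intro K R _ hn
    subst hn
    have hsmall : ∀ (H : Type u) [Group H], IsSec G H →
        Nat.card H < Nat.card (↥K ⧸ R.subgroupOf K) → SCtl 𝓦 p H := by
      intro H _ hH hc
      obtain ⟨K', R', hn', ⟨e⟩⟩ := hH.exists_model
      exact (IH _ hc K' R' (Nat.card_congr e.toEquiv)).congr e h𝓦
    have hM : IsSec G (↥K ⧸ R.subgroupOf K) := isSec_model K R
    refine sctl_step h𝓦 (fun L hL => hsmall _ (hM.subgroup L) ?_)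
      (fun N _ hN => hsmall _ (hM.quotient N) ?_) (hcon K R)
    · exact lt_of_le_of_ne L.card_le_card_group fun hc => hL (eq_top_of_card_eq L hc)
    · rw [card_eq_card_quotient_mul_card_subgroup N]
      have h2 := (one_lt_card_iff_ne_bot N).mpr hN
      exact lt_mul_of_one_lt_right Nat.card_pos h2

/-- The group itself as a section. -/
theorem sctl_self (h𝓦 : ∀ W ∈ 𝓦, IsCharPFunctor.{u} p W)
    (h : ∀ (K R : Subgroup G) [(R.subgroupOf K).Normal], SCtl 𝓦 p (↥K ⧸ R.subgroupOf K)) :
    SCtl 𝓦 p G := by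
  haveI : ((⊥ : Subgroup G).subgroupOf ⊤).Normal := by
    rw [bot_subgroupOf]; infer_instance
  exact (h ⊤ ⊥).congr (((QuotientGroup.quotientMulEquivOfEq (bot_subgroupOf ⊤)).trans
    QuotientGroup.quotientBot).trans topEquiv) h𝓦

end Cfsg.Agent.Fusion
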